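import Cfsg.Agent.Char.Rep
import Cfsg.Agent.Auto.ARepresentation_leftRegular_f92cc9

/-!
# Orthogonality relations, completeness of the irreducible characters, and the
inner-product criteria for characters and generalized characters
-/

set_option autoImplicit false

open Cfsg Module
open scoped ComplexConjugate

namespace CL.Char

section Orth

variable {G : Type*} [Group G] [Fintype G]
variable {V : Type*} [AddCommGroup V] [Module ℂ V] [FiniteDimensional ℂ V]
variable {W : Type*} [AddCommGroup W] [Module ℂ W] [FiniteDimensional ℂ W]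

theorem classInner_char_right (φ : G → ℂ) {χ : G → ℂ} (h : IsCharacter G χ) :
    classInner φ χ = (Nat.card G : ℂ)⁻¹ * ∑ g : G, φ g * χ g⁻¹ := by
  simp only [classInner_def, char_apply_inv h]

/-- the inner product of two characters is the dimension of the space of intertwining maps -/
theorem classInner_character (ρ : Representation ℂ G V) (σ : Representation ℂ G W) :
    classInner σ.character ρ.character = (finrank ℂ (ρ.IntertwiningMap σ) : ℂ) := by
  let : Invertible (Nat.card G : ℂ) := invertibleOfNonzero card_ne_zero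
  rw [classInner_char_right _ (isCharacter_character ρ)]
  exact Representation.card_inv_mul_sum_char_mul_char_eq_finrank ρ σ

theorem classInner_character_one (ρ : Representation ℂ G V) :
    classInner ρ.character (fun _ => 1) = (finrank ℂ ρ.invariants : ℂ) := by
  let : Invertible (Nat.card G : ℂ) := invertibleOfNonzero card_ne_zero
  rw [classInner_one_right]
  exact Representation.card_inv_mul_sum_char_eq_finrank ρ

theorem char_inner_nat {χ ψ : G → ℂ} (hχ : IsCharacter G χ) (hψ : IsCharacter G ψ) :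
    ∃ n : ℕ, classInner χ ψ = n := by
  obtain ⟨n, ρ, rfl⟩ := hχ
  obtain ⟨m, σ, rfl⟩ := hψ
  exact ⟨_, classInner_character σ ρ⟩

theorem char_inner_comm {χ ψ : G → ℂ} (hχ : IsCharacter G χ) (hψ : IsCharacter G ψ) :
    classInner χ ψ = classInner ψ χ := by
  obtain ⟨n, hn⟩ := char_inner_nat hχ hψ
  rw [← conj_classInner χ ψ, hn, map_natCast]

theorem irr_inner_self {χ : G → ℂ} (hχ : IsIrrCharacter G χ) : classInner χ χ = 1 := by
  obtain ⟨n, ρ, hρ, rfl⟩ := hχ
  rw [classInner_character, Representation.IsIrreducible.finrank_intertwiningMap_self, Nat.cast_one]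

theorem irr_inner_of_ne {χ ψ : G → ℂ} (hχ : IsIrrCharacter G χ) (hψ : IsIrrCharacter G ψ)
    (h : χ ≠ ψ) : classInner χ ψ = 0 := by
  obtain ⟨n, ρ, hρ, rfl⟩ := hχ
  obtain ⟨m, σ, hσ, rfl⟩ := hψ
  have : IsEmpty (σ.Equiv ρ) := ⟨fun φ => h (Representation.char_iso φ).symm⟩
  rw [classInner_character, Module.finrank_zero_of_subsingleton, Nat.cast_zero]

open scoped Classical in
/-- first orthogonality relation -/
theorem irr_inner {χ ψ : G → ℂ} (hχ : IsIrrCharacter G χ) (hψ : IsIrrCharacter G ψ) :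
    classInner χ ψ = if χ = ψ then 1 else 0 := by
  split_ifs with h
  · rw [← h, irr_inner_self hχ]
  · exact irr_inner_of_ne hχ hψ h

open scoped Classical in
theorem irrChar_inner (χ ψ : IrrCharacter G) :
    classInner (χ : G → ℂ) ψ = if χ = ψ then 1 else 0 := by
  rw [irr_inner χ.2 ψ.2]
  simp only [Subtype.ext_iff]

theorem irr_eq_of_inner_ne_zero {χ ψ : G → ℂ} (hχ : IsIrrCharacter G χ) (hψ : IsIrrCharacter G ψ)
    (h : classInner χ ψ ≠ 0) : χ = ψ := by
  by_contra hne
  exact h (irr_inner_of_ne hχ hψ hne)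

theorem irr_inner_one {χ : G → ℂ} (hχ : IsIrrCharacter G χ) (h : χ ≠ fun _ => 1) :
    classInner χ (fun _ => 1) = 0 := irr_inner_of_ne hχ irr_one h

theorem irr_sum_eq_zero {χ : G → ℂ} (hχ : IsIrrCharacter G χ) (h : χ ≠ fun _ => 1) :
    ∑ g, χ g = 0 := by
  have := irr_inner_one hχ h
  rw [classInner_one_right, mul_eq_zero] at this
  exact this.resolve_left (inv_ne_zero card_ne_zero)

theorem irr_sum_norm_sq {χ : G → ℂ} (hχ : IsIrrCharacter G χ) :
    ∑ g, ‖χ g‖ ^ 2 = (Nat.card G : ℝ) := by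
  have := congrArg Complex.re (irr_inner_self hχ)
  rw [classInner_self_re, Complex.one_re] at this
  have h0 : (Nat.card G : ℝ) ≠ 0 := Nat.cast_ne_zero.mpr Nat.card_pos.ne'
  field_simp at this
  exact this

/-- irreducible representations with the same character are equivalent -/
theorem nonempty_equiv_of_irreducible (ρ : Representation ℂ G V) (σ : Representation ℂ G W)
    [ρ.IsIrreducible] [σ.IsIrreducible] (h : ρ.character = σ.character) :
    Nonempty (ρ.Equiv σ) := by
  by_contra hne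
  have : IsEmpty (ρ.Equiv σ) := not_nonempty_iff.mp hne
  have h1 := classInner_character ρ σ
  rw [Module.finrank_zero_of_subsingleton, ← h, irr_inner_self (isIrrCharacter_character ρ)] at h1
  simp at h1

/-- The central operator attached to a class function acts on an irreducible representation as a
scalar. -/
theorem sum_smul_rep_eq (ρ : Representation ℂ G V) [ρ.IsIrreducible] {f : G → ℂ}
    (hf : IsClassFunction G f) :
    ∑ g, f g • ρ g = ((∑ g, f g * ρ.character g) / ρ.character 1) • LinearMap.id := by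
  obtain ⟨c, hc⟩ := exists_eq_smul_of_comm ρ (∑ g, f g • ρ g) (by
    intro h v
    simp only [LinearMap.sum_apply, LinearMap.smul_apply, map_sum, map_smul]
    refine (Fintype.sum_equiv (MulAut.conj h).toEquiv _ _ fun g => ?_).symm
    simp only [MulEquiv.toEquiv_eq_coe, EquivLike.coe_coe, MulAut.conj_apply, hf g h]
    rw [← Module.End.mul_apply, ← Module.End.mul_apply, ← map_mul, ← map_mul]
    simp)
  have ht := congrArg (LinearMap.trace ℂ V) hc
  simp only [map_sum, map_smul, smul_eq_mul, LinearMap.trace_id] at ht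
  have h1 : ρ.character 1 ≠ 0 := irr_apply_one_ne_zero (isIrrCharacter_character ρ)
  rw [hc]
  congr 1
  rw [eq_div_iff h1, ρ.char_one, ← ht]; rfl

/-- central character formula -/
theorem irr_sum_mul_apply_mul {χ : G → ℂ} (hχ : IsIrrCharacter G χ) {f : G → ℂ}
    (hf : IsClassFunction G f) (h : G) :
    ∑ g, f g * χ (g * h) = (∑ g, f g * χ g) / χ 1 * χ h := by
  obtain ⟨n, ρ, hρ, rfl⟩ := hχ
  have := congrArg (fun T => LinearMap.trace ℂ _ (T * ρ h)) (sum_smul_rep_eq ρ hf)
  simp only [Finset.sum_mul, smul_mul_assoc, map_sum, map_smul, smul_eq_mul, ← map_mul,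
    ← Module.End.one_eq_id, one_mul] at this
  exact this

/-- generalized orthogonality relation -/
theorem irr_sum_mul_inv_self {χ : G → ℂ} (hχ : IsIrrCharacter G χ) (h : G) :
    ∑ g, χ g⁻¹ * χ (g * h) = (Nat.card G : ℂ) * χ h / χ 1 := by
  rw [irr_sum_mul_apply_mul hχ (classFun_inv (irr_isClassFunction hχ))]
  have := card_mul_classInner χ χ
  rw [irr_inner_self hχ, mul_one] at this
  simp only [char_apply_inv (irr_isCharacter hχ), mul_comm (conj (χ _)), ← this]
  ring

theorem irr_sum_mul_inv_of_ne {χ ψ : G → ℂ} (hχ : IsIrrCharacter G χ) (hψ : IsIrrCharacter G ψ)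
    (hne : χ ≠ ψ) (h : G) : ∑ g, ψ g⁻¹ * χ (g * h) = 0 := by
  rw [irr_sum_mul_apply_mul hχ (classFun_inv (irr_isClassFunction hψ))]
  have := card_mul_classInner χ ψ
  rw [irr_inner_of_ne hχ hψ hne, mul_zero] at this
  simp only [char_apply_inv (irr_isCharacter hψ), mul_comm (conj (ψ _)), ← this]
  simp

/-- averaging over conjugates: `∑ x, χ (a * (x b x⁻¹)) = |G| χ a χ b / χ 1` -/
theorem irr_sum_mul_conj {χ : G → ℂ} (hχ : IsIrrCharacter G χ) (a b : G) :
    ∑ x, χ (a * (x * b * x⁻¹)) = (Nat.card G : ℂ) * χ a * χ b / χ 1 := by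
  obtain ⟨n, ρ, hρ, rfl⟩ := hχ
  obtain ⟨c, hc⟩ := exists_eq_smul_of_comm ρ (∑ x, ρ (x * b * x⁻¹)) (by
    intro h v
    simp only [LinearMap.sum_apply, map_sum]
    refine (Fintype.sum_equiv (Equiv.mulLeft h) _ _ fun g => ?_).symm
    rw [← Module.End.mul_apply, ← Module.End.mul_apply, ← map_mul, ← map_mul]
    simp [mul_assoc])
  have ht := congrArg (LinearMap.trace ℂ _) hc
  have h2 := congrArg (fun T => LinearMap.trace ℂ _ (ρ a * T)) hc
  simp only [map_sum, map_smul, smul_eq_mul, LinearMap.trace_id] at ht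
  simp only [Finset.mul_sum, map_sum, ← map_mul, mul_smul_comm, ← Module.End.one_eq_id, mul_one,
    map_smul, smul_eq_mul] at h2
  have h1 : ρ.character 1 ≠ 0 := irr_apply_one_ne_zero (isIrrCharacter_character ρ)
  have h3 : ∑ x, LinearMap.trace ℂ _ (ρ (x * b * x⁻¹)) = (Nat.card G : ℂ) * ρ.character b := by
    change ∑ x, ρ.character (x * b * x⁻¹) = _
    simp
  rw [eq_div_iff h1]
  change (∑ x, LinearMap.trace ℂ _ (ρ (a * (x * b * x⁻¹)))) * _ = _
  rw [h2, ρ.char_one, mul_right_comm, ← ht, h3]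
  change _ * ρ.character a = _
  ring

end Orth

section Finite

variable {G : Type*} [Group G]

theorem linearIndependent_irr [Finite G] :
    LinearIndependent ℂ (fun χ : IrrCharacter G => (χ : G → ℂ)) := by
  classical
  let := Fintype.ofFinite G
  rw [linearIndependent_iff']
  intro s c hc χ hχ
  have := congrArg (fun φ => classInner φ χ) hc
  simp only [classInner_sum_left, classInner_smul_left, irrChar_inner, classInner_zero_left,
    mul_ite, mul_one, mul_zero, Finset.sum_ite_eq', hχ, if_true] at this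
  exact this

instance instFiniteIrrCharacter [Finite G] : Finite (IrrCharacter G) :=
  (linearIndependent_irr (G := G)).finite

noncomputable instance instFintypeIrrCharacter [Finite G] : Fintype (IrrCharacter G) :=
  Fintype.ofFinite _

theorem finite_setOf_irr [Finite G] : {χ : G → ℂ | IsIrrCharacter G χ}.Finite :=
  Set.finite_coe_iff.mp instFiniteIrrCharacter

/-- the principal character as an element of `IrrCharacter G` -/
def irrOne (G : Type*) [Group G] : IrrCharacter G := ⟨fun _ => 1, irr_one⟩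

theorem irrOne_apply (g : G) : (irrOne G : G → ℂ) g = 1 := rfl

instance instNonemptyIrrCharacter : Nonempty (IrrCharacter G) := ⟨irrOne G⟩

/-- the degree of a character as a natural number -/
noncomputable def deg (χ : G → ℂ) : ℕ := ⌊(χ 1).re⌋₊

theorem deg_eq_of_apply_one {χ : G → ℂ} {n : ℕ} (h : χ 1 = n) : deg χ = n := by
  simp [deg, h]

theorem char_cast_deg {χ : G → ℂ} (h : IsCharacter G χ) : (deg χ : ℂ) = χ 1 := by
  obtain ⟨n, hn⟩ := char_apply_one h
  rw [deg_eq_of_apply_one hn, hn]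

theorem irr_cast_deg {χ : G → ℂ} (h : IsIrrCharacter G χ) : (deg χ : ℂ) = χ 1 :=
  char_cast_deg (irr_isCharacter h)

theorem irr_deg_pos {χ : G → ℂ} (h : IsIrrCharacter G χ) : 0 < deg χ := by
  obtain ⟨n, hn, h⟩ := irr_apply_one h
  rwa [deg_eq_of_apply_one h]

theorem deg_character {V : Type*} [AddCommGroup V] [Module ℂ V] [FiniteDimensional ℂ V]
    (ρ : Representation ℂ G V) : deg ρ.character = finrank ℂ V :=
  deg_eq_of_apply_one ρ.char_one

open scoped Classical in
/-- the regular character -/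
noncomputable def regChar (G : Type*) [Group G] : G → ℂ :=
  fun g => if g = 1 then (Nat.card G : ℂ) else 0

theorem regChar_one : regChar G 1 = Nat.card G := by simp [regChar]

theorem regChar_of_ne {g : G} (h : g ≠ 1) : regChar G g = 0 := by simp [regChar, h]

theorem character_ofMulAction [Finite G] (X : Type*) [MulAction G X] [Finite X] (g : G) :
    (Representation.ofMulAction ℂ G X).character g = Nat.card (MulAction.fixedBy X g) := by
  classical
  let := Fintype.ofFinite X
  rw [Representation.character,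
    LinearMap.trace_eq_matrix_trace ℂ (MonoidAlgebra.basis X ℂ), Matrix.trace]
  simp only [Matrix.diag_apply, LinearMap.toMatrix_apply, MonoidAlgebra.basis_apply,
    Representation.ofMulAction_single]
  rw [Nat.card_eq_fintype_card, Fintype.card_subtype, Finset.card_filter]
  push_cast
  refine Finset.sum_congr rfl fun x _ => ?_
  simp [MonoidAlgebra.basis, Finsupp.single_apply]

/-- permutation characters are characters -/
theorem char_fixedBy [Finite G] (X : Type*) [MulAction G X] [Finite X] :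
    IsCharacter G (fun g => (Nat.card (MulAction.fixedBy X g) : ℂ)) := by
  have : (fun g => (Nat.card (MulAction.fixedBy X g) : ℂ)) =
      (Representation.ofMulAction ℂ G X).character :=
    funext fun g => (character_ofMulAction X g).symm
  rw [this]
  exact isCharacter_character _

theorem character_leftRegular [Finite G] :
    (Representation.leftRegular ℂ G).character = regChar G := by
  funext g
  rw [Representation.leftRegular, character_ofMulAction]
  by_cases h : g = 1
  · subst h; simp [regChar_one]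
  · rw [regChar_of_ne h]
    have : IsEmpty (MulAction.fixedBy G g) := ⟨fun x => h (mul_eq_right.mp (show g * x.1 = x.1 from x.2))⟩
    simp

theorem char_regChar [Finite G] : IsCharacter G (regChar G) := by
  rw [← character_leftRegular]
  exact isCharacter_character _

end Finite

section Complete

variable {G : Type*} [Group G] [Fintype G]

theorem classInner_regChar_left (ψ : G → ℂ) : classInner (regChar G) ψ = conj (ψ 1) := by
  classical
  rw [classInner_def, Finset.sum_eq_single 1 (fun g _ hg => by rw [regChar_of_ne hg, zero_mul])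
    (by simp), regChar_one, ← mul_assoc, inv_mul_cancel₀ card_ne_zero, one_mul]

theorem classInner_regChar_right (ψ : G → ℂ) : classInner ψ (regChar G) = ψ 1 := by
  rw [← conj_classInner, classInner_regChar_left, Complex.conj_conj]

/-- a class function orthogonal to all irreducible characters vanishes -/
theorem classFun_eq_zero_of_inner {ψ : G → ℂ} (hψ : IsClassFunction G ψ)
    (h : ∀ χ, IsIrrCharacter G χ → classInner ψ χ = 0) : ψ = 0 := by
  classical
  have key : ∀ χ, IsCharacter G χ → ∀ x, ∑ g, ψ g⁻¹ * χ (g * x) = 0 := by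
    intro χ hχ
    refine char_induction (P := fun χ => ∀ x, ∑ g, ψ g⁻¹ * χ (g * x) = 0) (by simp) ?_ ?_ hχ
    · intro χ hχ x
      rw [irr_sum_mul_apply_mul hχ (classFun_inv hψ)]
      have h1 := h χ hχ
      rw [classInner_char_right _ (irr_isCharacter hχ), mul_eq_zero] at h1
      have h2 := h1.resolve_left (inv_ne_zero card_ne_zero)
      have h3 : ∑ g, ψ g⁻¹ * χ g = ∑ g, ψ g * χ g⁻¹ :=
        Fintype.sum_equiv (Equiv.inv G) _ _ fun g => by simp
      rw [h3, h2]; simp
    · intro χ χ' _ _ h1 h2 x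
      simp only [Pi.add_apply, mul_add, Finset.sum_add_distrib, h1 x, h2 x, add_zero]
  funext x
  have := key _ char_regChar x
  rw [Finset.sum_eq_single x⁻¹ (fun g _ hg => by
    rw [regChar_of_ne (fun h => hg (eq_inv_of_mul_eq_one_left h)), mul_zero]) (by simp)] at this
  simp only [inv_inv, inv_mul_cancel, regChar_one, mul_eq_zero] at this
  exact this.resolve_right card_ne_zero

theorem classFun_ext {φ ψ : G → ℂ} (hφ : IsClassFunction G φ) (hψ : IsClassFunction G ψ)
    (h : ∀ χ, IsIrrCharacter G χ → classInner φ χ = classInner ψ χ) : φ = ψ :=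
  sub_eq_zero.mp <| classFun_eq_zero_of_inner (classFun_sub hφ hψ) fun χ hχ => by
    rw [classInner_sub_left, h χ hχ, sub_self]

theorem isClassFunction_sum_irr (c : IrrCharacter G → ℂ) :
    IsClassFunction G (∑ χ : IrrCharacter G, c χ • (χ : G → ℂ)) :=
  classFun_sum _ fun χ _ => classFun_smul _ (irr_isClassFunction χ.2)

theorem classInner_sum_irr (c : IrrCharacter G → ℂ) (χ : IrrCharacter G) :
    classInner (∑ φ : IrrCharacter G, c φ • (φ : G → ℂ)) χ = c χ := by
  classical
  simp [classInner_sum_left, classInner_smul_left, irrChar_inner]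

/-- completeness: Fourier expansion of a class function -/
theorem classFun_eq_sum {ψ : G → ℂ} (hψ : IsClassFunction G ψ) :
    ψ = ∑ χ : IrrCharacter G, classInner ψ χ • (χ : G → ℂ) := by
  have h1 := isClassFunction_sum_irr (fun φ : IrrCharacter G => classInner ψ (φ : G → ℂ))
  have h2 := classInner_sum_irr (fun φ : IrrCharacter G => classInner ψ (φ : G → ℂ))
  beta_reduce at h1 h2
  exact classFun_ext hψ h1 fun χ hχ => (h2 ⟨χ, hχ⟩).symm

theorem classFun_apply_eq_sum {ψ : G → ℂ} (hψ : IsClassFunction G ψ) (g : G) :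
    ψ g = ∑ χ : IrrCharacter G, classInner ψ χ * (χ : G → ℂ) g := by
  conv_lhs => rw [classFun_eq_sum hψ]
  simp [Finset.sum_apply]

/-- Parseval -/
theorem classInner_eq_sum {φ : G → ℂ} (hφ : IsClassFunction G φ) (ψ : G → ℂ) :
    classInner φ ψ = ∑ χ : IrrCharacter G, classInner φ χ * conj (classInner ψ χ) := by
  conv_lhs => rw [classFun_eq_sum hφ]
  simp only [classInner_sum_left, classInner_smul_left, conj_classInner]

theorem classInner_self_re_eq_sum {φ : G → ℂ} (hφ : IsClassFunction G φ) :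
    (classInner φ φ).re = ∑ χ : IrrCharacter G, ‖classInner φ χ‖ ^ 2 := by
  rw [classInner_eq_sum hφ]
  simp [Complex.mul_conj, Complex.normSq_eq_norm_sq, -Complex.ofReal_pow]

theorem exists_irr_inner_ne_zero {ψ : G → ℂ} (hψ : IsClassFunction G ψ) (h : ψ ≠ 0) :
    ∃ χ, IsIrrCharacter G χ ∧ classInner ψ χ ≠ 0 := by
  by_contra hc
  push Not at hc
  exact h (classFun_eq_zero_of_inner hψ hc)

/-- if two class functions are not orthogonal they have a common irreducible constituent -/
theorem exists_irr_of_inner_ne_zero {φ ψ : G → ℂ} (hφ : IsClassFunction G φ)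
    (h : classInner φ ψ ≠ 0) :
    ∃ χ, IsIrrCharacter G χ ∧ classInner φ χ ≠ 0 ∧ classInner ψ χ ≠ 0 := by
  rw [classInner_eq_sum hφ] at h
  obtain ⟨χ, -, hχ⟩ := Finset.exists_ne_zero_of_sum_ne_zero h
  exact ⟨χ, χ.2, left_ne_zero_of_mul hχ, by simpa using right_ne_zero_of_mul hχ⟩

theorem char_sum_irr (c : IrrCharacter G → ℕ) :
    IsCharacter G (∑ χ : IrrCharacter G, (c χ : ℂ) • (χ : G → ℂ)) :=
  char_sum _ fun χ _ => char_natCast_smul _ (irr_isCharacter χ.2)

/-- a class function whose inner products with irreducible characters are natural numbers is a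
character -/
theorem char_of_inner_nat {ψ : G → ℂ} (hψ : IsClassFunction G ψ)
    (h : ∀ χ, IsIrrCharacter G χ → ∃ n : ℕ, classInner ψ χ = n) : IsCharacter G ψ := by
  choose c hc using fun χ : IrrCharacter G => h χ χ.2
  rw [classFun_eq_sum hψ]
  simp only [hc]
  exact char_sum_irr c

theorem isCharacter_iff {ψ : G → ℂ} : IsCharacter G ψ ↔
    IsClassFunction G ψ ∧ ∀ χ, IsIrrCharacter G χ → ∃ n : ℕ, classInner ψ χ = n :=
  ⟨fun h => ⟨char_isClassFunction h, fun _ hχ => char_inner_nat h (irr_isCharacter hχ)⟩,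
   fun h => char_of_inner_nat h.1 h.2⟩

theorem char_exists_eq_sum {ψ : G → ℂ} (h : IsCharacter G ψ) :
    ∃ c : IrrCharacter G → ℕ, (∀ χ : IrrCharacter G, classInner ψ χ = c χ) ∧
      ψ = ∑ χ : IrrCharacter G, (c χ : ℂ) • (χ : G → ℂ) := by
  choose c hc using fun χ : IrrCharacter G => char_inner_nat h (irr_isCharacter χ.2)
  refine ⟨c, hc, ?_⟩
  conv_lhs => rw [classFun_eq_sum (char_isClassFunction h)]
  simp only [hc]

/-- removing an irreducible constituent (with any admissible multiplicity) from a character leaves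
a character -/
theorem char_sub_smul_irr {ψ χ : G → ℂ} (hψ : IsCharacter G ψ) (hχ : IsIrrCharacter G χ)
    {m n : ℕ} (hn : classInner ψ χ = n) (hmn : m ≤ n) : IsCharacter G (ψ - (m : ℂ) • χ) := by
  refine char_of_inner_nat (classFun_sub (char_isClassFunction hψ)
    (classFun_smul _ (irr_isClassFunction hχ))) fun φ hφ => ?_
  rw [classInner_sub_left, classInner_smul_left]
  by_cases h : χ = φ
  · subst h
    exact ⟨n - m, by rw [irr_inner_self hχ, hn, Nat.cast_sub hmn, mul_one]⟩
  · rw [irr_inner_of_ne hχ hφ h, mul_zero, sub_zero]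
    exact char_inner_nat hψ (irr_isCharacter hφ)

theorem char_sub_irr {ψ χ : G → ℂ} (hψ : IsCharacter G ψ) (hχ : IsIrrCharacter G χ)
    (h : classInner ψ χ ≠ 0) : IsCharacter G (ψ - χ) := by
  obtain ⟨n, hn⟩ := char_inner_nat hψ (irr_isCharacter hχ)
  have := char_sub_smul_irr hψ hχ (m := 1) hn
    (Nat.pos_of_ne_zero fun h0 => h (by rw [hn, h0, Nat.cast_zero]))
  simpa using this

theorem char_exists_irr_constituent {ψ : G → ℂ} (hψ : IsCharacter G ψ) (h : ψ ≠ 0) :
    ∃ χ, IsIrrCharacter G χ ∧ classInner ψ χ ≠ 0 :=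
  exists_irr_inner_ne_zero (char_isClassFunction hψ) h

theorem regChar_eq_sum : regChar G = ∑ χ : IrrCharacter G, (χ : G → ℂ) 1 • (χ : G → ℂ) := by
  rw [classFun_eq_sum (char_isClassFunction char_regChar)]
  refine Finset.sum_congr rfl fun χ _ => ?_
  obtain ⟨n, -, hn⟩ := irr_apply_one χ.2
  rw [classInner_regChar_left, hn, map_natCast]

end Complete

section Generalized

variable {G : Type*} [Group G]

theorem gen_of_char {χ : G → ℂ} (h : IsCharacter G χ) : IsGeneralizedCharacter G χ :=
  ⟨χ, 0, h, char_zero, (sub_zero χ).symm⟩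

theorem gen_of_irr {χ : G → ℂ} (h : IsIrrCharacter G χ) : IsGeneralizedCharacter G χ :=
  gen_of_char (irr_isCharacter h)

theorem gen_zero : IsGeneralizedCharacter G 0 := gen_of_char char_zero

theorem gen_one : IsGeneralizedCharacter G (fun _ => 1) := gen_of_char char_one

theorem gen_isClassFunction {θ : G → ℂ} (h : IsGeneralizedCharacter G θ) : IsClassFunction G θ := by
  obtain ⟨χ, ψ, hχ, hψ, rfl⟩ := h
  exact classFun_sub (char_isClassFunction hχ) (char_isClassFunction hψ)

theorem gen_neg {θ : G → ℂ} (h : IsGeneralizedCharacter G θ) : IsGeneralizedCharacter G (-θ) := by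
  obtain ⟨χ, ψ, hχ, hψ, rfl⟩ := h
  exact ⟨ψ, χ, hψ, hχ, neg_sub χ ψ⟩

theorem gen_add {θ η : G → ℂ} (h : IsGeneralizedCharacter G θ) (h' : IsGeneralizedCharacter G η) :
    IsGeneralizedCharacter G (θ + η) := by
  obtain ⟨χ, ψ, hχ, hψ, rfl⟩ := h
  obtain ⟨χ', ψ', hχ', hψ', rfl⟩ := h'
  exact ⟨χ + χ', ψ + ψ', char_add hχ hχ', char_add hψ hψ', by abel⟩

theorem gen_sub {θ η : G → ℂ} (h : IsGeneralizedCharacter G θ) (h' : IsGeneralizedCharacter G η) :
    IsGeneralizedCharacter G (θ - η) := by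
  rw [sub_eq_add_neg]; exact gen_add h (gen_neg h')

theorem gen_mul {θ η : G → ℂ} (h : IsGeneralizedCharacter G θ) (h' : IsGeneralizedCharacter G η) :
    IsGeneralizedCharacter G (θ * η) := by
  obtain ⟨χ, ψ, hχ, hψ, rfl⟩ := h
  obtain ⟨χ', ψ', hχ', hψ', rfl⟩ := h'
  exact ⟨χ * χ' + ψ * ψ', χ * ψ' + ψ * χ', char_add (char_mul hχ hχ') (char_mul hψ hψ'),
    char_add (char_mul hχ hψ') (char_mul hψ hχ'), by ring⟩

theorem gen_sum {ι : Type*} (s : Finset ι) {θ : ι → G → ℂ}
    (h : ∀ i ∈ s, IsGeneralizedCharacter G (θ i)) : IsGeneralizedCharacter G (∑ i ∈ s, θ i) :=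
  Finset.sum_induction _ (IsGeneralizedCharacter G) (fun _ _ => gen_add) gen_zero h

theorem gen_nsmul (n : ℕ) {θ : G → ℂ} (h : IsGeneralizedCharacter G θ) :
    IsGeneralizedCharacter G (n • θ) := by
  induction n with
  | zero => rw [zero_smul]; exact gen_zero
  | succ n ih => rw [succ_nsmul]; exact gen_add ih h

theorem gen_zsmul (n : ℤ) {θ : G → ℂ} (h : IsGeneralizedCharacter G θ) :
    IsGeneralizedCharacter G (n • θ) := by
  obtain ⟨m, rfl | rfl⟩ := n.eq_nat_or_neg
  · rw [natCast_zsmul]; exact gen_nsmul m h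
  · rw [neg_smul, natCast_zsmul]; exact gen_neg (gen_nsmul m h)

theorem gen_intCast_smul (n : ℤ) {θ : G → ℂ} (h : IsGeneralizedCharacter G θ) :
    IsGeneralizedCharacter G ((n : ℂ) • θ) := by
  rw [Int.cast_smul_eq_zsmul]; exact gen_zsmul n h

theorem gen_pow {θ : G → ℂ} (h : IsGeneralizedCharacter G θ) (n : ℕ) :
    IsGeneralizedCharacter G (θ ^ n) := by
  induction n with
  | zero => rw [pow_zero]; exact gen_one
  | succ n ih => rw [pow_succ]; exact gen_mul ih h

theorem gen_comp {H : Type*} [Group H] {θ : G → ℂ} (h : IsGeneralizedCharacter G θ) (f : H →* G) :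
    IsGeneralizedCharacter H (fun x => θ (f x)) := by
  obtain ⟨χ, ψ, hχ, hψ, rfl⟩ := h
  exact ⟨_, _, char_comp hχ f, char_comp hψ f, rfl⟩

theorem gen_restrict {θ : G → ℂ} (h : IsGeneralizedCharacter G θ) (H : Subgroup G) :
    IsGeneralizedCharacter H (fun x : H => θ x) := gen_comp h H.subtype

theorem gen_apply_one {θ : G → ℂ} (h : IsGeneralizedCharacter G θ) : ∃ n : ℤ, θ 1 = n := by
  obtain ⟨χ, ψ, hχ, hψ, rfl⟩ := h
  obtain ⟨a, ha⟩ := char_apply_one hχ
  obtain ⟨b, hb⟩ := char_apply_one hψ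
  exact ⟨a - b, by simp [ha, hb]⟩

theorem gen_apply_inv [Finite G] {θ : G → ℂ} (h : IsGeneralizedCharacter G θ) (g : G) :
    θ g⁻¹ = conj (θ g) := by
  obtain ⟨χ, ψ, hχ, hψ, rfl⟩ := h
  simp [char_apply_inv hχ, char_apply_inv hψ]

theorem gen_conj [Finite G] {θ : G → ℂ} (h : IsGeneralizedCharacter G θ) :
    IsGeneralizedCharacter G (fun g => conj (θ g)) := by
  obtain ⟨χ, ψ, hχ, hψ, rfl⟩ := h
  exact ⟨_, _, char_conj hχ, char_conj hψ, by funext g; simp⟩

/-- the generalized characters as a subring of the functions on `G` -/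
def genSubring (G : Type*) [Group G] : Subring (G → ℂ) where
  carrier := {θ | IsGeneralizedCharacter G θ}
  mul_mem' := gen_mul
  one_mem' := gen_one
  add_mem' := gen_add
  zero_mem' := gen_zero
  neg_mem' := gen_neg

theorem mem_genSubring {θ : G → ℂ} : θ ∈ genSubring G ↔ IsGeneralizedCharacter G θ := Iff.rfl

variable [Fintype G]

theorem gen_inner_int {θ η : G → ℂ} (h : IsGeneralizedCharacter G θ)
    (h' : IsGeneralizedCharacter G η) : ∃ n : ℤ, classInner θ η = n := by
  obtain ⟨χ, ψ, hχ, hψ, rfl⟩ := h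
  obtain ⟨χ', ψ', hχ', hψ', rfl⟩ := h'
  obtain ⟨a, ha⟩ := char_inner_nat hχ hχ'
  obtain ⟨b, hb⟩ := char_inner_nat hχ hψ'
  obtain ⟨c, hc⟩ := char_inner_nat hψ hχ'
  obtain ⟨d, hd⟩ := char_inner_nat hψ hψ'
  refine ⟨a - c - (b - d), ?_⟩
  simp [classInner_sub_left, classInner_sub_right, ha, hb, hc, hd]

theorem gen_inner_comm {θ η : G → ℂ} (h : IsGeneralizedCharacter G θ)
    (h' : IsGeneralizedCharacter G η) : classInner θ η = classInner η θ := by
  obtain ⟨n, hn⟩ := gen_inner_int h h'
  rw [← conj_classInner θ η, hn, map_intCast]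

theorem gen_sum_irr (c : IrrCharacter G → ℤ) :
    IsGeneralizedCharacter G (∑ χ : IrrCharacter G, (c χ : ℂ) • (χ : G → ℂ)) :=
  gen_sum _ fun χ _ => gen_intCast_smul _ (gen_of_irr χ.2)

theorem gen_of_inner_int {ψ : G → ℂ} (hψ : IsClassFunction G ψ)
    (h : ∀ χ, IsIrrCharacter G χ → ∃ n : ℤ, classInner ψ χ = n) : IsGeneralizedCharacter G ψ := by
  choose c hc using fun χ : IrrCharacter G => h χ χ.2
  rw [classFun_eq_sum hψ]
  simp only [hc]
  exact gen_sum_irr c

theorem isGeneralizedCharacter_iff {ψ : G → ℂ} : IsGeneralizedCharacter G ψ ↔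
    IsClassFunction G ψ ∧ ∀ χ, IsIrrCharacter G χ → ∃ n : ℤ, classInner ψ χ = n :=
  ⟨fun h => ⟨gen_isClassFunction h, fun _ hχ => gen_inner_int h (gen_of_irr hχ)⟩,
   fun h => gen_of_inner_int h.1 h.2⟩

theorem gen_exists_eq_sum {ψ : G → ℂ} (h : IsGeneralizedCharacter G ψ) :
    ∃ c : IrrCharacter G → ℤ, (∀ χ : IrrCharacter G, classInner ψ χ = c χ) ∧
      ψ = ∑ χ : IrrCharacter G, (c χ : ℂ) • (χ : G → ℂ) := by
  choose c hc using fun χ : IrrCharacter G => gen_inner_int h (gen_of_irr χ.2)
  refine ⟨c, hc, ?_⟩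
  conv_lhs => rw [classFun_eq_sum (gen_isClassFunction h)]
  simp only [hc]

theorem classInner_self_eq_sum_sq {ψ : G → ℂ} (hψ : IsClassFunction G ψ)
    {c : IrrCharacter G → ℤ} (hc : ∀ χ : IrrCharacter G, classInner ψ χ = c χ) :
    classInner ψ ψ = ((∑ χ, c χ ^ 2 : ℤ) : ℂ) := by
  rw [classInner_eq_sum hψ]
  simp [hc, sq]

theorem gen_inner_self_nat {ψ : G → ℂ} (h : IsGeneralizedCharacter G ψ) :
    ∃ n : ℕ, classInner ψ ψ = n := by
  obtain ⟨c, hc, -⟩ := gen_exists_eq_sum h
  refine ⟨(∑ χ, c χ ^ 2).toNat, ?_⟩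
  rw [classInner_self_eq_sum_sq (gen_isClassFunction h) hc, ← Int.cast_natCast,
    Int.toNat_of_nonneg (Finset.sum_nonneg fun _ _ => sq_nonneg _)]

/-- a generalized character with nonnegative multiplicities is a character -/
theorem char_of_gen_of_re_nonneg {ψ : G → ℂ} (h : IsGeneralizedCharacter G ψ)
    (h0 : ∀ χ, IsIrrCharacter G χ → 0 ≤ (classInner ψ χ).re) : IsCharacter G ψ := by
  refine char_of_inner_nat (gen_isClassFunction h) fun χ hχ => ?_
  obtain ⟨n, hn⟩ := gen_inner_int h (gen_of_irr hχ)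
  have := h0 χ hχ
  rw [hn, Complex.intCast_re, Int.cast_nonneg_iff] at this
  exact ⟨n.toNat, by rw [hn, ← Int.cast_natCast, Int.toNat_of_nonneg this]⟩

omit [Group G] [Fintype G] in
theorem exists_of_sum_sq_eq_one {ι : Type*} [Fintype ι] (c : ι → ℤ) (h : ∑ i, c i ^ 2 = 1) :
    ∃ i, (c i = 1 ∨ c i = -1) ∧ ∀ j, j ≠ i → c j = 0 := by
  classical
  obtain ⟨i, -, hi⟩ := Finset.exists_ne_zero_of_sum_ne_zero (h.trans_ne one_ne_zero)
  have h1 : 0 < c i ^ 2 := lt_of_le_of_ne (sq_nonneg _) hi.symm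
  rw [← Finset.add_sum_erase _ _ (Finset.mem_univ i)] at h
  have h2 : 0 ≤ ∑ j ∈ Finset.univ.erase i, c j ^ 2 := Finset.sum_nonneg fun _ _ => sq_nonneg _
  have h3 : c i ^ 2 = 1 := by omega
  have h4 : ∑ j ∈ Finset.univ.erase i, c j ^ 2 = 0 := by omega
  refine ⟨i, sq_eq_one_iff.mp h3, fun j hj => ?_⟩
  rw [Finset.sum_eq_zero_iff_of_nonneg fun _ _ => sq_nonneg _] at h4
  exact pow_eq_zero_iff two_ne_zero |>.mp (h4 j (by simp [hj]))

/-- a generalized character of norm one is plus or minus an irreducible character -/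
theorem gen_norm_one {ψ : G → ℂ} (h : IsGeneralizedCharacter G ψ) (h1 : classInner ψ ψ = 1) :
    IsIrrCharacter G ψ ∨ IsIrrCharacter G (-ψ) := by
  classical
  obtain ⟨c, hc, hψ⟩ := gen_exists_eq_sum h
  rw [classInner_self_eq_sum_sq (gen_isClassFunction h) hc, Int.cast_eq_one] at h1
  obtain ⟨χ, hχ, h0⟩ := exists_of_sum_sq_eq_one c h1
  rw [Finset.sum_eq_single χ (fun φ _ hφ => by simp [h0 φ hφ]) (by simp)] at hψ
  rcases hχ with hχ | hχ
  · left; rw [hψ, hχ]; simpa using χ.2
  · right; rw [hψ, hχ]; simpa using χ.2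

theorem gen_norm_one' {ψ : G → ℂ} (h : IsGeneralizedCharacter G ψ) (h1 : classInner ψ ψ = 1) :
    ∃ (ε : ℤ) (χ : G → ℂ), (ε = 1 ∨ ε = -1) ∧ IsIrrCharacter G χ ∧ ψ = (ε : ℂ) • χ := by
  rcases gen_norm_one h h1 with h | h
  · exact ⟨1, ψ, Or.inl rfl, h, by simp⟩
  · exact ⟨-1, -ψ, Or.inr rfl, h, by simp⟩

theorem irr_of_gen_norm_one {ψ : G → ℂ} (h : IsGeneralizedCharacter G ψ) (h1 : classInner ψ ψ = 1)
    (h0 : 0 ≤ (ψ 1).re) : IsIrrCharacter G ψ := by
  refine (gen_norm_one h h1).resolve_right fun hn => ?_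
  obtain ⟨n, hn0, hn⟩ := irr_apply_one hn
  have := congrArg Complex.re hn
  simp only [Pi.neg_apply, Complex.neg_re, Complex.natCast_re] at this
  have h2 : (0 : ℝ) < n := Nat.cast_pos.mpr hn0
  linarith

theorem irr_of_char_norm_one {ψ : G → ℂ} (h : IsCharacter G ψ) (h1 : classInner ψ ψ = 1) :
    IsIrrCharacter G ψ := by
  obtain ⟨n, hn⟩ := char_apply_one h
  exact irr_of_gen_norm_one (gen_of_char h) h1 (by rw [hn]; simp)

theorem isIrrCharacter_iff {ψ : G → ℂ} :
    IsIrrCharacter G ψ ↔ IsCharacter G ψ ∧ classInner ψ ψ = 1 :=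
  ⟨fun h => ⟨irr_isCharacter h, irr_inner_self h⟩, fun h => irr_of_char_norm_one h.1 h.2⟩

end Generalized

end CL.Char
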