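import Cfsg.Agent.Base

/-!
# Permutation characters `indFun H 1` and fixed points; `p`-parts of elements
-/

set_option autoImplicit false

namespace CL.Brauer

open Cfsg MulAction

variable {G : Type*} [Group G]

theorem extendByZero_one_apply (H : Subgroup G) [DecidablePred (· ∈ H)] (x : G) :
    extendByZero H (fun _ => (1 : ℂ)) x = if x ∈ H then 1 else 0 := by
  unfold extendByZero
  split_ifs with hx
  · exact Subtype.val_injective.extend_apply (fun _ : H => (1 : ℂ)) (0 : G → ℂ) ⟨x, hx⟩
  · rw [Function.extend_apply']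
    · rfl
    · rintro ⟨a, rfl⟩
      exact hx a.2

theorem card_filter_smul_eq {X : Type*} [MulAction G X] [Fintype G] [DecidableEq X] (a x : X)
    (hx : x ∈ orbit G a) :
    (Finset.univ.filter fun y : G => y • a = x).card = Nat.card (stabilizer G a) := by
  classical
  obtain ⟨y0, rfl⟩ := hx
  rw [Nat.card_eq_fintype_card, Fintype.card_subtype]
  refine Finset.card_bij (fun y _ => y0⁻¹ * y) ?_ ?_ ?_
  · intro y hy
    simp only [Finset.mem_filter, Finset.mem_univ, true_and] at hy ⊢
    rw [mem_stabilizer_iff, mul_smul, hy, inv_smul_smul]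
  · intro y _ z _ h
    simpa using h
  · intro z hz
    simp only [Finset.mem_filter, Finset.mem_univ, true_and] at hz
    refine ⟨y0 * z, ?_, by simp⟩
    simp only [Finset.mem_filter, Finset.mem_univ, true_and]
    rw [mul_smul, mem_stabilizer_iff.mp hz]

/-- Summing a function along an orbit map counts every orbit point `|stabilizer|` times. -/
theorem sum_smul_eq {X M : Type*} [MulAction G X] [Fintype G] [Fintype X] [AddCommMonoid M]
    (a : X) [DecidablePred (· ∈ orbit G a)] (φ : X → M) :
    ∑ y : G, φ (y • a) =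
      Nat.card (stabilizer G a) • ∑ x ∈ Finset.univ.filter (· ∈ orbit G a), φ x := by
  classical
  rw [← Finset.sum_fiberwise_of_maps_to (s := Finset.univ)
    (t := Finset.univ.filter (· ∈ orbit G a)) (g := fun y : G => y • a)
    (fun y _ => by simp), Finset.smul_sum]
  refine Finset.sum_congr rfl fun x hx => ?_
  simp only [Finset.mem_filter, Finset.mem_univ, true_and] at hx
  rw [← card_filter_smul_eq a x hx, ← Finset.sum_const]
  refine Finset.sum_congr rfl fun y hy => ?_
  simp only [Finset.mem_filter, Finset.mem_univ, true_and] at hy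
  rw [hy]

/-- The permutation character on an orbit. -/
theorem indFun_stabilizer_one {X : Type*} [MulAction G X] [Fintype G] [Fintype X] [DecidableEq X]
    (a : X) [DecidablePred (· ∈ orbit G a)] (g : G) :
    indFun (stabilizer G a) (fun _ => 1) g =
      ((Finset.univ.filter fun x : X => x ∈ orbit G a ∧ g • x = x).card : ℂ) := by
  classical
  unfold indFun
  have h1 : ∀ y : G, extendByZero (stabilizer G a) (fun _ => (1 : ℂ)) (y⁻¹ * g * y) =
      (fun x : X => if g • x = x then (1 : ℂ) else 0) (y • a) := by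
    intro y
    rw [extendByZero_one_apply]
    simp only [mem_stabilizer_iff, mul_smul, inv_smul_eq_iff]
  simp_rw [h1]
  rw [sum_smul_eq a (fun x : X => if g • x = x then (1 : ℂ) else 0), nsmul_eq_mul, ← mul_assoc,
    inv_mul_cancel₀ (by exact_mod_cast Nat.card_pos.ne'), one_mul, Finset.sum_boole,
    Finset.filter_filter]

/-- `indFun H 1` counts fixed points on the coset space. -/
theorem indFun_one_eq_card_fixedBy [Fintype G] (H : Subgroup G) (g : G) :
    indFun H (fun _ => 1) g = (Nat.card (fixedBy (G ⧸ H) g) : ℂ) := by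
  classical
  have := Fintype.ofFinite (G ⧸ H)
  have h := indFun_stabilizer_one (X := G ⧸ H) ((1 : G) : G ⧸ H) g
  rw [stabilizer_quotient] at h
  rw [h, Nat.card_eq_fintype_card, Fintype.card_subtype]
  congr 2
  ext x
  simp [orbit_eq_univ]

/-- The fixed-point function of a finite `G`-set is the sum of the permutation characters of its
orbits, for any choice of orbit representatives. -/
theorem card_fixedBy_eq_sum_indFun {X : Type*} [MulAction G X] [Fintype G] [Finite X]
    [Fintype (orbitRel.Quotient G X)]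
    (r : orbitRel.Quotient G X → X) (hr : ∀ o, Quotient.mk'' (r o) = o) (g : G) :
    (Nat.card (fixedBy X g) : ℂ) = ∑ o, indFun (stabilizer G (r o)) (fun _ => 1) g := by
  classical
  have := Fintype.ofFinite X
  simp_rw [indFun_stabilizer_one]
  rw [← Nat.cast_sum, Nat.card_eq_fintype_card, Fintype.card_subtype,
    Finset.card_eq_sum_card_fiberwise (f := fun x : X => (Quotient.mk'' x : orbitRel.Quotient G X))
      (t := Finset.univ) (fun _ _ => by simp)]
  congr 1
  refine Finset.sum_congr rfl fun o _ => ?_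
  rw [Finset.filter_filter]
  congr 1
  ext x
  simp only [Finset.mem_filter, Finset.mem_univ, true_and, mem_fixedBy]
  rw [and_comm]
  congr! 1
  conv_lhs => rw [← hr o]
  rw [Quotient.eq'', orbitRel_apply]

/-- Product of two permutation characters (Mackey form). -/
theorem indFun_one_mul_indFun_one [Fintype G] [Fintype (Subgroup G)] (H K : Subgroup G) :
    ∃ a : Subgroup G → ℕ, (∀ U, a U ≠ 0 → U ≤ H) ∧
      indFun H (fun _ => 1) * indFun K (fun _ => 1) =
        ∑ U : Subgroup G, (a U : ℂ) • indFun U (fun _ => 1) := by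
  classical
  let X := (G ⧸ H) × (G ⧸ K)
  have := Fintype.ofFinite (orbitRel.Quotient G X)
  have hex : ∀ o : orbitRel.Quotient G X, ∃ x : X, Quotient.mk'' x = o ∧ x.1 = ((1 : G) : G ⧸ H) := by
    intro o
    induction o using Quotient.inductionOn' with
    | h x =>
      obtain ⟨x1, x2⟩ := x
      induction x1 using QuotientGroup.induction_on with
      | H y =>
        refine ⟨y⁻¹ • ((y : G ⧸ H), x2), ?_, ?_⟩
        · rw [Quotient.eq'', orbitRel_apply]
          exact mem_orbit _ _
        · change y⁻¹ • (y : G ⧸ H) = _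
          rw [MulAction.Quotient.smul_coe]
          simp
  choose r hr hr1 using hex
  refine ⟨fun U => (Finset.univ.filter fun o => stabilizer G (r o) = U).card, ?_, ?_⟩
  · intro U hU
    obtain ⟨o, ho⟩ := Finset.card_pos.mp (Nat.pos_of_ne_zero hU)
    simp only [Finset.mem_filter, Finset.mem_univ, true_and] at ho
    rw [← ho]
    intro g hg
    rw [mem_stabilizer_iff] at hg
    have h1 : g • (r o).1 = (r o).1 := congrArg Prod.fst hg
    rw [hr1 o, ← mem_stabilizer_iff, stabilizer_quotient] at h1
    exact h1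
  · funext g
    have h1 : Nat.card (fixedBy X g) =
        Nat.card (fixedBy (G ⧸ H) g) * Nat.card (fixedBy (G ⧸ K) g) := by
      rw [← Nat.card_prod]
      refine Nat.card_congr ⟨fun x => (⟨x.1.1, congrArg Prod.fst x.2⟩, ⟨x.1.2, congrArg Prod.snd x.2⟩),
        fun y => ⟨(y.1.1, y.2.1), Prod.ext y.1.2 y.2.2⟩, fun _ => rfl, fun _ => rfl⟩
    rw [Pi.mul_apply, indFun_one_eq_card_fixedBy, indFun_one_eq_card_fixedBy, ← Nat.cast_mul, ← h1,
      card_fixedBy_eq_sum_indFun r hr g, Finset.sum_apply,
      ← Finset.sum_fiberwise (s := Finset.univ) (g := fun o => stabilizer G (r o))]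
    refine Finset.sum_congr rfl fun U _ => ?_
    rw [Pi.smul_apply, smul_eq_mul, ← nsmul_eq_mul, ← Finset.sum_const]
    refine Finset.sum_congr rfl fun o ho => ?_
    simp only [Finset.mem_filter, Finset.mem_univ, true_and] at ho
    rw [ho]

/-- Splitting an element into commuting parts of coprime orders. -/
theorem exists_coprime_parts (x : G) {m n : ℕ} (hmn : Nat.Coprime m n) (hx : x ^ (m * n) = 1) :
    ∃ u ∈ Subgroup.zpowers x, ∃ v ∈ Subgroup.zpowers x, x = u * v ∧ u ^ m = 1 ∧ v ^ n = 1 := by
  obtain ⟨a, b, hab⟩ := Nat.isCoprime_iff_coprime.mpr hmn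
  have hx' : x ^ ((m : ℤ) * n) = 1 := by exact_mod_cast hx
  refine ⟨x ^ (b * n), Subgroup.zpow_mem_zpowers _ _, x ^ (a * m), Subgroup.zpow_mem_zpowers _ _,
    ?_, ?_, ?_⟩
  · rw [← zpow_add, add_comm, hab, zpow_one]
  · rw [← zpow_natCast, ← zpow_mul, show b * n * m = (m * n) * b by ring, zpow_mul, hx', one_zpow]
  · rw [← zpow_natCast, ← zpow_mul, show a * m * n = (m * n) * a by ring, zpow_mul, hx', one_zpow]

/-- In a commuting product of elements killed by coprime exponents the left factor is a fixed power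
of the product. -/
theorem left_eq_zpow_of_coprime {u v : G} (huv : Commute u v) {m n : ℕ} {a b : ℤ}
    (hab : a * m + b * n = 1) (hu : u ^ m = 1) (hv : v ^ n = 1) : (u * v) ^ (b * n) = u := by
  have hu' : u ^ (m : ℤ) = 1 := by exact_mod_cast hu
  have hv' : v ^ (n : ℤ) = 1 := by exact_mod_cast hv
  rw [huv.mul_zpow, mul_comm b (n : ℤ), zpow_mul v, hv', one_zpow, mul_one]
  calc u ^ ((n : ℤ) * b) = (u ^ (m : ℤ)) ^ a * u ^ ((n : ℤ) * b) := by rw [hu']; simp
    _ = u := by rw [← zpow_mul, ← zpow_add, show (m : ℤ) * a + n * b = a * m + b * n by ring, hab,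
        zpow_one]

theorem right_eq_zpow_of_coprime {u v : G} (huv : Commute u v) {m n : ℕ} {a b : ℤ}
    (hab : a * m + b * n = 1) (hu : u ^ m = 1) (hv : v ^ n = 1) : (u * v) ^ (a * m) = v := by
  rw [huv.eq]
  exact left_eq_zpow_of_coprime huv.symm (by rw [add_comm]; exact hab) hv hu

theorem left_mem_zpowers_mul {u v : G} (huv : Commute u v) {m n : ℕ} (hmn : Nat.Coprime m n)
    (hu : u ^ m = 1) (hv : v ^ n = 1) : u ∈ Subgroup.zpowers (u * v) := by
  obtain ⟨a, b, hab⟩ := Nat.isCoprime_iff_coprime.mpr hmn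
  exact ⟨b * n, left_eq_zpow_of_coprime huv hab hu hv⟩

theorem right_mem_zpowers_mul {u v : G} (huv : Commute u v) {m n : ℕ} (hmn : Nat.Coprime m n)
    (hu : u ^ m = 1) (hv : v ^ n = 1) : v ∈ Subgroup.zpowers (u * v) := by
  obtain ⟨a, b, hab⟩ := Nat.isCoprime_iff_coprime.mpr hmn
  exact ⟨a * m, right_eq_zpow_of_coprime huv hab hu hv⟩

/-- Uniqueness of the decomposition into commuting parts of coprime exponents. -/
theorem coprime_parts_unique {u v u' v' : G} (huv : Commute u v) (huv' : Commute u' v') {m n : ℕ}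
    (hmn : Nat.Coprime m n) (hu : u ^ m = 1) (hv : v ^ n = 1) (hu' : u' ^ m = 1) (hv' : v' ^ n = 1)
    (h : u * v = u' * v') : u = u' ∧ v = v' := by
  obtain ⟨a, b, hab⟩ := Nat.isCoprime_iff_coprime.mpr hmn
  constructor
  · rw [← left_eq_zpow_of_coprime huv hab hu hv, h, left_eq_zpow_of_coprime huv' hab hu' hv']
  · rw [← right_eq_zpow_of_coprime huv hab hu hv, h, right_eq_zpow_of_coprime huv' hab hu' hv']

/-- Every element of a finite group is a commuting product of a `p`-element and a `p'`-element,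
both powers of it. -/
theorem exists_p_parts [Finite G] (x : G) {p : ℕ} (hp : p.Prime) :
    ∃ u ∈ Subgroup.zpowers x, ∃ v ∈ Subgroup.zpowers x, x = u * v ∧ Commute u v ∧
      (∃ k : ℕ, u ^ p ^ k = 1) ∧ Nat.Coprime (orderOf v) p := by
  have h0 : orderOf x ≠ 0 := (orderOf_pos x).ne'
  obtain ⟨k, n, hn, hkn⟩ := Nat.exists_eq_pow_mul_and_not_dvd h0 p hp.ne_one
  have hcop : Nat.Coprime n p := ((Nat.Prime.coprime_iff_not_dvd hp).mpr hn).symm
  obtain ⟨u, hu, v, hv, h1, h2, h3⟩ := exists_coprime_parts x (m := p ^ k) (n := n)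
    (hcop.symm.pow_left k) (by rw [← hkn, pow_orderOf_eq_one])
  refine ⟨u, hu, v, hv, h1, ?_, ⟨k, h2⟩, Nat.Coprime.of_dvd_left (orderOf_dvd_of_pow_eq_one h3) hcop⟩
  obtain ⟨i, rfl⟩ := hu
  obtain ⟨j, rfl⟩ := hv
  exact (Commute.refl x).zpow_zpow i j

/-- A `p`-element commuting with a `p'`-element does not change the number of fixed points
modulo `p`. -/
theorem card_fixedBy_mul_modEq {X : Type*} [MulAction G X] [Finite X] {u v : G} (huv : Commute u v)
    {p k n : ℕ} (hp : p.Prime) (hu : u ^ p ^ k = 1) (hv : v ^ n = 1) (hn : Nat.Coprime n p) :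
    Nat.card (fixedBy X (u * v)) ≡ Nat.card (fixedBy X v) [MOD p] := by
  classical
  have := Fact.mk hp
  have := Fintype.ofFinite X
  let f : Function.End (fixedBy X v) := fun x => ⟨u • x.1, by
    rw [mem_fixedBy, ← mul_smul, ← huv.eq, mul_smul, mem_fixedBy.mp x.2]⟩
  have hf : ∀ (j : ℕ) (x : fixedBy X v), ((f ^ j) x).1 = u ^ j • x.1 := by
    intro j
    induction j with
    | zero => intro x; simp; rfl
    | succ j ih =>
      intro x
      rw [pow_succ', pow_succ', mul_smul, ← ih]
      rfl
  have hf1 : f ^ p ^ k = 1 := by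
    funext x
    apply Subtype.ext
    rw [hf, hu, one_smul]
    rfl
  have h := Equiv.Perm.card_fixedPoints_modEq hf1
  rw [← Nat.card_eq_fintype_card, ← Nat.card_eq_fintype_card] at h
  refine Nat.ModEq.trans ?_ h.symm
  have hcop : Nat.Coprime (p ^ k) n := hn.symm.pow_left k
  have hfix : ∀ x : X, (u * v) • x = x → v • x = x := by
    intro x hx
    have : Subgroup.zpowers (u * v) ≤ stabilizer G x := by
      rw [Subgroup.zpowers_le]; exact hx
    exact this (right_mem_zpowers_mul huv hcop hu hv)
  have : Nat.card (fixedBy X (u * v)) = Nat.card (Function.fixedPoints f) := by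
    refine Nat.card_congr ⟨fun x => ⟨⟨x.1, hfix x.1 x.2⟩, ?_⟩, fun y => ⟨y.1.1, ?_⟩, fun _ => rfl,
      fun _ => rfl⟩
    · apply Subtype.ext
      change u • x.1 = x.1
      have h1 := hfix x.1 x.2
      have h2 : (u * v) • x.1 = x.1 := x.2
      rwa [mul_smul, h1] at h2
    · have h1 : u • y.1.1 = y.1.1 := congrArg Subtype.val y.2
      rw [mem_fixedBy, mul_smul, mem_fixedBy.mp y.1.2, h1]
  rw [this]

end CL.Brauer
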