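import Cfsg.Agent.Base
import Cfsg.Agent.Char.BrauerPerm

/-!
# Solomon's induction theorem, local form
-/

set_option autoImplicit false

namespace CL.Brauer

open Cfsg MulAction

variable {G : Type*} [Group G]

/-- `H` is `p`-quasi-elementary: it has a cyclic normal `p`-complement. -/
def IsQuasiElem (p : ℕ) (H : Subgroup G) : Prop :=
  ∃ C : Subgroup G, C ≤ H ∧ H ≤ Subgroup.normalizer (C : Set G) ∧ IsCyclic C ∧
    Nat.Coprime (Nat.card C) p ∧ ∃ k : ℕ, C.relIndex H = p ^ k

theorem IsQuasiElem.of_le {p : ℕ} (hp : p.Prime) {H U : Subgroup G} (hH : IsQuasiElem p H)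
    (hU : U ≤ H) : IsQuasiElem p U := by
  obtain ⟨C, hCH, hHN, hcyc, hcop, k, hk⟩ := hH
  refine ⟨C ⊓ U, inf_le_right, ?_, Subgroup.isCyclic_of_le inf_le_left,
    Nat.Coprime.of_dvd_left (Subgroup.card_dvd_of_le inf_le_left) hcop, ?_⟩
  · exact (le_inf (hU.trans hHN) U.le_normalizer).trans Subgroup.inf_normalizer_le_normalizer_inf
  · rw [Subgroup.inf_relIndex_right]
    have hn : (C.subgroupOf H).Normal := (Subgroup.normal_subgroupOf_iff_le_normalizer hCH).mpr hHN
    have h1 : (C.subgroupOf H).relIndex (U.subgroupOf H) ∣ (C.subgroupOf H).index :=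
      Subgroup.relIndex_dvd_index_of_normal _ _
    rw [Subgroup.relIndex_subgroupOf hU] at h1
    change _ ∣ C.relIndex H at h1
    rw [hk] at h1
    obtain ⟨j, -, hj⟩ := (Nat.dvd_prime_pow hp).mp h1
    exact ⟨j, hj⟩

theorem indFun_one_apply_card [Fintype G] (H : Subgroup G) (g : G) :
    indFun H (fun _ => 1) g =
      (Nat.card H : ℂ)⁻¹ * (Nat.card {y : G // y⁻¹ * g * y ∈ H} : ℂ) := by
  classical
  unfold indFun
  simp_rw [extendByZero_one_apply]
  rw [Finset.sum_boole, Nat.card_eq_fintype_card (α := {y : G // y⁻¹ * g * y ∈ H}),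
    Fintype.card_subtype]

theorem exists_quasiElem_not_dvd [Fintype G] (x : G) {p : ℕ} (hp : p.Prime) :
    ∃ H : Subgroup G, IsQuasiElem p H ∧
      ∃ n : ℕ, indFun H (fun _ => 1) x = (n : ℂ) ∧ ¬ p ∣ n := by
  classical
  have := Fact.mk hp
  obtain ⟨u, -, v, -, rfl, huv, ⟨k, hk⟩, hv⟩ := exists_p_parts x hp
  set C : Subgroup G := Subgroup.zpowers v with hC
  set N : Subgroup G := Subgroup.normalizer (C : Set G) with hN
  have hCN : C ≤ N := C.le_normalizer
  obtain ⟨P⟩ : Nonempty (Sylow p N) := inferInstance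
  have hCn : (C.subgroupOf N).Normal := (Subgroup.normal_subgroupOf_iff_le_normalizer hCN).mpr le_rfl
  set H' : Subgroup N := C.subgroupOf N ⊔ P with hH'
  set H : Subgroup G := H'.map N.subtype with hH
  have hCH : C ≤ H := by
    rw [← Subgroup.map_subgroupOf_eq_of_le hCN]
    exact Subgroup.map_mono le_sup_left
  have hHN : H ≤ N := Subgroup.map_subtype_le _
  have hrel : ∃ j : ℕ, C.relIndex H = p ^ j := by
    have h1 : C.relIndex H = (C.subgroupOf N).relIndex P := by
      conv_lhs => rw [← Subgroup.map_subgroupOf_eq_of_le hCN, hH]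
      rw [Subgroup.relIndex_map_map_of_injective _ _ N.subtype_injective, hH',
        Subgroup.relIndex_sup_left]
    obtain ⟨j, hj⟩ := IsPGroup.iff_card.mp P.isPGroup'
    have h2 : (C.subgroupOf N).relIndex P ∣ p ^ j := by
      rw [← hj]; exact Subgroup.index_dvd_card _
    obtain ⟨i, -, hi⟩ := (Nat.dvd_prime_pow hp).mp h2
    exact ⟨i, h1.trans hi⟩
  refine ⟨H, ⟨C, hCH, hHN, inferInstance, by rwa [hC, Nat.card_zpowers], hrel⟩,
    Nat.card (fixedBy (G ⧸ H) (u * v)), indFun_one_eq_card_fixedBy H _, ?_⟩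
  have hmod := card_fixedBy_mul_modEq (X := G ⧸ H) huv hp hk (pow_orderOf_eq_one v) hv
  rw [(Nat.modEq_zero_iff_dvd).symm]
  intro h0
  have h1 : p ∣ Nat.card (fixedBy (G ⧸ H) v) := (Nat.modEq_zero_iff_dvd).mp (hmod.symm.trans h0)
  have hiff : ∀ y : G, y⁻¹ * v * y ∈ H ↔ y ∈ N := by
    intro y
    constructor
    · intro hy
      obtain ⟨j, hj⟩ := hrel
      have hn : (C.subgroupOf H).Normal :=
        (Subgroup.normal_subgroupOf_iff_le_normalizer hCH).mpr hHN
      have h2 : (y⁻¹ * v * y) ^ p ^ j ∈ C := by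
        have := Subgroup.pow_index_mem (C.subgroupOf H) ⟨_, hy⟩
        rw [Subgroup.mem_subgroupOf] at this
        rw [← hj]
        exact this
      have h3 : y⁻¹ * v * y ∈ C := by
        have ho : orderOf (y⁻¹ * v * y) = orderOf v := by
          have := orderOf_injective (MulAut.conj y⁻¹).toMonoidHom (MulAut.conj y⁻¹).injective v
          simpa using this
        have h4 : y⁻¹ * v * y ∈ Subgroup.zpowers ((y⁻¹ * v * y) ^ p ^ j) := by
          rw [mem_zpowers_pow_iff, ho]
          exact hv.symm.pow_left j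
        exact (Subgroup.zpowers_le.mpr h2) h4
      rw [← N.inv_mem_iff]
      apply Subgroup.mem_normalizer_fintype
      rintro _ ⟨i, rfl⟩
      have : y⁻¹ * v ^ i * y⁻¹⁻¹ = (y⁻¹ * v * y) ^ i := by
        rw [inv_inv]
        have := conj_zpow (a := y⁻¹) (b := v) (i := i)
        rw [inv_inv] at this
        exact this.symm
      simp only [SetLike.mem_coe]
      rw [this]
      exact C.zpow_mem h3 i
    · intro hy
      apply hCH
      exact (Subgroup.mem_normalizer_iff''.mp hy v).mp (Subgroup.mem_zpowers v)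
  have h2 : (Nat.card (fixedBy (G ⧸ H) v) : ℂ) = (Nat.card H : ℂ)⁻¹ * (Nat.card N : ℂ) := by
    rw [← indFun_one_eq_card_fixedBy, indFun_one_apply_card]
    congr 2
    exact Nat.card_congr (Equiv.subtypeEquivRight hiff)
  have h3 : Nat.card H = Nat.card H' := Subgroup.card_map_of_injective N.subtype_injective
  have h4 : Nat.card (fixedBy (G ⧸ H) v) = H'.index := by
    have h5 : (Nat.card H' : ℂ) ≠ 0 := by exact_mod_cast Nat.card_pos.ne'
    rw [h3, ← H'.card_mul_index, Nat.cast_mul, ← mul_assoc, inv_mul_cancel₀ h5, one_mul] at h2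
    exact_mod_cast h2
  rw [h4] at h1
  exact P.not_dvd_index (h1.trans (Subgroup.index_dvd_of_le le_sup_right))

/-- The product trick: if a multiplicatively closed submodule of functions contains for every
point `x` a function with value `m x` at `x`, it contains the constant `∏ x, m x`. -/
theorem const_prod_mem {S R : Type*} [Fintype S] [CommRing R] [Algebra R ℂ]
    (V : Submodule R (S → ℂ)) (hmul : ∀ f ∈ V, ∀ g ∈ V, f * g ∈ V) (m : S → R)
    (hm : ∀ x, ∃ f ∈ V, f x = algebraMap R ℂ (m x)) :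
    (fun _ => algebraMap R ℂ (∏ x, m x)) ∈ V := by
  classical
  choose f hf hfx using hm
  have key : ∀ s : Finset S, (fun _ => algebraMap R ℂ (∏ x ∈ s, m x)) -
      ∏ x ∈ s, ((fun _ => algebraMap R ℂ (m x)) - f x) ∈ V := by
    intro s
    induction s using Finset.induction_on with
    | empty =>
      have : (fun _ : S => algebraMap R ℂ (∏ x ∈ (∅ : Finset S), m x)) -
        ∏ x ∈ (∅ : Finset S), ((fun _ => algebraMap R ℂ (m x)) - f x) = 0 := by
        funext y; simp
      rw [this]; exact V.zero_mem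
    | insert a s ha ih =>
      set D := (fun _ : S => algebraMap R ℂ (∏ x ∈ s, m x)) -
        ∏ x ∈ s, ((fun _ => algebraMap R ℂ (m x)) - f x) with hD
      have : (fun _ : S => algebraMap R ℂ (∏ x ∈ insert a s, m x)) -
          ∏ x ∈ insert a s, ((fun _ => algebraMap R ℂ (m x)) - f x) =
          m a • D + (∏ x ∈ s, m x) • f a - f a * D := by
        funext y
        rw [Finset.prod_insert ha, Finset.prod_insert ha, hD]
        simp only [Pi.sub_apply, Pi.mul_apply, Pi.add_apply, Algebra.smul_def,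
          map_mul, Pi.algebraMap_apply]
        ring
      rw [this]
      exact V.sub_mem (V.add_mem (V.smul_mem _ ih) (V.smul_mem _ (hf a))) (hmul _ (hf a) _ ih)
  have h := key Finset.univ
  have h0 : ∏ x, ((fun _ => algebraMap R ℂ (m x)) - f x) = 0 := by
    funext y
    rw [Finset.prod_apply]
    exact Finset.prod_eq_zero (Finset.mem_univ y) (by simp [hfx])
  rwa [h0, sub_zero] at h

/-- Solomon's theorem, local form. -/
theorem solomon_local [Fintype G] [Fintype (Subgroup G)] {p : ℕ} (hp : p.Prime) :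
    ∃ (m : ℤ) (a : Subgroup G → ℤ), ¬ (p : ℤ) ∣ m ∧ (∀ H, a H ≠ 0 → IsQuasiElem p H) ∧
      (fun _ : G => (m : ℂ)) = ∑ H : Subgroup G, (a H : ℂ) • indFun H (fun _ => 1) := by
  classical
  let V : Submodule ℤ (G → ℂ) :=
    { carrier := {f | ∃ a : Subgroup G → ℤ, (∀ H, a H ≠ 0 → IsQuasiElem p H) ∧
        f = ∑ H : Subgroup G, (a H : ℂ) • indFun H (fun _ => 1)}
      add_mem' := by
        rintro _ _ ⟨a, ha, rfl⟩ ⟨b, hb, rfl⟩
        refine ⟨a + b, fun H hH => ?_, ?_⟩
        · by_cases h : a H = 0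
          · exact hb H (by simpa [h] using hH)
          · exact ha H h
        · rw [← Finset.sum_add_distrib]
          refine Finset.sum_congr rfl fun H _ => ?_
          rw [← add_smul]; simp
      zero_mem' := ⟨0, fun H hH => (hH rfl).elim, by simp⟩
      smul_mem' := by
        rintro c _ ⟨a, ha, rfl⟩
        refine ⟨c • a, fun H hH => ha H fun h => hH (by simp [h]), ?_⟩
        rw [Finset.smul_sum]
        refine Finset.sum_congr rfl fun H _ => ?_
        rw [← Int.cast_smul_eq_zsmul ℂ, smul_smul]; simp }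
  have hV : ∀ H : Subgroup G, IsQuasiElem p H → indFun H (fun _ => 1) ∈ V := by
    intro H hH
    refine ⟨Pi.single H 1, fun K hK => ?_, ?_⟩
    · by_cases h : K = H
      · rw [h]; exact hH
      · exact (hK (Pi.single_eq_of_ne h _)).elim
    · rw [Finset.sum_eq_single H]
      · simp
      · intro K _ h; simp [h]
      · simp
  have hmul : ∀ f ∈ V, ∀ g ∈ V, f * g ∈ V := by
    rintro _ ⟨a, ha, rfl⟩ _ ⟨b, hb, rfl⟩
    rw [Finset.sum_mul_sum]
    refine V.sum_mem fun H _ => V.sum_mem fun K _ => ?_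
    by_cases h : a H = 0
    · simp [h]
    obtain ⟨c, hc, hcs⟩ := indFun_one_mul_indFun_one H K
    rw [smul_mul_smul_comm, hcs, ← Int.cast_mul, Int.cast_smul_eq_zsmul]
    refine V.smul_mem _ (V.sum_mem fun U _ => ?_)
    by_cases hU : c U = 0
    · simp [hU]
    rw [Nat.cast_smul_eq_nsmul]
    exact V.toAddSubgroup.nsmul_mem (hV U ((ha H h).of_le hp (hc U hU))) _
  choose H hH n hn hpn using fun x : G => exists_quasiElem_not_dvd x hp
  obtain ⟨a, ha, hs⟩ := const_prod_mem V hmul (fun x => (n x : ℤ))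
    (fun x => ⟨_, hV _ (hH x), by simp [hn]⟩)
  refine ⟨∏ x, (n x : ℤ), a, ?_, ha, by simpa using hs⟩
  rw [(Nat.prime_iff_prime_int.mp hp).dvd_finsetProd_iff]
  rintro ⟨x, -, hx⟩
  exact hpn x (Int.natCast_dvd_natCast.mp hx)

end CL.Brauer
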