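import Cfsg.Agent.Base

/-!
# Induction of functions from a subgroup (`Cfsg.indFun`)

Purely function-theoretic API: linearity, class-function property, Frobenius reciprocity,
transitivity, product formula, coset formula, behaviour under isomorphisms and quotients.
-/

set_option autoImplicit false
open scoped ComplexConjugate
open Cfsg

namespace CL.Char

variable {G : Type*} [Group G]

/-! ### Extension by zero -/

section ExtendByZero

variable (H : Subgroup G)

theorem extendByZero_coe (θ : H → ℂ) (h : H) : extendByZero H θ (h : G) = θ h :=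
  Subtype.val_injective.extend_apply θ 0 h

theorem extendByZero_of_mem (θ : H → ℂ) {g : G} (hg : g ∈ H) :
    extendByZero H θ g = θ ⟨g, hg⟩ :=
  extendByZero_coe H θ ⟨g, hg⟩

theorem extendByZero_of_not_mem (θ : H → ℂ) {g : G} (hg : g ∉ H) :
    extendByZero H θ g = 0 := by
  unfold extendByZero
  rw [Function.extend_apply']
  · rfl
  · rintro ⟨h, rfl⟩
    exact hg h.2

theorem extendByZero_apply (θ : H → ℂ) (g : G) [Decidable (g ∈ H)] :
    extendByZero H θ g = if hg : g ∈ H then θ ⟨g, hg⟩ else 0 := by
  split_ifs with hg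
  · exact extendByZero_of_mem H θ hg
  · exact extendByZero_of_not_mem H θ hg

theorem extendByZero_res_apply (χ : G → ℂ) (g : G) [Decidable (g ∈ H)] :
    extendByZero H (fun h : H => χ h) g = if g ∈ H then χ g else 0 := by
  split_ifs with hg
  · exact extendByZero_of_mem H _ hg
  · exact extendByZero_of_not_mem H _ hg

theorem extendByZero_zero : extendByZero H (0 : H → ℂ) = 0 := by
  classical
  funext g; simp [extendByZero_apply]

theorem extendByZero_add (θ φ : H → ℂ) :
    extendByZero H (θ + φ) = extendByZero H θ + extendByZero H φ := by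
  classical
  funext g; simp only [extendByZero_apply, Pi.add_apply]; split_ifs <;> simp

theorem extendByZero_smul (c : ℂ) (θ : H → ℂ) :
    extendByZero H (c • θ) = c • extendByZero H θ := by
  classical
  funext g; simp only [extendByZero_apply, Pi.smul_apply]; split_ifs <;> simp

theorem extendByZero_conj (θ : H → ℂ) (g : G) :
    extendByZero H (fun h => conj (θ h)) g = conj (extendByZero H θ g) := by
  classical
  simp only [extendByZero_apply]; split_ifs <;> simp

theorem extendByZero_mul_res (θ : H → ℂ) (χ : G → ℂ) (g : G) :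
    extendByZero H (fun h => θ h * χ h) g = extendByZero H θ g * χ g := by
  classical
  simp only [extendByZero_apply]; split_ifs <;> simp

/-- Summing against an extension by zero is summing over the subgroup. -/
theorem sum_extendByZero_mul [Fintype G] [Fintype H] (θ : H → ℂ) (f : G → ℂ) :
    ∑ g : G, extendByZero H θ g * f g = ∑ h : H, θ h * f h := by
  classical
  rw [← Finset.sum_subset (s₁ := Finset.univ.map (Function.Embedding.subtype (· ∈ H)))
    (Finset.subset_univ _)]
  · rw [Finset.sum_map]
    refine Finset.sum_congr rfl fun h _ => ?_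
    simp [extendByZero_coe]
  · intro g _ hg
    rw [extendByZero_of_not_mem, zero_mul]
    intro hgH
    exact hg (Finset.mem_map.2 ⟨⟨g, hgH⟩, Finset.mem_univ _, rfl⟩)

theorem sum_extendByZero [Fintype G] [Fintype H] (θ : H → ℂ) :
    ∑ g : G, extendByZero H θ g = ∑ h : H, θ h := by
  simpa using sum_extendByZero_mul H θ (fun _ => 1)

/-- The extension by zero of a class function of `H` is invariant under conjugation by `H`. -/
theorem extendByZero_conj_mem {θ : H → ℂ} (hθ : IsClassFunction H θ) {h : G} (hh : h ∈ H)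
    (g : G) : extendByZero H θ (h * g * h⁻¹) = extendByZero H θ g := by
  by_cases hg : g ∈ H
  · have hg' : h * g * h⁻¹ ∈ H := H.mul_mem (H.mul_mem hh hg) (H.inv_mem hh)
    rw [extendByZero_of_mem H θ hg, extendByZero_of_mem H θ hg']
    exact hθ ⟨g, hg⟩ ⟨h, hh⟩
  · have hg' : h * g * h⁻¹ ∉ H := by
      intro hc
      apply hg
      have := H.mul_mem (H.mul_mem (H.inv_mem hh) hc) hh
      simpa [mul_assoc] using this
    rw [extendByZero_of_not_mem H θ hg, extendByZero_of_not_mem H θ hg']

theorem extendByZero_conj_mem' {θ : H → ℂ} (hθ : IsClassFunction H θ) {h : G} (hh : h ∈ H)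
    (g : G) : extendByZero H θ (h⁻¹ * g * h) = extendByZero H θ g := by
  simpa using extendByZero_conj_mem H hθ (H.inv_mem hh) g

end ExtendByZero

/-! ### Induction -/

section Ind

variable [Fintype G] (H : Subgroup G)

theorem natCard_cast_ne_zero (K : Type*) [Group K] [Finite K] : (Nat.card K : ℂ) ≠ 0 :=
  Nat.cast_ne_zero.2 Nat.card_pos.ne'

theorem indFun_apply (θ : H → ℂ) (g : G) :
    indFun H θ g = (Nat.card H : ℂ)⁻¹ * ∑ x : G, extendByZero H θ (x⁻¹ * g * x) := rfl

theorem indFun_apply' (θ : H → ℂ) (g : G) :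
    indFun H θ g = (Nat.card H : ℂ)⁻¹ * ∑ x : G, extendByZero H θ (x * g * x⁻¹) := by
  rw [indFun_apply]
  congr 1
  exact Fintype.sum_equiv (Equiv.inv G) _ _ (fun x => by simp)

theorem indFun_zero : indFun H (0 : H → ℂ) = 0 := by
  funext g; simp [indFun_apply, extendByZero_zero]

theorem indFun_add (θ φ : H → ℂ) : indFun H (θ + φ) = indFun H θ + indFun H φ := by
  funext g
  simp [indFun_apply, extendByZero_add, Finset.sum_add_distrib, mul_add]

theorem indFun_smul (c : ℂ) (θ : H → ℂ) : indFun H (c • θ) = c • indFun H θ := by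
  funext g
  simp only [indFun_apply, extendByZero_smul, Pi.smul_apply, smul_eq_mul, ← Finset.mul_sum]
  ring

/-- Induction as a linear map. -/
noncomputable def indLin : (H → ℂ) →ₗ[ℂ] (G → ℂ) where
  toFun := indFun H
  map_add' := indFun_add H
  map_smul' := indFun_smul H

theorem indLin_apply (θ : H → ℂ) : indLin H θ = indFun H θ := rfl

theorem indFun_neg (θ : H → ℂ) : indFun H (-θ) = -indFun H θ := map_neg (indLin H) θ

theorem indFun_sub (θ φ : H → ℂ) : indFun H (θ - φ) = indFun H θ - indFun H φ :=
  map_sub (indLin H) θ φ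

theorem indFun_sum {ι : Type*} (s : Finset ι) (θ : ι → H → ℂ) :
    indFun H (∑ i ∈ s, θ i) = ∑ i ∈ s, indFun H (θ i) :=
  map_sum (indLin H) θ s

theorem indFun_zsmul (n : ℤ) (θ : H → ℂ) : indFun H (n • θ) = n • indFun H θ :=
  map_zsmul (indLin H) n θ

theorem indFun_nsmul (n : ℕ) (θ : H → ℂ) : indFun H (n • θ) = n • indFun H θ :=
  map_nsmul (indLin H) n θ

theorem indFun_const_mul (c : ℂ) (θ : H → ℂ) (g : G) :
    indFun H (fun h => c * θ h) g = c * indFun H θ g :=
  congrFun (indFun_smul H c θ) g

/-- An induced function is always a class function. -/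
theorem indFun_isClassFunction (θ : H → ℂ) : IsClassFunction G (indFun H θ) := by
  intro g h
  simp only [indFun_apply]
  congr 1
  refine Fintype.sum_equiv (Equiv.mulLeft h⁻¹) _ _ (fun x => ?_)
  simp [mul_assoc]

theorem indFun_one (θ : H → ℂ) : indFun H θ 1 = (H.index : ℂ) * θ 1 := by
  rw [indFun_apply]
  have h1 : extendByZero H θ 1 = θ 1 := extendByZero_coe H θ 1
  simp only [mul_one, inv_mul_cancel, h1, Finset.sum_const, Finset.card_univ, nsmul_eq_mul]
  rw [← Nat.card_eq_fintype_card, ← H.card_mul_index]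
  have := natCard_cast_ne_zero H
  push_cast
  field_simp

theorem indFun_conj_apply (θ : H → ℂ) (g : G) :
    indFun H (fun h => conj (θ h)) g = conj (indFun H θ g) := by
  simp [indFun_apply, extendByZero_conj]

theorem indFun_conj (θ : H → ℂ) :
    indFun H (fun h => conj (θ h)) = fun g => conj (indFun H θ g) :=
  funext (indFun_conj_apply H θ)

theorem indFun_star (θ : H → ℂ) : indFun H (star θ) = star (indFun H θ) :=
  indFun_conj H θ

theorem indFun_inv_apply (θ : H → ℂ) (g : G) :
    indFun H (fun h => θ h⁻¹) g = indFun H θ g⁻¹ := by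
  classical
  simp only [indFun_apply]
  congr 1
  refine Finset.sum_congr rfl fun x _ => ?_
  by_cases hx : x⁻¹ * g * x ∈ H
  · have hx' : x⁻¹ * g⁻¹ * x ∈ H := by
      simpa [mul_assoc] using H.inv_mem hx
    rw [extendByZero_of_mem _ _ hx, extendByZero_of_mem _ _ hx']
    congr 1
    ext; simp [mul_assoc]
  · have hx' : x⁻¹ * g⁻¹ * x ∉ H := by
      intro hc; apply hx
      simpa [mul_assoc] using H.inv_mem hc
    rw [extendByZero_of_not_mem _ _ hx, extendByZero_of_not_mem _ _ hx']

/-- `Ind (θ · Res χ) = Ind θ · χ` for a class function `χ` of `G`. -/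
theorem indFun_mul_res_apply (θ : H → ℂ) {χ : G → ℂ} (hχ : IsClassFunction G χ) (g : G) :
    indFun H (fun h => θ h * χ h) g = indFun H θ g * χ g := by
  simp only [indFun_apply, extendByZero_mul_res]
  rw [mul_assoc, Finset.sum_mul]
  congr 1
  refine Finset.sum_congr rfl fun x _ => ?_
  have := hχ g x⁻¹
  rw [inv_inv] at this
  rw [this]

theorem indFun_mul_res (θ : H → ℂ) {χ : G → ℂ} (hχ : IsClassFunction G χ) :
    indFun H (θ * fun h : H => χ h) = indFun H θ * χ :=
  funext (indFun_mul_res_apply H θ hχ)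

theorem indFun_res_mul (θ : H → ℂ) {χ : G → ℂ} (hχ : IsClassFunction G χ) :
    indFun H ((fun h : H => χ h) * θ) = χ * indFun H θ := by
  rw [mul_comm, indFun_mul_res H θ hχ, mul_comm]

theorem indFun_res {χ : G → ℂ} (hχ : IsClassFunction G χ) :
    indFun H (fun h : H => χ h) = indFun H (fun _ => 1) * χ := by
  rw [← indFun_mul_res H _ hχ]
  congr 1
  funext h; simp

/-- The bilinear form of Frobenius reciprocity. -/
theorem sum_indFun_mul [Fintype H] (θ : H → ℂ) {χ : G → ℂ} (hχ : IsClassFunction G χ) :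
    (Nat.card G : ℂ)⁻¹ * ∑ g : G, indFun H θ g * χ g =
      (Nat.card H : ℂ)⁻¹ * ∑ h : H, θ h * χ h := by
  have h1 : ∀ x : G, ∑ g : G, extendByZero H θ (x⁻¹ * g * x) * χ g = ∑ h : H, θ h * χ h := by
    intro x
    rw [← sum_extendByZero_mul]
    refine Fintype.sum_equiv (MulAut.conj x⁻¹).toEquiv _ _ (fun g => ?_)
    have := hχ g x⁻¹
    simp only [inv_inv] at this
    simp [this]
  have h2 : ∑ g : G, indFun H θ g * χ g =
      (Nat.card H : ℂ)⁻¹ * ∑ x : G, ∑ g : G, extendByZero H θ (x⁻¹ * g * x) * χ g := by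
    rw [Finset.sum_comm, Finset.mul_sum]
    refine Finset.sum_congr rfl fun g _ => ?_
    rw [indFun_apply, mul_assoc, Finset.sum_mul]
  rw [h2]
  simp only [h1, Finset.sum_const, Finset.card_univ, nsmul_eq_mul]
  rw [← Nat.card_eq_fintype_card]
  have := natCard_cast_ne_zero G
  field_simp

/-- Frobenius reciprocity. -/
theorem classInner_indFun_left [Fintype H] (θ : H → ℂ) {χ : G → ℂ} (hχ : IsClassFunction G χ) :
    classInner (indFun H θ) χ = classInner θ (fun h : H => χ h) := by
  unfold classInner
  exact sum_indFun_mul H θ (χ := fun g => conj (χ g)) (fun g h => congrArg conj (hχ g h))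

/-- Frobenius reciprocity, other side. -/
theorem classInner_indFun_right [Fintype H] (θ : H → ℂ) {χ : G → ℂ} (hχ : IsClassFunction G χ) :
    classInner χ (indFun H θ) = classInner (fun h : H => χ h) θ := by
  unfold classInner
  have := sum_indFun_mul H (fun h => conj (θ h)) hχ
  simp only [indFun_conj_apply] at this
  simpa only [mul_comm] using this

/-- An induced function vanishes at `g` when the extension by zero vanishes on the class. -/
theorem indFun_eq_zero_of_forall (θ : H → ℂ) {g : G}
    (hg : ∀ (x : G) (hx : x * g * x⁻¹ ∈ H), θ ⟨x * g * x⁻¹, hx⟩ = 0) : indFun H θ g = 0 := by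
  rw [indFun_apply', Finset.sum_eq_zero, mul_zero]
  intro x _
  by_cases hx : x * g * x⁻¹ ∈ H
  · rw [extendByZero_of_mem _ _ hx, hg x hx]
  · exact extendByZero_of_not_mem _ _ hx

theorem indFun_eq_zero_of_not_conj (θ : H → ℂ) {g : G} (hg : ∀ x : G, x * g * x⁻¹ ∉ H) :
    indFun H θ g = 0 :=
  indFun_eq_zero_of_forall H θ (fun x hx => (hg x hx).elim)

/-- If `θ` is supported in `A ⊆ H` and `Ind θ` does not vanish at `g`, then `g` is conjugate
to an element of `A`. -/
theorem exists_conj_of_indFun_ne_zero (θ : H → ℂ) {g : G} (hg : indFun H θ g ≠ 0) :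
    ∃ (x : G) (hx : x * g * x⁻¹ ∈ H), θ ⟨x * g * x⁻¹, hx⟩ ≠ 0 := by
  by_contra hc
  push Not at hc
  exact hg (indFun_eq_zero_of_forall H θ hc)

theorem indFun_eq_zero_of_normal [hN : H.Normal] (θ : H → ℂ) {g : G} (hg : g ∉ H) :
    indFun H θ g = 0 := by
  refine indFun_eq_zero_of_not_conj H θ (fun x hx => hg ?_)
  simpa [mul_assoc] using hN.conj_mem _ hx x⁻¹

/-- If `H ≤ N` with `N` normal, an induced function vanishes off `N`. -/
theorem indFun_eq_zero_of_le_normal {N : Subgroup G} [hN : N.Normal] (hHN : H ≤ N) (θ : H → ℂ)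
    {g : G} (hg : g ∉ N) : indFun H θ g = 0 := by
  refine indFun_eq_zero_of_not_conj H θ (fun x hx => hg ?_)
  simpa [mul_assoc] using hN.conj_mem _ (hHN hx) x⁻¹

theorem indFun_apply_of_normal [hN : H.Normal] (θ : H → ℂ) (h : H) :
    indFun H θ h =
      (Nat.card H : ℂ)⁻¹ * ∑ x : G, θ ⟨x * h * x⁻¹, hN.conj_mem h h.2 x⟩ := by
  rw [indFun_apply']
  congr 1
  exact Finset.sum_congr rfl fun x _ => extendByZero_of_mem _ _ _

theorem indFun_top_apply {θ : (⊤ : Subgroup G) → ℂ} (hθ : IsClassFunction (⊤ : Subgroup G) θ)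
    (g : G) : indFun ⊤ θ g = θ ⟨g, Subgroup.mem_top g⟩ := by
  rw [indFun_apply']
  have : ∀ x : G, extendByZero ⊤ θ (x * g * x⁻¹) = θ ⟨g, Subgroup.mem_top g⟩ := by
    intro x
    rw [extendByZero_conj_mem _ hθ (Subgroup.mem_top x), extendByZero_of_mem]
  simp only [this, Finset.sum_const, Finset.card_univ, nsmul_eq_mul, Subgroup.card_top]
  rw [← Nat.card_eq_fintype_card]
  have := natCard_cast_ne_zero G
  field_simp

/-- Induction from the whole group (any subgroup equal to `⊤`). -/
theorem indFun_apply_of_eq_top (hH : H = ⊤) {θ : H → ℂ} (hθ : IsClassFunction H θ) (h : H) :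
    indFun H θ h = θ h := by
  subst hH
  exact indFun_top_apply hθ h

theorem indFun_bot_apply [DecidableEq G] (θ : (⊥ : Subgroup G) → ℂ) (g : G) :
    indFun ⊥ θ g = if g = 1 then (Nat.card G : ℂ) * θ 1 else 0 := by
  split_ifs with hg
  · rw [hg, indFun_one, Subgroup.index_bot]
  · exact indFun_eq_zero_of_normal _ _ (by simpa using hg)

/-- Transitivity of induction, with an arbitrary identification of the small function. -/
theorem indFun_indFun_of_eq (K : Subgroup G) [Fintype K] (L : Subgroup K) (θ : H → ℂ)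
    (φ : L → ℂ) (hL : ∀ k : K, k ∈ L ↔ (k : G) ∈ H) (hHK : H ≤ K)
    (hφ : ∀ l : L, φ l = θ ⟨(l : K), (hL _).1 l.2⟩) :
    indFun K (indFun L φ) = indFun H θ := by
  classical
  funext g
  have hcard : Nat.card L = Nat.card H := by
    have : L = H.subgroupOf K := by
      ext k; rw [hL, Subgroup.mem_subgroupOf]
    rw [this]
    exact Nat.card_congr (Subgroup.subgroupOfEquivOfLe hHK).toEquiv
  have hext : ∀ k : K, extendByZero L φ k = extendByZero H θ (k : G) := by
    intro k
    by_cases hk : k ∈ L
    · rw [extendByZero_of_mem _ _ hk, extendByZero_of_mem _ _ ((hL k).1 hk), hφ]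
    · rw [extendByZero_of_not_mem _ _ hk, extendByZero_of_not_mem _ _ (fun h => hk ((hL k).2 h))]
  have key : ∀ y : G, extendByZero K (indFun L φ) y =
      (Nat.card H : ℂ)⁻¹ * ∑ k : K, extendByZero H θ ((k : G)⁻¹ * y * k) := by
    intro y
    by_cases hy : y ∈ K
    · rw [extendByZero_of_mem _ _ hy, indFun_apply, hcard]
      congr 1
      refine Finset.sum_congr rfl fun k _ => ?_
      rw [hext]; simp
    · rw [extendByZero_of_not_mem _ _ hy, Finset.sum_eq_zero, mul_zero]
      intro k _
      apply extendByZero_of_not_mem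
      intro hc
      apply hy
      have := K.mul_mem (K.mul_mem k.2 (hHK hc)) (K.inv_mem k.2)
      simpa [mul_assoc] using this
  rw [indFun_apply, indFun_apply]
  simp only [key]
  rw [← Finset.mul_sum, Finset.sum_comm]
  have h2 : ∀ k : K, ∑ x : G, extendByZero H θ ((k : G)⁻¹ * (x⁻¹ * g * x) * k) =
      ∑ x : G, extendByZero H θ (x⁻¹ * g * x) := by
    intro k
    refine Fintype.sum_equiv (Equiv.mulRight (k : G)) _ _ (fun x => ?_)
    simp [mul_assoc]
  simp only [h2, Finset.sum_const, Finset.card_univ, nsmul_eq_mul]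
  rw [← Nat.card_eq_fintype_card]
  have := natCard_cast_ne_zero K
  field_simp

/-- Transitivity of induction. -/
theorem indFun_indFun (K : Subgroup G) [Fintype K] (hHK : H ≤ K) (θ : H → ℂ) :
    indFun K (indFun (H.subgroupOf K)
      (fun x => θ ⟨(x : K), Subgroup.mem_subgroupOf.mp x.2⟩)) = indFun H θ :=
  indFun_indFun_of_eq H K _ θ _ (fun _ => Subgroup.mem_subgroupOf) hHK (fun _ => rfl)

/-- Transitivity of induction for a subgroup of a subgroup. -/
theorem indFun_indFun_map (K : Subgroup G) [Fintype K] (L : Subgroup K) (φ : L → ℂ) :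
    indFun K (indFun L φ) = indFun (L.map K.subtype)
      (fun x => φ ((L.equivMapOfInjective K.subtype K.subtype_injective).symm x)) := by
  refine indFun_indFun_of_eq (L.map K.subtype) K L _ φ ?_ (Subgroup.map_subtype_le L) ?_
  · intro k
    constructor
    · intro hk; exact ⟨k, hk, rfl⟩
    · rintro ⟨k', hk', h⟩
      have : k' = k := Subtype.ext h
      exact this ▸ hk'
  · intro l
    congr 1
    rw [eq_comm, MulEquiv.symm_apply_eq]
    rfl

end Ind

end CL.Char
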