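import Cfsg.Agent.Base
import Cfsg.Agent.Char.Basic
import Cfsg.Agent.Char.Induce
import Cfsg.Agent.Char.BrauerSolomon

/-!
# Brauer's induction theorem (local and global form)
-/

set_option autoImplicit false

namespace CL.Brauer

open Cfsg MulAction CL.Char
open scoped ComplexConjugate

variable {G : Type*} [Group G]

theorem char_ind [Fintype G] (H : Subgroup G) {θ : H → ℂ} (hθ : IsCharacter H θ) :
    IsCharacter G (indFun H θ) := by
  have := Fintype.ofFinite H
  refine char_of_inner_nat (indFun_isClassFunction H θ) fun χ hχ => ?_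
  rw [classInner_indFun_left H θ (irr_isClassFunction hχ)]
  exact char_inner_nat hθ (char_restrict (irr_isCharacter hχ) H)

/-- A central element multiplies an irreducible character by a root of unity. -/
theorem irr_central_mul {χ : G → ℂ} (hχ : IsIrrCharacter G χ) {z : G}
    (hz : z ∈ Subgroup.center G) :
    ∃ ω : ℂ, ω ^ orderOf z = 1 ∧ ∀ y, χ (z * y) = ω * χ y := by
  obtain ⟨n, ρ, hρ, rfl⟩ := hχ
  obtain ⟨c, hc⟩ := exists_eq_smul_of_comm ρ (ρ z) (by
    intro g v
    rw [← Module.End.mul_apply, ← Module.End.mul_apply, ← map_mul, ← map_mul,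
      Subgroup.mem_center_iff.mp hz g])
  refine ⟨c, ?_, fun y => ?_⟩
  · have h1 : ρ z ^ orderOf z = 1 := by rw [← map_pow, pow_orderOf_eq_one, map_one]
    rw [hc, ← Module.End.one_eq_id, smul_pow, one_pow] at h1
    have := nontrivial_of_isIrreducible ρ
    obtain ⟨v, hv⟩ := exists_ne (0 : Fin n → ℂ)
    have h2 := congrArg (fun T => T v) h1
    simp only [LinearMap.smul_apply, Module.End.one_apply] at h2
    have h3 : (c ^ orderOf z - 1) • v = 0 := by rw [sub_smul, h2, one_smul, sub_self]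
    exact sub_eq_zero.mp ((smul_eq_zero.mp h3).resolve_right hv)
  · change LinearMap.trace ℂ _ (ρ (z * y)) = c * LinearMap.trace ℂ _ (ρ y)
    rw [map_mul, hc, ← Module.End.one_eq_id, smul_mul_assoc, one_mul, map_smul, smul_eq_mul]

/-- The join of a `p'`-element and a `p`-subgroup centralizing it is `p`-elementary. -/
theorem isElementary_sup [Finite G] {p : ℕ} (hp : p.Prime) {v : G} (hv : Nat.Coprime (orderOf v) p)
    {Q : Subgroup G} (hQ : IsPGroup p Q) (hQv : Q ≤ Subgroup.centralizer {v}) :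
    IsElementary p ↥(Subgroup.zpowers v ⊔ Q) := by
  have := Fact.mk hp
  set E : Subgroup G := Subgroup.zpowers v ⊔ Q with hE
  have hvE : v ∈ E := Subgroup.mem_sup_left (Subgroup.mem_zpowers v)
  have hEZ : E ≤ Subgroup.centralizer {v} := by
    refine sup_le ?_ hQv
    rw [Subgroup.zpowers_le, Subgroup.mem_centralizer_singleton_iff]
  have hc : (⟨v, hvE⟩ : E) ∈ Subgroup.center E := by
    rw [Subgroup.mem_center_iff]
    intro g
    exact Subtype.ext (Subgroup.mem_centralizer_singleton_iff.mp (hEZ g.2))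
  refine ⟨⟨v, hvE⟩, hc, by rwa [Subgroup.orderOf_mk], ?_⟩
  have hz : Subgroup.zpowers (⟨v, hvE⟩ : E) = (Subgroup.zpowers v).subgroupOf E := by
    ext y
    rw [Subgroup.mem_subgroupOf, Subgroup.mem_zpowers_iff, Subgroup.mem_zpowers_iff]
    exact exists_congr fun k => by rw [Subtype.ext_iff]; rfl
  have hn : (Subgroup.zpowers (⟨v, hvE⟩ : E)).Normal := by
    refine ⟨fun a ha g => ?_⟩
    have : a ∈ Subgroup.center E := (Subgroup.zpowers_le.mpr hc) ha
    rw [Subgroup.mem_center_iff.mp this g, mul_inv_cancel_right]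
    exact ha
  have htop : Subgroup.zpowers (⟨v, hvE⟩ : E) ⊔ Q.subgroupOf E = ⊤ := by
    rw [hz, ← Subgroup.subgroupOf_sup le_sup_left le_sup_right, Subgroup.subgroupOf_self]
  have h1 : (Subgroup.zpowers (⟨v, hvE⟩ : E)).index ∣ Nat.card (Q.subgroupOf E) := by
    rw [← Subgroup.relIndex_top_right, ← htop, Subgroup.relIndex_sup_left]
    exact Subgroup.index_dvd_card _
  obtain ⟨j, hj⟩ := IsPGroup.iff_card.mp (hQ.comap_subtype (K := E))
  change Nat.card (Q.subgroupOf E) = _ at hj
  rw [hj] at h1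
  obtain ⟨i, -, hi⟩ := (Nat.dvd_prime_pow hp).mp h1
  exact ⟨i, hi⟩

/-- The functions induced from characters of `p`-elementary subgroups. -/
def elemInd (G : Type*) [Group G] [Fintype G] (p : ℕ) : Set (G → ℂ) :=
  {f | ∃ (E : Subgroup G) (φ : E → ℂ), IsElementary p E ∧ IsCharacter E φ ∧ f = indFun E φ}

theorem char_of_mem_elemInd [Fintype G] {p : ℕ} {f : G → ℂ} (hf : f ∈ elemInd G p) :
    IsCharacter G f := by
  obtain ⟨E, φ, -, hφ, rfl⟩ := hf
  exact char_ind E hφ

theorem mul_mem_elemInd [Fintype G] {p : ℕ} {f χ : G → ℂ} (hf : f ∈ elemInd G p)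
    (hχ : IsCharacter G χ) : f * χ ∈ elemInd G p := by
  obtain ⟨E, φ, hE, hφ, rfl⟩ := hf
  exact ⟨E, _, hE, char_mul hφ (char_restrict hχ E),
    (indFun_mul_res E φ (char_isClassFunction hχ)).symm⟩

theorem mul_mem_span_elemInd [Fintype G] {p : ℕ} {R : Type*} [CommRing R] [Algebra R ℂ]
    {f χ : G → ℂ} (hf : f ∈ Submodule.span R (elemInd G p)) (hχ : IsCharacter G χ) :
    f * χ ∈ Submodule.span R (elemInd G p) := by
  induction hf using Submodule.span_induction with
  | mem f hf => exact Submodule.subset_span (mul_mem_elemInd hf hχ)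
  | zero => rw [zero_mul]; exact Submodule.zero_mem _
  | add f g _ _ hf hg => rw [add_mul]; exact Submodule.add_mem _ hf hg
  | smul c f _ hf => rw [smul_mul_assoc]; exact Submodule.smul_mem _ _ hf

theorem span_elemInd_mul_mem [Fintype G] {p : ℕ} {R : Type*} [CommRing R] [Algebra R ℂ]
    {f g : G → ℂ} (hf : f ∈ Submodule.span R (elemInd G p))
    (hg : g ∈ Submodule.span R (elemInd G p)) : f * g ∈ Submodule.span R (elemInd G p) := by
  induction hg using Submodule.span_induction with
  | mem g hg => exact mul_mem_span_elemInd hf (char_of_mem_elemInd hg)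
  | zero => rw [mul_zero]; exact Submodule.zero_mem _
  | add g h _ _ hg hh => rw [mul_add]; exact Submodule.add_mem _ hg hh
  | smul c g _ hg => rw [mul_smul_comm]; exact Submodule.smul_mem _ _ hg

/-- Descent from `R`-linear to `ℤ`-linear combinations of generalized characters. -/
theorem mem_span_int_of_mem_span [Fintype G] (R : Subalgebra ℤ ℂ) (T : R →ₗ[ℤ] ℤ) (hT : T 1 = 1)
    {S : Set (G → ℂ)} (hS : ∀ s ∈ S, IsGeneralizedCharacter G s) {f : G → ℂ}
    (hf : IsGeneralizedCharacter G f) (h : f ∈ Submodule.span R S) :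
    f ∈ Submodule.span ℤ S := by
  obtain ⟨n, a, s, rfl⟩ := Submodule.mem_span_set'.mp h
  have key : ∑ i, a i • (s i : G → ℂ) = ∑ i, T (a i) • (s i : G → ℂ) := by
    refine classFun_ext (gen_isClassFunction hf)
      (classFun_sum _ fun i _ => classFun_zsmul _ (gen_isClassFunction (hS _ (s i).2)))
      fun χ hχ => ?_
    obtain ⟨k, hk⟩ := gen_inner_int hf (gen_of_irr hχ)
    choose m hm using fun i => gen_inner_int (hS _ (s i).2) (gen_of_irr hχ)
    have h1 : (k : R) = ∑ i, m i • a i := by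
      apply Subtype.ext
      rw [classInner_sum_left] at hk
      simp only [Subalgebra.smul_def, classInner_smul_left, hm] at hk
      simp [← hk, mul_comm]
    have h2 : k = ∑ i, m i * T (a i) := by
      have := congrArg T h1
      rw [← Int.smul_one_eq_cast, map_smul, hT, smul_eq_mul, mul_one, map_sum] at this
      simpa only [map_smul, smul_eq_mul] using this
    rw [hk, classInner_sum_left, h2]
    simp only [classInner_zsmul_left, hm]
    push_cast
    exact Finset.sum_congr rfl fun i _ => mul_comm _ _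
  rw [key]
  exact Submodule.sum_mem _ fun i _ => Submodule.smul_mem _ _ (Submodule.subset_span (s i).2)

/-- A subring of `ℂ` containing the `n`-th roots of unity and having `ℤ` as a direct summand. -/
theorem exists_cyclotomic_retraction {n : ℕ} (hn : n ≠ 0) :
    ∃ (R : Subalgebra ℤ ℂ) (T : R →ₗ[ℤ] ℤ), T 1 = 1 ∧ ∀ z : ℂ, z ^ n = 1 → z ∈ R := by
  have hζ := Complex.isPrimitiveRoot_exp n hn
  set ζ := Complex.exp (2 * Real.pi * Complex.I / n)
  have hint : IsIntegral ℤ ζ := hζ.isIntegral (Nat.pos_of_ne_zero hn)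
  let pb := Algebra.adjoin.powerBasis' hint
  refine ⟨Algebra.adjoin ℤ {ζ}, pb.basis.coord ⟨0, pb.dim_pos⟩, ?_, fun z hz => ?_⟩
  · have : (1 : Algebra.adjoin ℤ {ζ}) = pb.basis ⟨0, pb.dim_pos⟩ := by
      rw [pb.basis_eq_pow]; simp
    rw [this, Module.Basis.coord_apply, Module.Basis.repr_self]; simp
  · have := NeZero.mk hn
    obtain ⟨i, -, rfl⟩ := hζ.eq_pow_of_pow_eq_one hz
    exact Subalgebra.pow_mem _ (Algebra.self_mem_adjoin_singleton ℤ ζ) i

/-- The key construction: a function in the `R`-span of `elemInd G p` with a value prime to `p`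
at a prescribed element. -/
theorem exists_mem_span_not_dvd [Fintype G] {p : ℕ} (hp : p.Prime) (R : Subalgebra ℤ ℂ)
    (hR : ∀ z : ℂ, z ^ Nat.card G = 1 → z ∈ R) (x : G) :
    ∃ f ∈ Submodule.span R (elemInd G p), ∃ n : ℕ, f x = n ∧ ¬ p ∣ n := by
  classical
  have := Fact.mk hp
  obtain ⟨u, -, v, -, rfl, huv, ⟨k, hk⟩, hv⟩ := exists_p_parts x hp
  set Z : Subgroup G := Subgroup.centralizer {v} with hZ
  have huZ : u ∈ Z := Subgroup.mem_centralizer_singleton_iff.mpr huv.eq
  obtain ⟨P⟩ : Nonempty (Sylow p Z) := inferInstance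
  set Q : Subgroup G := (P : Subgroup Z).map Z.subtype with hQ
  have hQZ : Q ≤ Z := Subgroup.map_subtype_le _
  have hQp : IsPGroup p Q := P.isPGroup'.map _
  have hE := isElementary_sup hp hv hQp hQZ
  set E : Subgroup G := Subgroup.zpowers v ⊔ Q with hEdef
  have := Fintype.ofFinite E
  have hvE : v ∈ E := Subgroup.mem_sup_left (Subgroup.mem_zpowers v)
  have hQE : Q ≤ E := le_sup_right
  have hEZ : E ≤ Z := by
    refine sup_le ?_ hQZ
    rw [Subgroup.zpowers_le, Subgroup.mem_centralizer_singleton_iff]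
  have hEN : E ≤ Subgroup.normalizer (Q : Set G) := by
    refine sup_le ?_ Q.le_normalizer
    rw [Subgroup.zpowers_le]
    apply Subgroup.centralizer_le_normalizer
    rw [Subgroup.mem_centralizer_iff]
    intro y hy
    exact Subgroup.mem_centralizer_singleton_iff.mp (hQZ hy)
  have hc : (⟨v, hvE⟩ : E) ∈ Subgroup.center E := by
    rw [Subgroup.mem_center_iff]
    intro g
    exact Subtype.ext (Subgroup.mem_centralizer_singleton_iff.mp (hEZ g.2))
  set c : ℂ := (Nat.card E : ℂ) / (Nat.card Q : ℂ) with hcdef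
  let ψ : E → ℂ := fun e => if v⁻¹ * e ∈ Q then c else 0
  have hψ : IsClassFunction E ψ := by
    intro e h
    have h1 : v⁻¹ * ((h * e * h⁻¹ : E) : G) = h * (v⁻¹ * e) * (h : G)⁻¹ := by
      have : (h : G) * v⁻¹ = v⁻¹ * h :=
        (Commute.inv_right (Subgroup.mem_centralizer_singleton_iff.mp (hEZ h.2))).eq
      simp only [Subgroup.coe_mul, Subgroup.coe_inv, ← mul_assoc, this]
    simp only [ψ, h1, ← Subgroup.mem_normalizer_iff.mp (hEN h.2)]
  have hinner : ∀ χ, IsIrrCharacter E χ → classInner ψ χ ∈ R := by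
    intro χ hχ
    obtain ⟨ω, hω, hχω⟩ := irr_central_mul hχ hc
    have := Fintype.ofFinite (Q.subgroupOf E)
    obtain ⟨j, hj⟩ := char_inner_nat (char_one (G := Q.subgroupOf E))
      (char_restrict (irr_isCharacter hχ) (Q.subgroupOf E))
    have hcard : Nat.card (Q.subgroupOf E) = Nat.card Q :=
      Nat.card_congr (Subgroup.subgroupOfEquivOfLe hQE).toEquiv
    have h1 : classInner ψ χ = conj ω * j := by
      rw [← hj, classInner_def, classInner_def, hcard,
        ← Equiv.sum_comp (Equiv.mulLeft (⟨v, hvE⟩ : E))]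
      have h2 : ∀ e : E, ψ (Equiv.mulLeft (⟨v, hvE⟩ : E) e) *
          conj (χ (Equiv.mulLeft (⟨v, hvE⟩ : E) e)) =
          c * conj ω * (extendByZero (Q.subgroupOf E) (fun _ => 1) e * conj (χ e)) := by
        intro e
        simp only [Equiv.coe_mulLeft, hχω, ψ, Subgroup.coe_mul, inv_mul_cancel_left,
          extendByZero_one_apply, Subgroup.mem_subgroupOf, map_mul]
        split_ifs <;> ring
      simp_rw [h2]
      rw [← Finset.mul_sum, sum_extendByZero_mul, hcdef]
      have h3 : (Nat.card E : ℂ) ≠ 0 := card_ne_zero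
      field_simp
    rw [h1]
    refine R.mul_mem (hR _ ?_) (natCast_mem R j)
    obtain ⟨d, hd⟩ : orderOf (⟨v, hvE⟩ : E) ∣ Nat.card G := by
      rw [Subgroup.orderOf_mk]; exact orderOf_dvd_natCard v
    rw [← map_pow, hd, pow_mul, hω, one_pow, map_one]
  refine ⟨indFun E ψ, ?_, Nat.card (fixedBy (Z ⧸ (P : Subgroup Z)) (⟨u, huZ⟩ : Z)), ?_, ?_⟩
  · rw [classFun_eq_sum hψ, indFun_sum]
    refine Submodule.sum_mem _ fun χ _ => ?_
    rw [indFun_smul]
    exact Submodule.smul_mem _ (⟨_, hinner χ χ.2⟩ : R)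
      (Submodule.subset_span ⟨E, χ, hE, irr_isCharacter χ.2, rfl⟩)
  · have := Fintype.ofFinite Z
    rw [← indFun_one_eq_card_fixedBy, indFun_one_apply_card, indFun_apply]
    have h1 : ∀ g : G, extendByZero E ψ (g⁻¹ * (u * v) * g) =
        if v⁻¹ * (g⁻¹ * (u * v) * g) ∈ Q then c else 0 := by
      intro g
      rw [extendByZero_apply]
      split_ifs with h1 h2 h2
      · simp only [ψ, h2, if_true]
      · simp only [ψ, h2, if_false]
      · exact (h1 (by simpa using E.mul_mem hvE (hQE h2))).elim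
      · rfl
    simp_rw [h1]
    rw [← Finset.sum_filter, Finset.sum_const, nsmul_eq_mul, ← Fintype.card_subtype,
      ← Nat.card_eq_fintype_card]
    have h2 : Nat.card {g : G // v⁻¹ * (g⁻¹ * (u * v) * g) ∈ Q} =
        Nat.card {y : Z // y⁻¹ * ⟨u, huZ⟩ * y ∈ (P : Subgroup Z)} := by
      have hfw : ∀ g : G, v⁻¹ * (g⁻¹ * (u * v) * g) ∈ Q → g ∈ Z := by
        intro g hg
        obtain ⟨j, hj⟩ := hQp ⟨_, hg⟩
        have hj' : (v⁻¹ * (g⁻¹ * (u * v) * g)) ^ p ^ j = 1 := congrArg Subtype.val hj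
        set y := v⁻¹ * (g⁻¹ * (u * v) * g) with hy
        have hyv : Commute y v := Subgroup.mem_centralizer_singleton_iff.mp (hQZ hg)
        have h3 : (g⁻¹ * u * g) * (g⁻¹ * v * g) = y * v := by
          rw [hyv.eq, hy]; group
        have h4 : Commute (g⁻¹ * u * g) (g⁻¹ * v * g) := by
          have := huv.map (MulAut.conj g⁻¹)
          simpa using this
        have h5 := coprime_parts_unique h4 hyv (m := p ^ (k + j)) (n := orderOf v)
          (hv.symm.pow_left _) (by
            have := conj_pow (a := g⁻¹) (b := u) (i := p ^ (k + j))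
            rw [inv_inv] at this
            rw [this, pow_add, pow_mul, hk]; simp) (by
            have := conj_pow (a := g⁻¹) (b := v) (i := orderOf v)
            rw [inv_inv] at this
            rw [this, pow_orderOf_eq_one]; simp)
          (by rw [add_comm, pow_add, pow_mul, hj', one_pow]) (pow_orderOf_eq_one v) h3
        rw [Subgroup.mem_centralizer_singleton_iff]
        calc g * v = g * (g⁻¹ * v * g) := by rw [h5.2]
          _ = v * g := by group
      have hid : ∀ g ∈ Z, v⁻¹ * (g⁻¹ * (u * v) * g) = g⁻¹ * u * g := by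
        intro g hg
        have h3 : g * v = v * g := Subgroup.mem_centralizer_singleton_iff.mp hg
        have h4 : g⁻¹ * u * g ∈ Z := Z.mul_mem (Z.mul_mem (Z.inv_mem hg) huZ) hg
        have h5 := Subgroup.mem_centralizer_singleton_iff.mp h4
        calc v⁻¹ * (g⁻¹ * (u * v) * g) = v⁻¹ * (g⁻¹ * u * (v * g)) := by group
          _ = v⁻¹ * (g⁻¹ * u * g * v) := by rw [← h3]; group
          _ = g⁻¹ * u * g := by rw [h5]; group
      have hmem : ∀ y : Z, y ∈ (P : Subgroup Z) ↔ (y : G) ∈ Q := fun y =>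
        (Subgroup.mem_map_iff_mem Z.subtype_injective).symm
      refine Nat.card_congr ⟨fun g => ⟨⟨g.1, hfw g.1 g.2⟩, ?_⟩, fun y => ⟨y.1.1, ?_⟩,
        fun _ => rfl, fun _ => rfl⟩
      · rw [hmem]
        have := g.2
        rwa [hid _ (hfw g.1 g.2)] at this
      · rw [hid _ y.1.2]
        exact (hmem _).mp y.2
    have h3 : Nat.card Q = Nat.card P := Subgroup.card_map_of_injective Z.subtype_injective
    rw [h2, hcdef, h3]
    have h4 : (Nat.card E : ℂ) ≠ 0 := card_ne_zero
    field_simp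
  · have h1 := card_fixedBy_mul_modEq (X := Z ⧸ (P : Subgroup Z)) (u := (⟨u, huZ⟩ : Z)) (v := 1)
      (Commute.one_right _) hp (k := k) (n := 1) (Subtype.ext hk) (one_pow 1) (by simp)
    rw [mul_one, fixedBy_one_eq_univ, Nat.card_congr (Equiv.Set.univ _)] at h1
    intro h
    exact P.not_dvd_index ((Nat.modEq_zero_iff_dvd).mp
      (h1.symm.trans ((Nat.modEq_zero_iff_dvd).mpr h)))

/-- Local form of Brauer's induction theorem. -/
theorem exists_const_mem_span_elemInd [Fintype G] {p : ℕ} (hp : p.Prime) :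
    ∃ m : ℤ, ¬ (p : ℤ) ∣ m ∧ (fun _ : G => (m : ℂ)) ∈ Submodule.span ℤ (elemInd G p) := by
  obtain ⟨R, T, hT, hR⟩ := exists_cyclotomic_retraction (n := Nat.card G) Nat.card_pos.ne'
  choose f hf n hn hpn using exists_mem_span_not_dvd hp R hR
  have h := const_prod_mem (Submodule.span R (elemInd G p))
    (fun _ hf _ hg => span_elemInd_mul_mem hf hg) (fun x => (n x : R))
    (fun x => ⟨f x, hf x, by simp [hn]⟩)
  refine ⟨∏ x, (n x : ℤ), ?_, ?_⟩
  · rw [(Nat.prime_iff_prime_int.mp hp).dvd_finsetProd_iff]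
    rintro ⟨x, -, hx⟩
    exact hpn x (Int.natCast_dvd_natCast.mp hx)
  · refine mem_span_int_of_mem_span R T hT (fun s hs => gen_of_char (char_of_mem_elemInd hs)) ?_
      (by simpa using h)
    have := gen_intCast_smul (∏ x, (n x : ℤ)) (gen_one (G := G))
    convert this using 1
    funext g
    simp

end CL.Brauer
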