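import Cfsg.Agent.Base
import Cfsg.Agent.Char.BrauerInd

/-!
# Brauer's induction theorem (global form) and Brauer's characterization of characters
-/

set_option autoImplicit false

namespace CL.Brauer

open Cfsg MulAction CL.Char
open scoped ComplexConjugate

variable {G : Type*} [Group G]

/-- The functions induced from characters of elementary subgroups (for any prime). -/
def elemIndAll (G : Type*) [Group G] [Fintype G] : Set (G → ℂ) :=
  {f | ∃ p : ℕ, p.Prime ∧ f ∈ elemInd G p}

/-- Brauer's induction theorem for the principal character. -/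
theorem one_mem_span_elemIndAll [Fintype G] :
    (fun _ : G => (1 : ℂ)) ∈ Submodule.span ℤ (elemIndAll G) := by
  let I : Ideal ℤ := (Submodule.span ℤ (elemIndAll G)).comap
    (LinearMap.toSpanSingleton ℤ (G → ℂ) (fun _ => 1))
  have hI : ∀ m : ℤ, m ∈ I ↔ (fun _ : G => (m : ℂ)) ∈ Submodule.span ℤ (elemIndAll G) := by
    intro m
    have : (fun _ : G => (m : ℂ)) = m • (fun _ : G => (1 : ℂ)) := by funext g; simp
    rw [this]; rfl
  obtain ⟨d, hd⟩ := (IsPrincipalIdealRing.principal I).principal
  have hdI : d ∈ I := by rw [hd]; exact Submodule.mem_span_singleton_self d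
  have h1 : d.natAbs = 1 := by
    by_contra h
    obtain ⟨p, hp, hpd⟩ := Nat.exists_prime_and_dvd h
    obtain ⟨m, hm, hmem⟩ := exists_const_mem_span_elemInd (G := G) hp
    have hsub : elemInd G p ⊆ elemIndAll G := fun f hf => ⟨p, hp, hf⟩
    have : m ∈ I := (hI m).mpr (Submodule.span_mono hsub hmem)
    rw [hd, Submodule.mem_span_singleton] at this
    obtain ⟨c, rfl⟩ := this
    exact hm (Dvd.dvd.mul_left (Int.natCast_dvd.mpr hpd) c)
  have h2 : (1 : ℤ) ∈ I := by
    rcases Int.natAbs_eq_iff.mp h1 with h | h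
    · rw [h] at hdI; simpa using hdI
    · rw [h] at hdI; simpa using I.neg_mem hdI
  simpa using (hI 1).mp h2

theorem mul_mem_span_elemIndAll [Fintype G] {f χ : G → ℂ}
    (hf : f ∈ Submodule.span ℤ (elemIndAll G)) (hχ : IsCharacter G χ) :
    f * χ ∈ Submodule.span ℤ (elemIndAll G) := by
  induction hf using Submodule.span_induction with
  | mem f hf =>
    obtain ⟨p, hp, hf⟩ := hf
    exact Submodule.subset_span ⟨p, hp, mul_mem_elemInd hf hχ⟩
  | zero => rw [zero_mul]; exact Submodule.zero_mem _
  | add f g _ _ hf hg => rw [add_mul]; exact Submodule.add_mem _ hf hg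
  | smul c f _ hf => rw [smul_mul_assoc]; exact Submodule.smul_mem _ _ hf

/-- Brauer's induction theorem: every character is an integer combination of characters induced
from elementary subgroups. -/
theorem char_mem_span_elemIndAll [Fintype G] {χ : G → ℂ} (hχ : IsCharacter G χ) :
    χ ∈ Submodule.span ℤ (elemIndAll G) := by
  have h := mul_mem_span_elemIndAll one_mem_span_elemIndAll hχ
  have : (fun _ : G => (1 : ℂ)) * χ = χ := by funext g; simp
  rwa [this] at h

theorem gen_mem_span_elemIndAll [Fintype G] {χ : G → ℂ} (hχ : IsGeneralizedCharacter G χ) :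
    χ ∈ Submodule.span ℤ (elemIndAll G) := by
  obtain ⟨a, b, ha, hb, rfl⟩ := hχ
  exact Submodule.sub_mem _ (char_mem_span_elemIndAll ha) (char_mem_span_elemIndAll hb)

/-- `p`-local version: a fixed multiple prime to `p` of any character is induced from
`p`-elementary subgroups. -/
theorem exists_smul_char_mem_span_elemInd [Fintype G] {p : ℕ} (hp : p.Prime) :
    ∃ m : ℤ, ¬ (p : ℤ) ∣ m ∧ ∀ χ : G → ℂ, IsCharacter G χ →
      (m : ℂ) • χ ∈ Submodule.span ℤ (elemInd G p) := by
  obtain ⟨m, hm, h⟩ := exists_const_mem_span_elemInd (G := G) hp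
  exact ⟨m, hm, fun χ hχ => mul_mem_span_elemInd h hχ⟩

theorem inner_mem_of_irr [Fintype G] (R : AddSubgroup ℂ) {θ : G → ℂ}
    (h : ∀ χ, IsIrrCharacter G χ → classInner θ χ ∈ R) {ξ : G → ℂ} (hξ : IsCharacter G ξ) :
    classInner θ ξ ∈ R := by
  refine char_induction (P := fun ξ => classInner θ ξ ∈ R) ?_ h ?_ hξ
  · rw [classInner_zero_right]; exact R.zero_mem
  · intro a b _ _ ha hb
    rw [classInner_add_right]; exact R.add_mem ha hb

theorem inner_indFun_mul_mem [Fintype G] (R : AddSubgroup ℂ) {θ : G → ℂ}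
    (hθ : IsClassFunction G θ) (E : Subgroup G) [Fintype E]
    (h : ∀ ψ, IsIrrCharacter E ψ → classInner (fun e : E => θ e) ψ ∈ R) {φ : E → ℂ}
    (hφ : IsCharacter E φ) {χ : G → ℂ} (hχ : IsCharacter G χ) :
    classInner (indFun E φ * θ) χ ∈ R := by
  rw [← indFun_mul_res E φ hθ, classInner_indFun_left E _ (char_isClassFunction hχ), mul_comm,
    classInner_mul_left]
  exact inner_mem_of_irr R h (char_mul (char_conj hφ) (char_restrict hχ E))

theorem inner_mul_mem_of_mem_span [Fintype G] (R : AddSubgroup ℂ) {θ χ : G → ℂ}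
    {S : Set (G → ℂ)} (hS : ∀ s ∈ S, classInner (s * θ) χ ∈ R) {f : G → ℂ}
    (hf : f ∈ Submodule.span ℤ S) : classInner (f * θ) χ ∈ R := by
  induction hf using Submodule.span_induction with
  | mem f hf => exact hS f hf
  | zero => rw [zero_mul, classInner_zero_left]; exact R.zero_mem
  | add f g _ _ hf hg => rw [add_mul, classInner_add_left]; exact R.add_mem hf hg
  | smul c f _ hf =>
    rw [smul_mul_assoc, classInner_zsmul_left, ← zsmul_eq_mul]; exact R.zsmul_mem hf c

/-- Brauer's characterization of characters with coefficients in an additive subgroup `R` of `ℂ`: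
if all restrictions of a class function to elementary subgroups have their Fourier coefficients in
`R`, so does the function. -/
theorem inner_mem_of_elementary [Fintype G] (R : AddSubgroup ℂ) {θ : G → ℂ}
    (hθ : IsClassFunction G θ)
    (h : ∀ (E : Subgroup G) [Fintype E] (p : ℕ), p.Prime → IsElementary p E →
      ∀ ψ, IsIrrCharacter E ψ → classInner (fun e : E => θ e) ψ ∈ R)
    {χ : G → ℂ} (hχ : IsCharacter G χ) : classInner θ χ ∈ R := by
  have h1 := inner_mul_mem_of_mem_span R (θ := θ) (χ := χ) (S := elemIndAll G) (by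
    rintro _ ⟨p, hp, E, φ, hE, hφ, rfl⟩
    have := Fintype.ofFinite E
    exact inner_indFun_mul_mem R hθ E (h E p hp hE) hφ hχ) one_mem_span_elemIndAll
  have : (fun _ : G => (1 : ℂ)) * θ = θ := by funext g; simp
  rwa [this] at h1

/-- `p`-local form of the characterization. -/
theorem exists_mul_inner_mem_of_elementary [Fintype G] {p : ℕ} (hp : p.Prime) :
    ∃ m : ℤ, ¬ (p : ℤ) ∣ m ∧ ∀ (R : AddSubgroup ℂ) (θ : G → ℂ), IsClassFunction G θ →
      (∀ (E : Subgroup G) [Fintype E], IsElementary p E →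
        ∀ ψ, IsIrrCharacter E ψ → classInner (fun e : E => θ e) ψ ∈ R) →
      ∀ χ : G → ℂ, IsCharacter G χ → (m : ℂ) * classInner θ χ ∈ R := by
  obtain ⟨m, hm, hmem⟩ := exists_const_mem_span_elemInd (G := G) hp
  refine ⟨m, hm, fun R θ hθ h χ hχ => ?_⟩
  have h1 := inner_mul_mem_of_mem_span R (θ := θ) (χ := χ) (S := elemInd G p) (by
    rintro _ ⟨E, φ, hE, hφ, rfl⟩
    have := Fintype.ofFinite E
    exact inner_indFun_mul_mem R hθ E (h E hE) hφ hχ) hmem
  rw [← classInner_smul_left]
  exact h1

/-- Brauer's characterization of generalized characters. -/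
theorem gen_of_elementary [Finite G] {θ : G → ℂ} (hθ : IsClassFunction G θ)
    (hE : ∀ (E : Subgroup G) (p : ℕ), p.Prime → IsElementary p E →
      IsGeneralizedCharacter E (fun e : E => θ e)) : IsGeneralizedCharacter G θ := by
  have := Fintype.ofFinite G
  refine gen_of_inner_int hθ fun χ hχ => ?_
  have h := inner_mem_of_elementary (Int.castAddHom ℂ).range hθ (fun E _ p hp hE' ψ hψ => by
    obtain ⟨n, hn⟩ := gen_inner_int (hE E p hp hE') (gen_of_irr hψ)
    exact ⟨n, hn.symm⟩) (irr_isCharacter hχ)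
  obtain ⟨n, hn⟩ := h
  exact ⟨n, hn.symm⟩

/-- List form of membership in the span of `elemInd`. -/
theorem exists_list_of_mem_span_elemInd [Fintype G] {p : ℕ} {f : G → ℂ}
    (hf : f ∈ Submodule.span ℤ (elemInd G p)) :
    ∃ l : List ((E : Subgroup G) × ((E → ℂ) × ℤ)),
      (∀ t ∈ l, IsElementary p t.1 ∧ IsCharacter t.1 t.2.1) ∧
      f = (l.map fun t => (t.2.2 : ℂ) • indFun t.1 t.2.1).sum := by
  induction hf using Submodule.span_induction with
  | mem f hf =>
    obtain ⟨E, φ, hE, hφ, rfl⟩ := hf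
    exact ⟨[⟨E, φ, 1⟩], by simpa using ⟨hE, hφ⟩, by simp⟩
  | zero => exact ⟨[], by simp, by simp⟩
  | add f g _ _ hf hg =>
    obtain ⟨l, hl, rfl⟩ := hf
    obtain ⟨l', hl', rfl⟩ := hg
    refine ⟨l ++ l', fun t ht => ?_, by simp⟩
    rcases List.mem_append.mp ht with h | h
    exacts [hl t h, hl' t h]
  | smul c f _ hf =>
    obtain ⟨l, hl, rfl⟩ := hf
    refine ⟨l.map fun t => ⟨t.1, t.2.1, c * t.2.2⟩, fun t ht => ?_, ?_⟩
    · obtain ⟨s, hs, rfl⟩ := List.mem_map.mp ht
      exact hl s hs
    · rw [List.smul_sum, List.map_map, List.map_map]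
      congr 2
      funext t
      simp only [Function.comp_apply, mul_smul, Int.cast_smul_eq_zsmul]

/-! ### Structure of elementary groups -/

/-- An elementary group is nilpotent. -/
theorem elementary_isNilpotent {E : Type*} [Group E] [Finite E] {p : ℕ} (hp : p.Prime)
    (hE : IsElementary p E) : Group.IsNilpotent E := by
  obtain ⟨x, hx, -, k, hk⟩ := hE
  have := Fact.mk hp
  have hle : Subgroup.zpowers x ≤ Subgroup.center E := Subgroup.zpowers_le.mpr hx
  have h1 : IsPGroup p (E ⧸ Subgroup.center E) := by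
    have h2 : (Subgroup.center E).index ∣ p ^ k := hk ▸ Subgroup.index_dvd_of_le hle
    obtain ⟨i, -, hi⟩ := (Nat.dvd_prime_pow hp).mp h2
    exact IsPGroup.of_card hi
  exact Group.of_quotient_center_nilpotent h1.isNilpotent

end CL.Brauer
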