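import Cfsg.Agent.Base
import Cfsg.Agent.Char.BrauerChar

/-!
# Elementary groups: subgroups, `π`-part homomorphisms; composition of class functions with homs
-/

set_option autoImplicit false

namespace CL.Brauer

open Cfsg MulAction CL.Char
open scoped ComplexConjugate

/-- A group that embeds in a `p`-elementary group is `p`-elementary. -/
theorem isElementary_of_injective {E H : Type*} [Group E] [Group H] {p : ℕ} (hp : p.Prime)
    (hE : IsElementary p E) (f : H →* E) (hf : Function.Injective f) : IsElementary p H := by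
  obtain ⟨x, hx, hcop, k, hk⟩ := hE
  have hn : (Subgroup.zpowers x).Normal := by
    refine ⟨fun a ha g => ?_⟩
    have : a ∈ Subgroup.center E := (Subgroup.zpowers_le.mpr hx) ha
    rw [Subgroup.mem_center_iff.mp this g, mul_inv_cancel_right]
    exact ha
  set D : Subgroup H := (Subgroup.zpowers x).comap f with hD
  have hcyc : IsCyclic D :=
    isCyclic_of_injective ((f.comp D.subtype).codRestrict (Subgroup.zpowers x) fun d => d.2)
      (fun a b h => Subtype.ext (hf (congrArg Subtype.val h)))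
  obtain ⟨y, hy⟩ := (Subgroup.isCyclic_iff_exists_zpowers_eq_top D).mp hcyc
  have hyD : y ∈ D := hy ▸ Subgroup.mem_zpowers y
  refine ⟨y, ?_, ?_, ?_⟩
  · rw [Subgroup.mem_center_iff]
    intro g
    apply hf
    rw [map_mul, map_mul]
    exact Subgroup.mem_center_iff.mp ((Subgroup.zpowers_le.mpr hx) hyD) _
  · rw [← orderOf_injective f hf y]
    exact Nat.Coprime.of_dvd_left (orderOf_dvd_of_mem_zpowers hyD) hcop
  · have h1 : D.index ∣ p ^ k := by
      rw [hD, Subgroup.index_comap, ← hk]
      exact Subgroup.relIndex_dvd_index_of_normal _ _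
    obtain ⟨i, -, hi⟩ := (Nat.dvd_prime_pow hp).mp h1
    exact ⟨i, hy ▸ hi⟩

theorem isElementary_subgroup {E : Type*} [Group E] {p : ℕ} (hp : p.Prime)
    (hE : IsElementary p E) (H : Subgroup E) : IsElementary p H :=
  isElementary_of_injective hp hE H.subtype H.subtype_injective

theorem isElementary_of_le {G : Type*} [Group G] {p : ℕ} (hp : p.Prime) {E H : Subgroup G}
    (hE : IsElementary p E) (h : H ≤ E) : IsElementary p H :=
  isElementary_of_injective hp hE (Subgroup.inclusion h) (Subgroup.inclusion_injective h)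

theorem isElementary_map_subtype {G : Type*} [Group G] {p : ℕ} (hp : p.Prime) {E : Subgroup G}
    (hE : IsElementary p E) (H : Subgroup E) : IsElementary p (H.map E.subtype) :=
  isElementary_of_le hp hE (Subgroup.map_subtype_le H)

/-- A finite cyclic group is `p`-elementary for every prime `p`. -/
theorem isElementary_of_isCyclic {E : Type*} [Group E] [Finite E] [IsCyclic E] {p : ℕ}
    (hp : p.Prime) : IsElementary p E := by
  obtain ⟨x, hx⟩ := IsCyclic.exists_generator (α := E)
  obtain ⟨u, -, v, -, hxuv, huv, ⟨k, hk⟩, hv⟩ := exists_p_parts x hp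
  have hc : ∀ a : E, a ∈ Subgroup.center E := fun a =>
    Subgroup.mem_center_iff.mpr fun g => mul_comm' g a
  refine ⟨v, hc v, hv, ?_⟩
  have := Fact.mk hp
  have hn : (Subgroup.zpowers v).Normal := ⟨fun a ha g => by
    rw [mul_comm' g a, mul_inv_cancel_right]; exact ha⟩
  have h1 : IsPGroup p (E ⧸ Subgroup.zpowers v) := by
    intro q
    induction q using QuotientGroup.induction_on with
    | H z =>
      obtain ⟨i, rfl⟩ := hx z
      refine ⟨k, ?_⟩
      rw [← QuotientGroup.mk_pow, QuotientGroup.eq_one_iff]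
      simp only
      rw [← zpow_natCast, ← zpow_mul, mul_comm, zpow_mul, zpow_natCast, hxuv, huv.mul_pow, hk,
        one_mul]
      exact Subgroup.zpow_mem _ (Subgroup.pow_mem _ (Subgroup.mem_zpowers v) _) _
  exact IsPGroup.iff_card.mp h1

variable {G : Type*} [Group G]

/-- In a finite nilpotent group, taking `π`-parts is multiplicative. -/
theorem nilpotent_mul_zpow [Finite G] [Group.IsNilpotent G] {m n : ℕ} {a b : ℤ}
    (hab : a * m + b * n = 1) (hG : Nat.card G ∣ m * n) (x y : G) :
    (x * y) ^ (b * n) = x ^ (b * n) * y ^ (b * n) := by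
  have hmn : Nat.Coprime m n := Nat.isCoprime_iff_coprime.mp ⟨a, b, hab⟩
  obtain ⟨e⟩ := ((Group.isNilpotent_of_finite_tfae (G := G)).out 0 4).mp ‹_›
  obtain ⟨x, rfl⟩ := e.surjective x
  obtain ⟨y, rfl⟩ := e.surjective y
  rw [← map_mul, ← map_zpow, ← map_zpow, ← map_zpow, ← map_mul]
  congr 1
  funext q P
  have hq : (q : ℕ).Prime := Nat.prime_of_mem_primeFactors q.2
  have := Fact.mk hq
  obtain ⟨k, hk⟩ := IsPGroup.iff_card.mp P.isPGroup'
  have h1 : (q : ℕ) ^ k ∣ m * n := hk ▸ (Subgroup.card_subgroup_dvd_card _).trans hG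
  simp only [Pi.pow_apply, Pi.mul_apply]
  by_cases hqn : (q : ℕ) ∣ n
  · have h2 : Nat.Coprime ((q : ℕ) ^ k) m :=
      ((Nat.Coprime.of_dvd_right hqn hmn).symm).pow_left k
    have h3 : Nat.card (P : Subgroup G) ∣ n := hk ▸ h2.dvd_of_dvd_mul_left h1
    have h4 : ∀ z : (P : Subgroup G), z ^ (b * n) = 1 := fun z => by
      rw [mul_comm, zpow_mul, zpow_natCast,
        orderOf_dvd_iff_pow_eq_one.mp ((orderOf_dvd_natCard z).trans h3), one_zpow]
    rw [h4, h4, h4, mul_one]
  · have h2 : Nat.Coprime ((q : ℕ) ^ k) n := ((Nat.Prime.coprime_iff_not_dvd hq).mpr hqn).pow_left k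
    have h3 : Nat.card (P : Subgroup G) ∣ m := hk ▸ h2.dvd_of_dvd_mul_right h1
    have h4 : ∀ z : (P : Subgroup G), z ^ (b * n) = z := fun z => by
      have := left_eq_zpow_of_coprime (Commute.one_right z) hab
        (orderOf_dvd_iff_pow_eq_one.mp ((orderOf_dvd_natCard z).trans h3)) (one_pow n)
      rwa [mul_one] at this
    rw [h4, h4, h4]

/-- The `π`-part homomorphism of a finite nilpotent group. -/
def partHom [Finite G] [Group.IsNilpotent G] {m n : ℕ} {a b : ℤ}
    (hab : a * m + b * n = 1) (hG : Nat.card G ∣ m * n) : G →* G :=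
  MonoidHom.mk' (fun x => x ^ (b * n)) (nilpotent_mul_zpow hab hG)

theorem partHom_apply [Finite G] [Group.IsNilpotent G] {m n : ℕ} {a b : ℤ}
    (hab : a * m + b * n = 1) (hG : Nat.card G ∣ m * n) (x : G) :
    partHom hab hG x = x ^ (b * n) := rfl

/-- A finite group killed by `m` whose order divides `m n` (coprime) has order dividing `m`. -/
theorem card_dvd_of_pow_eq_one [Finite G] {m n : ℕ} (hmn : Nat.Coprime m n)
    (hG : Nat.card G ∣ m * n) (h : ∀ x : G, x ^ m = 1) : Nat.card G ∣ m := by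
  refine Nat.Coprime.dvd_of_dvd_mul_right ?_ hG
  apply Nat.Coprime.symm
  rw [Nat.coprime_iff_gcd_eq_one]
  by_contra hne
  obtain ⟨q, hq, hqd⟩ := Nat.exists_prime_and_dvd hne
  have := Fact.mk hq
  obtain ⟨x, hx⟩ := exists_prime_orderOf_dvd_card' q (hqd.trans (Nat.gcd_dvd_right _ _))
  have h1 : q ∣ m := hx ▸ orderOf_dvd_of_pow_eq_one (h x)
  have h2 : q ∣ n := hqd.trans (Nat.gcd_dvd_left _ _)
  exact hq.one_lt.ne' (Nat.eq_one_of_dvd_coprimes hmn h1 h2)

theorem card_range_partHom_dvd [Finite G] [Group.IsNilpotent G] {m n : ℕ} {a b : ℤ}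
    (hab : a * m + b * n = 1) (hG : Nat.card G ∣ m * n) :
    Nat.card (partHom hab hG).range ∣ m := by
  refine card_dvd_of_pow_eq_one (Nat.isCoprime_iff_coprime.mp ⟨a, b, hab⟩)
    ((Subgroup.card_subgroup_dvd_card _).trans hG) ?_
  rintro ⟨_, x, rfl⟩
  apply Subtype.ext
  change (x ^ (b * n)) ^ m = 1
  rw [← zpow_natCast, ← zpow_mul, show b * n * m = ((m * n : ℕ) : ℤ) * b by push_cast; ring,
    zpow_mul, zpow_natCast, orderOf_dvd_iff_pow_eq_one.mp ((orderOf_dvd_natCard x).trans hG),
    one_zpow]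

/-- Pulling back along a homomorphism preserves "all Fourier coefficients lie in `R`". -/
theorem inner_comp_mem {E N : Type*} [Group E] [Fintype E] [Group N] [Fintype N]
    (R : AddSubgroup ℂ) {η : N → ℂ} (hη : IsClassFunction N η)
    (h : ∀ ξ, IsIrrCharacter N ξ → classInner η ξ ∈ R) (f : E →* N) {ψ : E → ℂ}
    (hψ : IsCharacter E ψ) : classInner (fun e => η (f e)) ψ ∈ R := by
  have h1 : (fun e => η (f e)) =
      ∑ ξ : IrrCharacter N, classInner η ξ • (fun e => (ξ : N → ℂ) (f e)) := by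
    funext e
    rw [classFun_apply_eq_sum hη]
    simp [Finset.sum_apply]
  rw [h1, classInner_sum_left]
  refine R.sum_mem fun ξ _ => ?_
  obtain ⟨k, hk⟩ := char_inner_nat (char_comp (irr_isCharacter ξ.2) f) hψ
  rw [classInner_smul_left, hk, mul_comm, ← nsmul_eq_mul]
  exact R.nsmul_mem (h ξ ξ.2) k

theorem isIntegral_of_pow_eq_one' {z : ℂ} {n : ℕ} (hn : 0 < n) (hz : z ^ n = 1) :
    IsIntegral ℤ z :=
  IsIntegral.of_pow hn (hz ▸ isIntegral_one)

theorem char_apply_isIntegral [Finite G] {χ : G → ℂ} (hχ : IsCharacter G χ) (g : G) :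
    IsIntegral ℤ (χ g) := by
  obtain ⟨s, -, hs, h, -⟩ := char_exists_eigenvalues_nat hχ g
  rw [h]
  exact IsIntegral.multiset_sum fun ζ hζ => isIntegral_of_pow_eq_one' (orderOf_pos g) (hs ζ hζ)

end CL.Brauer
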