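import Cfsg.Agent.Char.Basic

/-!
# Second orthogonality relation, number of irreducible characters, representations are determined
by their characters, and assorted consequences
-/

set_option autoImplicit false

open Cfsg Module
open scoped ComplexConjugate

namespace CL.Char

section Classes

variable {G : Type*} [Group G]

/-- the elements conjugating `h` to `g` form a coset of the centralizer -/
theorem card_conjugators_of_isConj {g h : G} (hc : IsConj g h) :
    Nat.card {y : G // y * h * y⁻¹ = g} = Nat.card (Subgroup.centralizer ({g} : Set G)) := by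
  obtain ⟨c, rfl⟩ := isConj_iff.mp hc
  refine Nat.card_congr ⟨fun y => ⟨y.1 * c, ?_⟩, fun z => ⟨z.1 * c⁻¹, ?_⟩, fun y => by simp,
    fun z => by simp⟩
  · rw [Subgroup.mem_centralizer_singleton_iff]
    have := y.2
    calc y.1 * c * g = (y.1 * (c * g * c⁻¹) * y.1⁻¹) * (y.1 * c) := by group
      _ = _ := by rw [this]
  · have := Subgroup.mem_centralizer_singleton_iff.mp z.2
    calc z.1 * c⁻¹ * (c * g * c⁻¹) * (z.1 * c⁻¹)⁻¹ = z.1 * g * z.1⁻¹ := by group
      _ = _ := by rw [this]; group

/-- the size of a conjugacy class is the index of the centralizer -/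
theorem card_isConj_eq_index (g : G) :
    Nat.card {x : G // IsConj g x} = (Subgroup.centralizer ({g} : Set G)).index := by
  rw [Subgroup.index]
  symm
  refine Nat.card_congr (Equiv.ofBijective
    (Quotient.lift (fun y : G => (⟨y * g * y⁻¹, isConj_iff.mpr ⟨y, rfl⟩⟩ : {x : G // IsConj g x}))
      fun a b hab => ?_) ⟨?_, ?_⟩)
  · have h := Subgroup.mem_centralizer_singleton_iff.mp (QuotientGroup.leftRel_apply.mp hab)
    refine Subtype.ext ?_
    calc a * g * a⁻¹ = a * (g * (a⁻¹ * b)) * b⁻¹ := by group
      _ = b * g * b⁻¹ := by rw [← h]; group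
  · intro x y
    induction x using Quotient.inductionOn with | _ a => ?_
    induction y using Quotient.inductionOn with | _ b => ?_
    intro hab
    have h : a * g * a⁻¹ = b * g * b⁻¹ := congrArg Subtype.val hab
    refine Quotient.sound (QuotientGroup.leftRel_apply.mpr
      (Subgroup.mem_centralizer_singleton_iff.mpr ?_))
    calc a⁻¹ * b * g = a⁻¹ * (b * g * b⁻¹) * b := by group
      _ = g * (a⁻¹ * b) := by rw [← h]; group
  · rintro ⟨x, hx⟩
    obtain ⟨c, rfl⟩ := isConj_iff.mp hx
    exact ⟨Quotient.mk _ c, rfl⟩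

theorem card_carrier_eq_index (g : G) :
    Nat.card (ConjClasses.mk g).carrier = (Subgroup.centralizer ({g} : Set G)).index := by
  rw [← card_isConj_eq_index]
  refine Nat.card_congr (Equiv.subtypeEquivRight fun x => ?_)
  rw [ConjClasses.mem_carrier_iff_mk_eq, ConjClasses.mk_eq_mk_iff_isConj, isConj_comm]

theorem card_centralizer_eq_of_isConj {g h : G} (hc : IsConj g h) :
    Nat.card (Subgroup.centralizer ({g} : Set G)) = Nat.card (Subgroup.centralizer ({h} : Set G)) := by
  rw [← card_conjugators_of_isConj hc, ← card_conjugators_of_isConj (IsConj.refl h)]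
  obtain ⟨c, rfl⟩ := isConj_iff.mp hc
  refine Nat.card_congr ⟨fun y => ⟨c * y.1, ?_⟩, fun z => ⟨c⁻¹ * z.1, ?_⟩, fun y => by simp,
    fun z => by simp⟩
  · have := y.2
    calc c * y.1 * (c * g * c⁻¹) * (c * y.1)⁻¹ = c * (y.1 * (c * g * c⁻¹) * y.1⁻¹) * c⁻¹ := by group
      _ = _ := by rw [this]
  · have := z.2
    calc c⁻¹ * z.1 * (c * g * c⁻¹) * (c⁻¹ * z.1)⁻¹ = c⁻¹ * (z.1 * (c * g * c⁻¹) * z.1⁻¹) * c := by
          group
      _ = _ := by rw [this]; group

/-- summing over all conjugates counts each element of the class `|C(g)|` times -/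
theorem sum_conj_eq_card_centralizer_mul [Fintype G] {M : Type*} [AddCommMonoid M] (g : G)
    [DecidablePred (IsConj g)] (f : G → M) :
    ∑ y : G, f (y * g * y⁻¹) = Nat.card (Subgroup.centralizer ({g} : Set G)) •
      ∑ x ∈ Finset.univ.filter (IsConj g), f x := by
  classical
  rw [← Finset.sum_fiberwise_of_maps_to (s := Finset.univ) (t := Finset.univ.filter (IsConj g))
    (g := fun y => y * g * y⁻¹) (fun y _ => by simp), Finset.smul_sum]
  refine Finset.sum_congr rfl fun x hx => ?_
  have hx' : IsConj g x := (Finset.mem_filter.mp hx).2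
  rw [Finset.sum_congr rfl (g := fun _ => f x) (fun y hy => by rw [(Finset.mem_filter.mp hy).2]),
    Finset.sum_const, card_centralizer_eq_of_isConj hx', ← card_conjugators_of_isConj hx'.symm,
    Nat.card_eq_fintype_card, Fintype.card_subtype]

end Classes

section Second

variable {G : Type*} [Group G]

theorem sum_irr_mul_conj_eq_card [Finite G] (g h : G) :
    ∑ χ : IrrCharacter G, (χ : G → ℂ) g * conj ((χ : G → ℂ) h) =
      (Nat.card {y : G // y * g * y⁻¹ = h} : ℂ) := by
  classical
  let := Fintype.ofFinite G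
  let φ : G → ℂ := fun x => ∑ y : G, if y * x * y⁻¹ = h then 1 else 0
  have hφ : IsClassFunction G φ := by
    intro x c
    refine Fintype.sum_equiv (Equiv.mulRight c) _ _ fun y => ?_
    simp [mul_assoc]
  have hin : ∀ χ : IrrCharacter G, classInner φ χ = conj ((χ : G → ℂ) h) := by
    intro χ
    rw [classInner_def]
    simp only [φ, Finset.sum_mul]
    rw [Finset.sum_comm]
    have : ∀ y : G, ∑ x : G, (if y * x * y⁻¹ = h then (1 : ℂ) else 0) * conj ((χ : G → ℂ) x) =
        conj ((χ : G → ℂ) h) := by
      intro y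
      rw [Finset.sum_eq_single (y⁻¹ * h * y)]
      · rw [if_pos (by group), one_mul, classFun_conj_inv (irr_isClassFunction χ.2)]
      · intro x _ hx
        rw [if_neg (fun h' => hx (by rw [← h']; group)), zero_mul]
      · simp
    simp only [this, Finset.sum_const, Finset.card_univ, ← Nat.card_eq_fintype_card, nsmul_eq_mul]
    rw [← mul_assoc, inv_mul_cancel₀ card_ne_zero, one_mul]
  have := classFun_apply_eq_sum hφ g
  simp only [hin] at this
  simp only [mul_comm ((_ : G → ℂ) g), ← this, φ, Nat.card_eq_fintype_card, Fintype.card_subtype,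
    Finset.card_filter]
  push_cast
  rfl

/-- second orthogonality relation, conjugate case -/
theorem sum_irr_mul_conj_of_isConj [Finite G] {g h : G} (hc : IsConj g h) :
    ∑ χ : IrrCharacter G, (χ : G → ℂ) g * conj ((χ : G → ℂ) h) =
      (Nat.card (Subgroup.centralizer ({g} : Set G)) : ℂ) := by
  rw [sum_irr_mul_conj_eq_card, card_conjugators_of_isConj hc.symm,
    card_centralizer_eq_of_isConj hc]

/-- second orthogonality relation, non-conjugate case -/
theorem sum_irr_mul_conj_of_not_isConj [Finite G] {g h : G} (hc : ¬ IsConj g h) :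
    ∑ χ : IrrCharacter G, (χ : G → ℂ) g * conj ((χ : G → ℂ) h) = 0 := by
  rw [sum_irr_mul_conj_eq_card]
  have : IsEmpty {y : G // y * g * y⁻¹ = h} := ⟨fun y => hc (isConj_iff.mpr ⟨y.1, y.2⟩)⟩
  simp

theorem sum_irr_norm_sq [Finite G] (g : G) :
    ∑ χ : IrrCharacter G, ‖(χ : G → ℂ) g‖ ^ 2 =
      (Nat.card (Subgroup.centralizer ({g} : Set G)) : ℝ) := by
  have := sum_irr_mul_conj_of_isConj (IsConj.refl g)
  simp only [Complex.mul_conj, Complex.normSq_eq_norm_sq] at this
  exact_mod_cast this

theorem irr_conj_apply_one {χ : G → ℂ} (h : IsIrrCharacter G χ) : conj (χ 1) = χ 1 := by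
  obtain ⟨n, -, hn⟩ := irr_apply_one h
  rw [hn, map_natCast]

theorem char_conj_apply_one {χ : G → ℂ} (h : IsCharacter G χ) : conj (χ 1) = χ 1 := by
  obtain ⟨n, hn⟩ := char_apply_one h
  rw [hn, map_natCast]

theorem sum_irr_apply_one_sq [Finite G] :
    ∑ χ : IrrCharacter G, (χ : G → ℂ) 1 ^ 2 = (Nat.card G : ℂ) := by
  let := Fintype.ofFinite G
  have := congrFun (regChar_eq_sum (G := G)) 1
  rw [regChar_one] at this
  rw [this]
  simp [Finset.sum_apply, sq]

theorem sum_deg_sq [Finite G] : ∑ χ : IrrCharacter G, deg (χ : G → ℂ) ^ 2 = Nat.card G := by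
  have := sum_irr_apply_one_sq (G := G)
  simp only [← fun χ : IrrCharacter G => irr_cast_deg χ.2] at this
  exact_mod_cast this

theorem sum_irr_apply_one_mul [Finite G] {g : G} (hg : g ≠ 1) :
    ∑ χ : IrrCharacter G, (χ : G → ℂ) 1 * (χ : G → ℂ) g = 0 := by
  let := Fintype.ofFinite G
  have := congrFun (regChar_eq_sum (G := G)) g
  rw [regChar_of_ne hg] at this
  rw [this]
  simp [Finset.sum_apply]

theorem isConj_iff_irr [Finite G] (g h : G) :
    IsConj g h ↔ ∀ χ : IrrCharacter G, (χ : G → ℂ) g = (χ : G → ℂ) h := by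
  refine ⟨fun hc χ => classFun_eq_of_isConj (irr_isClassFunction χ.2) hc, fun H => ?_⟩
  by_contra hc
  have h1 := sum_irr_mul_conj_of_not_isConj hc
  simp only [H] at h1
  rw [sum_irr_mul_conj_of_isConj (IsConj.refl h)] at h1
  exact Nat.card_pos.ne' (Nat.cast_eq_zero.mp h1)

theorem eq_one_of_irr_apply_eq [Finite G] {g : G}
    (h : ∀ χ : IrrCharacter G, (χ : G → ℂ) g = (χ : G → ℂ) 1) : g = 1 :=
  isConj_one_left.mp ((isConj_iff_irr g 1).mpr h)

/-- the value of a class function on a conjugacy class -/
noncomputable def onClass {φ : G → ℂ} (hφ : IsClassFunction G φ) : ConjClasses G → ℂ :=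
  Quotient.lift φ fun _ _ hc => classFun_eq_of_isConj hφ hc

theorem onClass_mk {φ : G → ℂ} (hφ : IsClassFunction G φ) (g : G) :
    onClass hφ (ConjClasses.mk g) = φ g := rfl

/-- the class functions as a submodule -/
def classFunSubmodule (G : Type*) [Group G] : Submodule ℂ (G → ℂ) where
  carrier := {φ | IsClassFunction G φ}
  add_mem' := classFun_add
  zero_mem' := isClassFunction_zero
  smul_mem' c _ := classFun_smul c

theorem mem_classFunSubmodule {φ : G → ℂ} : φ ∈ classFunSubmodule G ↔ IsClassFunction G φ :=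
  Iff.rfl

/-- class functions are functions on the set of conjugacy classes -/
noncomputable def classFunEquiv (G : Type*) [Group G] :
    classFunSubmodule G ≃ₗ[ℂ] (ConjClasses G → ℂ) where
  toFun φ := onClass φ.2
  invFun f := ⟨fun g => f (ConjClasses.mk g), isClassFunction_conjClasses f⟩
  map_add' φ ψ := by funext C; obtain ⟨g, rfl⟩ := ConjClasses.mk_surjective C; rfl
  map_smul' c φ := by funext C; obtain ⟨g, rfl⟩ := ConjClasses.mk_surjective C; rfl
  left_inv φ := rfl
  right_inv f := by funext C; obtain ⟨g, rfl⟩ := ConjClasses.mk_surjective C; rfl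

theorem classFunEquiv_mk (φ : classFunSubmodule G) (g : G) :
    classFunEquiv G φ (ConjClasses.mk g) = (φ : G → ℂ) g := rfl

theorem span_irr_eq [Finite G] :
    Submodule.span ℂ (Set.range fun χ : IrrCharacter G => (χ : G → ℂ)) = classFunSubmodule G := by
  let := Fintype.ofFinite G
  refine le_antisymm (Submodule.span_le.mpr ?_) fun φ hφ => ?_
  · rintro _ ⟨χ, rfl⟩
    exact irr_isClassFunction χ.2
  · rw [classFun_eq_sum hφ]
    exact Submodule.sum_mem _ fun χ _ => Submodule.smul_mem _ _ (Submodule.subset_span ⟨χ, rfl⟩)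

/-- the irreducible characters form a basis of the space of class functions -/
noncomputable def irrBasis (G : Type*) [Group G] [Finite G] :
    Basis (IrrCharacter G) ℂ (classFunSubmodule G) :=
  (Basis.span (linearIndependent_irr (G := G))).map (LinearEquiv.ofEq _ _ span_irr_eq)

theorem irrBasis_apply [Finite G] (χ : IrrCharacter G) :
    (irrBasis G χ : G → ℂ) = (χ : G → ℂ) := by
  simp [irrBasis]

/-- the rows of the character table form a basis of the functions on conjugacy classes -/
noncomputable def irrClassBasis (G : Type*) [Group G] [Finite G] :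
    Basis (IrrCharacter G) ℂ (ConjClasses G → ℂ) :=
  (irrBasis G).map (classFunEquiv G)

theorem irrClassBasis_mk [Finite G] (χ : IrrCharacter G) (g : G) :
    irrClassBasis G χ (ConjClasses.mk g) = (χ : G → ℂ) g := by
  rw [irrClassBasis, Basis.map_apply, classFunEquiv_mk, irrBasis_apply]

theorem card_irr_eq_card_conjClasses [Finite G] :
    Nat.card (IrrCharacter G) = Nat.card (ConjClasses G) := by
  have : Finite (ConjClasses G) := Finite.of_surjective _ ConjClasses.mk_surjective
  let := Fintype.ofFinite (ConjClasses G)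
  rw [Nat.card_eq_fintype_card, ← finrank_eq_card_basis (irrClassBasis G),
    Module.finrank_fintype_fun_eq_card, Nat.card_eq_fintype_card]

theorem finrank_classFunSubmodule [Finite G] :
    finrank ℂ (classFunSubmodule G) = Nat.card (ConjClasses G) := by
  rw [finrank_eq_card_basis (irrBasis G), ← Nat.card_eq_fintype_card, card_irr_eq_card_conjClasses]

end Second

section More

variable {G : Type*} [Group G] [Finite G]

theorem irr_conj {χ : G → ℂ} (h : IsIrrCharacter G χ) : IsIrrCharacter G (fun g => conj (χ g)) := by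
  let := Fintype.ofFinite G
  refine irr_of_char_norm_one (char_conj (irr_isCharacter h)) ?_
  rw [classInner_conj_conj, irr_inner_self h]

theorem irr_inv {χ : G → ℂ} (h : IsIrrCharacter G χ) : IsIrrCharacter G (fun g => χ g⁻¹) := by
  simpa only [char_apply_inv (irr_isCharacter h)] using irr_conj h

/-- the product of a linear character with an irreducible character is irreducible -/
theorem irr_unitsHom_mul (f : G →* ℂˣ) {χ : G → ℂ} (h : IsIrrCharacter G χ) :
    IsIrrCharacter G (fun g => (f g : ℂ) * χ g) := by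
  let := Fintype.ofFinite G
  refine irr_of_char_norm_one (char_mul (char_unitsHom f) (irr_isCharacter h)) ?_
  rw [← irr_inner_self h, classInner_def, classInner_def]
  congr 1
  refine Finset.sum_congr rfl fun g _ => ?_
  rw [map_mul, mul_mul_mul_comm, unitsHom_mul_conj, one_mul]

theorem irr_mul_of_apply_one {φ χ : G → ℂ} (hφ : IsCharacter G φ) (h1 : φ 1 = 1)
    (h : IsIrrCharacter G χ) : IsIrrCharacter G (φ * χ) := by
  obtain ⟨f, rfl⟩ := char_exists_unitsHom hφ h1
  exact irr_unitsHom_mul f h

/-- complex conjugation as a permutation of the irreducible characters -/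
def irrConjEquiv (G : Type*) [Group G] [Finite G] : IrrCharacter G ≃ IrrCharacter G where
  toFun χ := ⟨fun g => conj ((χ : G → ℂ) g), irr_conj χ.2⟩
  invFun χ := ⟨fun g => conj ((χ : G → ℂ) g), irr_conj χ.2⟩
  left_inv χ := by ext g; simp
  right_inv χ := by ext g; simp

theorem irrConjEquiv_apply (χ : IrrCharacter G) (g : G) :
    (irrConjEquiv G χ : G → ℂ) g = conj ((χ : G → ℂ) g) := rfl

omit [Finite G] in
/-- transport of irreducible characters along an isomorphism -/
def irrCompEquiv {H : Type*} [Group H] (e : H ≃* G) : IrrCharacter G ≃ IrrCharacter H where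
  toFun χ := ⟨fun h => (χ : G → ℂ) (e h), irr_comp_mulEquiv χ.2 e⟩
  invFun χ := ⟨fun g => (χ : H → ℂ) (e.symm g), irr_comp_mulEquiv χ.2 e.symm⟩
  left_inv χ := by ext g; simp
  right_inv χ := by ext g; simp

omit [Finite G] in
theorem irrCompEquiv_apply {H : Type*} [Group H] (e : H ≃* G) (χ : IrrCharacter G) (h : H) :
    (irrCompEquiv e χ : H → ℂ) h = (χ : G → ℂ) (e h) := rfl

/-- a character whose pull-back along a homomorphism is irreducible is irreducible -/
theorem irr_of_irr_comp {H : Type*} [Group H] [Finite H] {χ : G → ℂ} (hχ : IsCharacter G χ)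
    (f : H →* G) (h : IsIrrCharacter H (fun x => χ (f x))) : IsIrrCharacter G χ := by
  let := Fintype.ofFinite G
  let := Fintype.ofFinite H
  have h0 : χ ≠ 0 := by
    rintro rfl
    exact irr_ne_zero h rfl
  obtain ⟨φ, hφ, hne⟩ := char_exists_irr_constituent hχ h0
  have h1 := char_sub_irr hχ hφ hne
  have h2 := char_comp h1 f
  have h3 := char_comp (irr_isCharacter hφ) f
  by_cases h4 : χ - φ = 0
  · rwa [sub_eq_zero.mp h4]
  exfalso
  have hsum : (fun x => χ (f x)) = (fun x => (χ - φ) (f x)) + fun x => φ (f x) := by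
    funext x; simp
  have h5 := irr_inner_self h
  rw [hsum, classInner_add_left, classInner_add_right, classInner_add_right] at h5
  obtain ⟨a, ha⟩ := char_inner_nat h2 h2
  obtain ⟨b, hb⟩ := char_inner_nat h2 h3
  obtain ⟨c, hc⟩ := char_inner_nat h3 h2
  obtain ⟨d, hd⟩ := char_inner_nat h3 h3
  have ha0 : a ≠ 0 := by
    rintro rfl
    rw [Nat.cast_zero, classInner_self_eq_zero] at ha
    exact h4 (char_eq_zero_of_apply_one h1 (by simpa using congrFun ha 1))
  have hd0 : d ≠ 0 := by
    rintro rfl
    rw [Nat.cast_zero, classInner_self_eq_zero] at hd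
    exact irr_apply_one_ne_zero hφ (by simpa using congrFun hd 1)
  rw [ha, hb, hc, hd] at h5
  have : a + b + (c + d) = 1 := by exact_mod_cast h5
  omega

theorem irr_of_irr_restrict {χ : G → ℂ} (hχ : IsCharacter G χ) (H : Subgroup G)
    (h : IsIrrCharacter H (fun x : H => χ x)) : IsIrrCharacter G χ :=
  irr_of_irr_comp hχ H.subtype h

omit [Finite G] in
theorem deg_add {χ ψ : G → ℂ} (hχ : IsCharacter G χ) (hψ : IsCharacter G ψ) :
    deg (χ + ψ) = deg χ + deg ψ :=
  deg_eq_of_apply_one (by rw [Pi.add_apply, Nat.cast_add, char_cast_deg hχ, char_cast_deg hψ])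

omit [Finite G] in
theorem deg_mul {χ ψ : G → ℂ} (hχ : IsCharacter G χ) (hψ : IsCharacter G ψ) :
    deg (χ * ψ) = deg χ * deg ψ :=
  deg_eq_of_apply_one (by rw [Pi.mul_apply, Nat.cast_mul, char_cast_deg hχ, char_cast_deg hψ])

omit [Finite G] in
theorem deg_le_of_char_sub {χ ψ : G → ℂ} (hψ : IsCharacter G ψ) (h : IsCharacter G (χ - ψ)) :
    deg ψ ≤ deg χ := by
  have := deg_add h hψ
  rw [sub_add_cancel] at this
  omega

end More

section MoreInner

variable {G : Type*} [Group G] [Fintype G]

theorem mul_deg_le_of_inner {ψ χ : G → ℂ} (hψ : IsCharacter G ψ) (hχ : IsIrrCharacter G χ)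
    {n : ℕ} (hn : classInner ψ χ = n) : n * deg χ ≤ deg ψ := by
  have h1 := deg_le_of_char_sub (char_natCast_smul n (irr_isCharacter hχ))
    (char_sub_smul_irr hψ hχ hn le_rfl)
  rwa [deg_eq_of_apply_one (χ := (n : ℂ) • χ) (n := n * deg χ)
    (by simp [irr_cast_deg hχ])] at h1

theorem deg_le_of_inner_ne_zero {ψ χ : G → ℂ} (hψ : IsCharacter G ψ) (hχ : IsIrrCharacter G χ)
    (h : classInner ψ χ ≠ 0) : deg χ ≤ deg ψ :=
  deg_le_of_char_sub (irr_isCharacter hχ) (char_sub_irr hψ hχ h)

/-- a character equals any irreducible constituent of the same degree -/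
theorem eq_of_inner_ne_zero_of_apply_one {ψ χ : G → ℂ} (hψ : IsCharacter G ψ)
    (hχ : IsIrrCharacter G χ) (h : classInner ψ χ ≠ 0) (h1 : ψ 1 = χ 1) : ψ = χ :=
  sub_eq_zero.mp (char_eq_zero_of_apply_one (char_sub_irr hψ hχ h) (by simp [h1]))

theorem eq_smul_of_inner_of_apply_one {ψ χ : G → ℂ} (hψ : IsCharacter G ψ)
    (hχ : IsIrrCharacter G χ) (h1 : ψ 1 = classInner ψ χ * χ 1) : ψ = classInner ψ χ • χ := by
  obtain ⟨n, hn⟩ := char_inner_nat hψ (irr_isCharacter hχ)
  refine sub_eq_zero.mp (char_eq_zero_of_apply_one ?_ (by simp [h1]))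
  rw [hn]
  exact char_sub_smul_irr hψ hχ hn le_rfl

theorem char_inner_re_nonneg {χ ψ : G → ℂ} (hχ : IsCharacter G χ) (hψ : IsCharacter G ψ) :
    0 ≤ (classInner χ ψ).re := by
  obtain ⟨n, hn⟩ := char_inner_nat hχ hψ
  rw [hn]; simp

/-- a constituent of a summand is a constituent of the sum -/
theorem inner_add_ne_zero_left {χ χ' ψ : G → ℂ} (hχ : IsCharacter G χ) (hχ' : IsCharacter G χ')
    (hψ : IsCharacter G ψ) (h : classInner χ ψ ≠ 0) : classInner (χ + χ') ψ ≠ 0 := by
  obtain ⟨a, ha⟩ := char_inner_nat hχ hψ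
  obtain ⟨b, hb⟩ := char_inner_nat hχ' hψ
  rw [classInner_add_left, ha, hb, ← Nat.cast_add, Nat.cast_ne_zero]
  rw [ha, Nat.cast_ne_zero] at h
  omega

/-- Bessel's inequality for finitely many irreducible characters -/
theorem sum_norm_sq_inner_le {φ : G → ℂ} (hφ : IsClassFunction G φ) (s : Finset (IrrCharacter G)) :
    ∑ χ ∈ s, ‖classInner φ χ‖ ^ 2 ≤ (classInner φ φ).re := by
  rw [classInner_self_re_eq_sum hφ]
  exact Finset.sum_le_sum_of_subset_of_nonneg (Finset.subset_univ s) fun _ _ _ => by positivity

end MoreInner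

section Equiv

universe v w

variable {k : Type*} [Field k] {G : Type*} [Monoid G]

/-- product of two equivalences of representations -/
noncomputable def repEquivProd {V W V' W' : Type*} [AddCommGroup V] [Module k V] [AddCommGroup W]
    [Module k W] [AddCommGroup V'] [Module k V'] [AddCommGroup W'] [Module k W']
    {ρ : Representation k G V} {σ : Representation k G W} {ρ' : Representation k G V'}
    {σ' : Representation k G W'} (e : ρ.Equiv ρ') (f : σ.Equiv σ') :
    (ρ.prod σ).Equiv (ρ'.prod σ') :=
  Representation.Equiv.mk (e.toLinearEquiv.prodCongr f.toLinearEquiv) fun g => by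
    refine LinearMap.ext fun ⟨u, u'⟩ => Prod.ext ?_ ?_
    · exact repEquiv_apply e g u
    · exact repEquiv_apply f g u'

/-- a nonzero finite-dimensional representation has an irreducible subrepresentation -/
theorem exists_irreducible_subrep {V : Type*} [AddCommGroup V] [Module k V] [FiniteDimensional k V]
    [Nontrivial V] (ρ : Representation k G V) :
    ∃ U : Subrepresentation ρ, U.toRepresentation.IsIrreducible := by
  obtain ⟨U, hU, hmin⟩ := (measure fun U : Subrepresentation ρ => finrank k U.toSubmodule).wf.has_min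
    {U | U.toSubmodule ≠ ⊥} ⟨⊤, top_ne_bot (α := Submodule k V)⟩
  refine ⟨U, (isIrreducible_iff _).mpr ⟨Submodule.nontrivial_iff_ne_bot.mpr hU, fun X hX => ?_⟩⟩
  by_cases h : X = ⊥
  · exact Or.inl h
  right
  let Y : Subrepresentation ρ := ⟨X.map U.toSubmodule.subtype, by
    rintro g _ ⟨v, hv, rfl⟩
    exact ⟨_, hX g v hv, rfl⟩⟩
  have hY : Y.toSubmodule ≠ ⊥ := fun h0 =>
    h (Submodule.map_injective_of_injective U.toSubmodule.injective_subtype
      (h0.trans (Submodule.map_bot _).symm))
  have h1 : ¬ finrank k Y.toSubmodule < finrank k U.toSubmodule := hmin Y hY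
  by_contra hX'
  apply h1
  change finrank k (X.map U.toSubmodule.subtype) < _
  rw [Submodule.finrank_map_subtype_eq]
  exact Submodule.finrank_lt hX'

/-- an injective intertwining map is an equivalence onto its range -/
noncomputable def equivRange {V W : Type*} [AddCommGroup V] [Module k V] [AddCommGroup W]
    [Module k W] {ρ : Representation k G V} {σ : Representation k G W} (f : ρ.IntertwiningMap σ)
    (hf : Function.Injective f) : ρ.Equiv f.range.toRepresentation :=
  Representation.Equiv.mk (LinearEquiv.ofInjective f.toLinearMap hf) fun g => by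
    refine LinearMap.ext fun v => Subtype.ext ?_
    exact f.isIntertwining _ _ g v

end Equiv

section Determined

universe v w

variable {G : Type*} [Group G] [Finite G]

omit [Finite G] in
/-- an irreducible constituent of the character is afforded by a subrepresentation -/
theorem exists_subrep_equiv_of_inner_ne_zero [Fintype G] {V W : Type*} [AddCommGroup V] [Module ℂ V]
    [FiniteDimensional ℂ V] [AddCommGroup W] [Module ℂ W] [FiniteDimensional ℂ W]
    (ρ : Representation ℂ G V) [ρ.IsIrreducible] (σ : Representation ℂ G W)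
    (h : classInner σ.character ρ.character ≠ 0) :
    ∃ U : Subrepresentation σ, Nonempty (ρ.Equiv U.toRepresentation) := by
  rw [classInner_character, Nat.cast_ne_zero] at h
  have := Module.nontrivial_of_finrank_pos (Nat.pos_of_ne_zero h)
  obtain ⟨f, hf⟩ := exists_ne (0 : ρ.IntertwiningMap σ)
  exact ⟨f.range, ⟨equivRange f
    ((Representation.IsIrreducible.injective_or_eq_zero f).resolve_right hf)⟩⟩

theorem nonempty_equiv_of_character_eq {V : Type v} {W : Type w} [AddCommGroup V] [Module ℂ V]
    [FiniteDimensional ℂ V] [AddCommGroup W] [Module ℂ W] [FiniteDimensional ℂ W]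
    (ρ : Representation ℂ G V) (σ : Representation ℂ G W) (h : ρ.character = σ.character) :
    Nonempty (ρ.Equiv σ) := by
  let := Fintype.ofFinite G
  have := neZero_card (G := G)
  induction hn : finrank ℂ V using Nat.strong_induction_on generalizing V W with
  | _ n ih =>
    rcases subsingleton_or_nontrivial V with hV | hV
    · have h1 := congrFun h 1
      rw [ρ.char_one, σ.char_one, Nat.cast_inj, Module.finrank_zero_of_subsingleton] at h1
      have : Subsingleton W := Module.finrank_zero_iff.mp h1.symm
      exact ⟨Representation.Equiv.mk (LinearEquiv.ofSubsingleton V W) fun g =>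
        Subsingleton.elim _ _⟩
    obtain ⟨U, hU⟩ := exists_irreducible_subrep ρ
    obtain ⟨U', hU'⟩ := exists_isCompl U
    have hc := isCompl_toSubmodule hU'
    have h1 := character_eq_add_of_isCompl U U' hc
    have h2 : classInner σ.character U.toRepresentation.character ≠ 0 := by
      rw [← h, h1]
      refine inner_add_ne_zero_left (isCharacter_character _) (isCharacter_character _)
        (isCharacter_character _) ?_
      rw [irr_inner_self (isIrrCharacter_character _)]
      exact one_ne_zero
    obtain ⟨X, ⟨e⟩⟩ := exists_subrep_equiv_of_inner_ne_zero U.toRepresentation σ h2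
    obtain ⟨X', hX'⟩ := exists_isCompl X
    have hd := isCompl_toSubmodule hX'
    have h3 := character_eq_add_of_isCompl X X' hd
    rw [← h, h1, ← Representation.char_iso e, add_right_inj] at h3
    have hlt : finrank ℂ U'.toSubmodule < n := by
      rw [← hn, ← Submodule.finrank_add_eq_of_isCompl hc]
      have := finrank_pos_of_isIrreducible U.toRepresentation
      omega
    obtain ⟨e'⟩ := ih _ hlt U'.toRepresentation X'.toRepresentation h3 rfl
    exact ⟨((prodEquivOfIsCompl U U' hc).symm.trans (repEquivProd e e')).trans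
      (prodEquivOfIsCompl X X' hd)⟩

/-- a representation whose character is irreducible is irreducible -/
theorem isIrreducible_of_irr {V : Type*} [AddCommGroup V] [Module ℂ V] [FiniteDimensional ℂ V]
    (ρ : Representation ℂ G V) (h : IsIrrCharacter G ρ.character) : ρ.IsIrreducible := by
  obtain ⟨n, σ, hσ, h⟩ := h
  obtain ⟨e⟩ := nonempty_equiv_of_character_eq σ ρ h
  exact isIrreducible_of_equiv e

theorem isIrreducible_iff_irr {V : Type*} [AddCommGroup V] [Module ℂ V] [FiniteDimensional ℂ V]
    (ρ : Representation ℂ G V) : ρ.IsIrreducible ↔ IsIrrCharacter G ρ.character :=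
  ⟨fun _ => isIrrCharacter_character ρ, isIrreducible_of_irr ρ⟩

end Determined

end CL.Char
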