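import Cfsg.Agent.Base

/-!
Field automorphisms of the complex numbers: extension from subfields, transitivity on the roots of
a rational minimal polynomial, the action on roots of unity.
-/

set_option autoImplicit false

open Polynomial

namespace CL.Char

/-- An automorphism of a subfield extends to an automorphism of an algebraically closed field. -/
theorem exists_ringEquiv_extend {K L : Type*} [Field K] [Field L] [IsAlgClosed L] [Algebra K L]
    (σ : K ≃+* K) : ∃ τ : L ≃+* L, ∀ x, τ (algebraMap K L x) = algebraMap K L (σ x) := by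
  obtain ⟨s, hs⟩ := exists_isTranscendenceBasis K L
  have := IsAlgClosed.isAlgClosure_of_transcendence_basis _ hs
  let R := Algebra.adjoin K (Set.range ((↑) : s → L))
  let e : R ≃+* R := (hs.1.aevalEquiv.symm.toRingEquiv.trans (MvPolynomial.mapEquiv s σ)).trans
    hs.1.aevalEquiv.toRingEquiv
  have he : ∀ x, e (algebraMap K R x) = algebraMap K R (σ x) := by
    intro x
    have h1 : hs.1.aevalEquiv.symm (algebraMap K R x) = MvPolynomial.C x :=
      hs.1.aevalEquiv.symm.commutes x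
    have h2 : hs.1.aevalEquiv (MvPolynomial.C (σ x)) = algebraMap K R (σ x) :=
      hs.1.aevalEquiv.commutes (σ x)
    change hs.1.aevalEquiv (MvPolynomial.mapEquiv s σ
      (hs.1.aevalEquiv.symm (algebraMap K R x))) = _
    rw [h1, MvPolynomial.mapEquiv_apply, MvPolynomial.map_C]
    exact h2
  refine ⟨IsAlgClosure.equivOfEquiv L L e, fun x => ?_⟩
  rw [IsScalarTower.algebraMap_apply K R L, IsAlgClosure.equivOfEquiv_algebraMap, he,
    ← IsScalarTower.algebraMap_apply]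

/-- Two roots of the same rational minimal polynomial are related by an automorphism of `ℂ`. -/
theorem exists_ringEquiv_apply_eq_of_aeval_minpoly {x y : ℂ} (hx : IsAlgebraic ℚ x)
    (h : aeval y (minpoly ℚ x) = 0) : ∃ τ : ℂ ≃+* ℂ, τ x = y := by
  let A := algebraicClosure ℚ ℂ
  have hy : IsAlgebraic ℚ y := ⟨minpoly ℚ x, minpoly.ne_zero hx.isIntegral, h⟩
  let x' : A := ⟨x, mem_algebraicClosure_iff.2 hx⟩
  let y' : A := ⟨y, mem_algebraicClosure_iff.2 hy⟩
  have hmin : minpoly ℚ x' = minpoly ℚ x := (minpoly.algHom_eq A.val Subtype.val_injective x').symm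
  have hN : Normal ℚ A := @IsAlgClosure.normal ℚ A _ _ _ (algebraicClosure.isAlgClosure ℚ ℂ)
  obtain ⟨σ, hσ⟩ := minpoly.exists_algEquiv_of_root' (K := ℚ) (L := A) (x := y') (y := x')
    (Algebra.IsAlgebraic.isAlgebraic x') (by
      rw [hmin]
      apply Subtype.val_injective
      have := aeval_algHom_apply A.val y' (minpoly ℚ x)
      exact this.symm.trans h)
  obtain ⟨τ, hτ⟩ := exists_ringEquiv_extend (K := A) (L := ℂ) σ.toRingEquiv
  exact ⟨τ, (hτ x').trans (congrArg Subtype.val hσ)⟩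

/-- An algebraic number fixed by all automorphisms of `ℂ` is rational. -/
theorem exists_rat_of_forall_ringEquiv {x : ℂ} (hx : IsAlgebraic ℚ x)
    (h : ∀ τ : ℂ ≃+* ℂ, τ x = x) : ∃ q : ℚ, x = q := by
  have hint := hx.isIntegral
  have hdeg : (minpoly ℚ x).natDegree = 1 := by
    have hsep : (minpoly ℚ x).Separable := (minpoly.irreducible hint).separable
    have h1 : ((minpoly ℚ x).rootSet ℂ) = {x} := by
      ext y
      rw [mem_rootSet_of_ne (minpoly.ne_zero hint), Set.mem_singleton_iff]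
      constructor
      · intro hy
        obtain ⟨τ, hτ⟩ := exists_ringEquiv_apply_eq_of_aeval_minpoly hx hy
        rw [← hτ, h]
      · rintro rfl; exact minpoly.aeval ℚ _
    have h2 := card_rootSet_eq_natDegree (K := ℂ) hsep (IsAlgClosed.splits _)
    rw [← h2]
    simp [h1]
  obtain ⟨q, hq⟩ := minpoly.natDegree_eq_one_iff.1 hdeg
  exact ⟨q, hq.symm⟩

/-- An algebraic integer fixed by all automorphisms of `ℂ` is a rational integer. -/
theorem exists_int_of_forall_ringEquiv {x : ℂ} (hx : IsIntegral ℤ x)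
    (h : ∀ τ : ℂ ≃+* ℂ, τ x = x) : ∃ z : ℤ, x = z := by
  obtain ⟨q, rfl⟩ := exists_rat_of_forall_ringEquiv (hx.tower_top (A := ℚ)).isAlgebraic h
  have h1 : IsIntegral ℤ q :=
    (isIntegral_algebraMap_iff (R := ℤ) (A := ℚ) (B := ℂ) (algebraMap ℚ ℂ).injective).1 hx
  obtain ⟨z, rfl⟩ := IsIntegrallyClosed.isIntegral_iff.1 h1
  exact ⟨z, by simp⟩

/-- For `k` coprime to `n` some automorphism of `ℂ` raises all `n`-th roots of unity to the
`k`-th power. -/
theorem exists_ringEquiv_pow {n k : ℕ} (hn : n ≠ 0) (hk : Nat.Coprime k n) :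
    ∃ τ : ℂ ≃+* ℂ, ∀ z : ℂ, z ^ n = 1 → τ z = z ^ k := by
  have := NeZero.mk hn
  have hζ := Complex.isPrimitiveRoot_exp n hn
  set ζ := Complex.exp (2 * Real.pi * Complex.I / n)
  have hpos := Nat.pos_of_ne_zero hn
  obtain ⟨τ, hτ⟩ := exists_ringEquiv_apply_eq_of_aeval_minpoly (x := ζ) (y := ζ ^ k)
    ((hζ.isIntegral hpos).tower_top (A := ℚ)).isAlgebraic (by
      rw [← cyclotomic_eq_minpoly_rat hζ hpos, cyclotomic_eq_minpoly_rat (hζ.pow_of_coprime k hk) hpos]
      exact minpoly.aeval ℚ _)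
  refine ⟨τ, fun z hz => ?_⟩
  obtain ⟨i, -, rfl⟩ := hζ.eq_pow_of_pow_eq_one hz
  rw [map_pow, hτ, ← pow_mul, ← pow_mul, mul_comm]

/-- A ring endomorphism of `ℂ` acts on the `n`-th roots of unity as a power map. -/
theorem exists_pow_of_ringHom (τ : ℂ →+* ℂ) {n : ℕ} (hn : n ≠ 0) :
    ∃ k : ℕ, Nat.Coprime k n ∧ ∀ z : ℂ, z ^ n = 1 → τ z = z ^ k := by
  have := NeZero.mk hn
  have hζ := Complex.isPrimitiveRoot_exp n hn
  set ζ := Complex.exp (2 * Real.pi * Complex.I / n)
  have hτζ : IsPrimitiveRoot (τ ζ) n := hζ.map_of_injective τ.injective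
  obtain ⟨k, -, hk, hkζ⟩ := (hζ.isPrimitiveRoot_iff).1 hτζ
  refine ⟨k, hk, fun z hz => ?_⟩
  obtain ⟨i, -, rfl⟩ := hζ.eq_pow_of_pow_eq_one hz
  rw [map_pow, ← hkζ, ← pow_mul, ← pow_mul, mul_comm]

theorem exists_pow_of_ringEquiv (τ : ℂ ≃+* ℂ) {n : ℕ} (hn : n ≠ 0) :
    ∃ k : ℕ, Nat.Coprime k n ∧ ∀ z : ℂ, z ^ n = 1 → τ z = z ^ k :=
  exists_pow_of_ringHom τ.toRingHom hn

/-- For coprime `a`, `b` and `k` coprime to `a`, some automorphism of `ℂ` raises the `a`-th roots
of unity to the `k`-th power and fixes the `b`-th roots of unity. -/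
theorem exists_ringEquiv_pow_of_coprime {a b k : ℕ} (ha : a ≠ 0) (hb : b ≠ 0)
    (hab : Nat.Coprime a b) (hk : Nat.Coprime k a) :
    ∃ τ : ℂ ≃+* ℂ, (∀ z : ℂ, z ^ a = 1 → τ z = z ^ k) ∧ ∀ z : ℂ, z ^ b = 1 → τ z = z := by
  obtain ⟨m, hma, hmb⟩ := Nat.chineseRemainder hab k 1
  have hm : Nat.Coprime m (a * b) := by
    refine Nat.Coprime.mul_right ?_ ?_
    · rw [Nat.Coprime, Nat.ModEq.gcd_eq hma]; exact hk
    · rw [Nat.Coprime, Nat.ModEq.gcd_eq hmb]; simp
  obtain ⟨τ, hτ⟩ := exists_ringEquiv_pow (mul_ne_zero ha hb) hm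
  refine ⟨τ, fun z hz => ?_, fun z hz => ?_⟩
  · rw [hτ z (by rw [pow_mul, hz, one_pow])]
    exact pow_eq_pow_of_modEq hma hz
  · rw [hτ z (by rw [mul_comm, pow_mul, hz, one_pow]), pow_eq_pow_of_modEq hmb hz, pow_one]

/-- A ring endomorphism of `ℂ` commutes with complex conjugation on roots of unity. -/
theorem ringHom_conj_of_pow_eq_one (τ : ℂ →+* ℂ) {z : ℂ} {n : ℕ} (hn : n ≠ 0) (hz : z ^ n = 1) :
    τ (starRingEnd ℂ z) = starRingEnd ℂ (τ z) := by
  rw [← Complex.inv_eq_conj (Complex.norm_eq_one_of_pow_eq_one hz hn), map_inv₀,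
    Complex.inv_eq_conj (Complex.norm_eq_one_of_pow_eq_one (by rw [← map_pow, hz, map_one]) hn)]

end CL.Char
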