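import Cfsg.Agent.Base

/-!
Eigenvalues of an endomorphism of finite order, and the first consequences for characters:
`χ (g ^ k)` is the sum of the `k`-th powers of the eigenvalues of `g`.
-/

set_option autoImplicit false

open Module Polynomial
open scoped ComplexConjugate

namespace CL.Char

/-- An endomorphism of finite order prime to the characteristic, over an algebraically closed
field, has a basis of eigenvectors. -/
theorem exists_eigenbasis_of_pow_eq_one {K V : Type*} [Field K] [IsAlgClosed K] [AddCommGroup V]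
    [Module K V] [FiniteDimensional K V] (f : Module.End K V) {n : ℕ} (hn : (n : K) ≠ 0)
    (hf : f ^ n = 1) :
    ∃ (b : Basis (Fin (finrank K V)) K V) (l : Fin (finrank K V) → K),
      (∀ i, l i ^ n = 1) ∧ ∀ i, f (b i) = l i • b i := by
  classical
  have hss : f.IsSemisimple := by
    apply Module.End.isSemisimple_of_squarefree_aeval_eq_zero
      (p := (X ^ n - C 1 : K[X]))
    · exact (separable_X_pow_sub_C (1 : K) hn one_ne_zero).squarefree
    · simp [hf]
  have hint : DirectSum.IsInternal (fun μ : K => f.eigenspace μ) :=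
    DirectSum.isInternal_submodule_of_iSupIndep_of_iSup_eq_top f.eigenspaces_iSupIndep
      hss.iSup_eigenspace_eq_top
  let b0 := hint.collectedBasis (fun μ => Module.finBasis K (f.eigenspace μ))
  have hb0 : ∀ a, f (b0 a) = a.1 • b0 a := fun a =>
    Module.End.mem_eigenspace_iff.1 (hint.collectedBasis_mem _ a)
  have : Fintype (Σ μ : K, Fin (finrank K (f.eigenspace μ))) :=
    FiniteDimensional.fintypeBasisIndex b0
  let e : (Σ μ : K, Fin (finrank K (f.eigenspace μ))) ≃ Fin (finrank K V) :=
    Fintype.equivFinOfCardEq (finrank_eq_card_basis b0).symm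
  refine ⟨b0.reindex e, fun i => (e.symm i).1, fun i => ?_, fun i => by simp [hb0]⟩
  have h1 : (f ^ n) (b0 (e.symm i)) = (e.symm i).1 ^ n • b0 (e.symm i) := by
    have : ∀ m : ℕ, (f ^ m) (b0 (e.symm i)) = (e.symm i).1 ^ m • b0 (e.symm i) := by
      intro m
      induction m with
      | zero => simp
      | succ m ih => rw [pow_succ', Module.End.mul_apply, ih, map_smul, hb0, smul_smul, pow_succ]
    exact this n
  rw [hf, Module.End.one_apply] at h1
  have h2 : ((e.symm i).1 ^ n - 1) • b0 (e.symm i) = 0 := by rw [sub_smul, ← h1, one_smul, sub_self]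
  rcases smul_eq_zero.1 h2 with h | h
  · exact sub_eq_zero.1 h
  · exact absurd h (b0.ne_zero _)

/-- The trace of an endomorphism with a basis of eigenvectors is the sum of the eigenvalues. -/
theorem trace_eq_sum_of_eigenbasis {K V ι : Type*} [Field K] [AddCommGroup V] [Module K V]
    [Fintype ι] (f : Module.End K V) (b : Basis ι K V) (l : ι → K) (h : ∀ i, f (b i) = l i • b i) :
    LinearMap.trace K V f = ∑ i, l i := by
  classical
  rw [LinearMap.trace_eq_matrix_trace K b, Matrix.trace]
  refine Finset.sum_congr rfl fun i _ => ?_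
  simp [LinearMap.toMatrix_apply, h]

/-- The determinant of an endomorphism with a basis of eigenvectors is the product of the
eigenvalues. -/
theorem det_eq_prod_of_eigenbasis {K V ι : Type*} [Field K] [AddCommGroup V] [Module K V]
    [Fintype ι] (f : Module.End K V) (b : Basis ι K V) (l : ι → K) (h : ∀ i, f (b i) = l i • b i) :
    LinearMap.det f = ∏ i, l i := by
  classical
  rw [← LinearMap.det_toMatrix b, ← Matrix.det_diagonal]
  congr 1
  ext i j
  by_cases hij : i = j
  · subst hij; simp [LinearMap.toMatrix_apply, h]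
  · simp [LinearMap.toMatrix_apply, h, hij]

section Rep

variable {K G V : Type*} [Field K] [Group G] [AddCommGroup V] [Module K V]

theorem rep_pow_apply_of_eigen (ρ : Representation K G V) {g : G} {v : V} {c : K}
    (h : ρ g v = c • v) (k : ℕ) : ρ (g ^ k) v = c ^ k • v := by
  induction k with
  | zero => simp
  | succ m ih => rw [pow_succ', map_mul, Module.End.mul_apply, ih, map_smul, h, smul_smul, pow_succ]

theorem rep_inv_apply_of_eigen (ρ : Representation K G V) {g : G} {v : V} {c : K} (hc : c ≠ 0)
    (h : ρ g v = c • v) : ρ g⁻¹ v = c⁻¹ • v := by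
  have h1 : ρ g⁻¹ (ρ g v) = v := by
    rw [← Module.End.mul_apply, ← map_mul, inv_mul_cancel, map_one, Module.End.one_apply]
  rw [h, map_smul] at h1
  rw [← h1, smul_smul, inv_mul_cancel₀ hc, one_smul, h1]

theorem rep_zpow_apply_of_eigen (ρ : Representation K G V) {g : G} {v : V} {c : K} (hc : c ≠ 0)
    (h : ρ g v = c • v) (k : ℤ) : ρ (g ^ k) v = c ^ k • v := by
  rcases Int.eq_nat_or_neg k with ⟨m, rfl | rfl⟩
  · simpa using rep_pow_apply_of_eigen ρ h m
  · rw [zpow_neg, zpow_neg, zpow_natCast, zpow_natCast]
    exact rep_inv_apply_of_eigen ρ (pow_ne_zero _ hc) (rep_pow_apply_of_eigen ρ h m)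

/-- A group element of finite order prime to the characteristic has an eigenbasis in any
finite-dimensional representation over an algebraically closed field. -/
theorem exists_eigenbasis_rep [IsAlgClosed K] [FiniteDimensional K V] (ρ : Representation K G V)
    (g : G) (hg : (orderOf g : K) ≠ 0) :
    ∃ (b : Basis (Fin (finrank K V)) K V) (l : Fin (finrank K V) → K),
      (∀ i, l i ^ orderOf g = 1) ∧ ∀ i, ρ g (b i) = l i • b i :=
  exists_eigenbasis_of_pow_eq_one (ρ g) hg (by rw [← map_pow, pow_orderOf_eq_one, map_one])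

end Rep

section Complex

variable {G V : Type*} [Group G] [AddCommGroup V] [Module ℂ V] [FiniteDimensional ℂ V]

theorem norm_eq_one_of_pow_orderOf [Finite G] {g : G} {z : ℂ} (h : z ^ orderOf g = 1) :
    ‖z‖ = 1 :=
  Complex.norm_eq_one_of_pow_eq_one h (orderOf_pos g).ne'

/-- Eigenbasis of a group element of a finite group in a complex representation. -/
theorem exists_eigenbasis_complex [Finite G] (ρ : Representation ℂ G V) (g : G) :
    ∃ (b : Basis (Fin (finrank ℂ V)) ℂ V) (l : Fin (finrank ℂ V) → ℂ),
      (∀ i, l i ^ orderOf g = 1) ∧ ∀ i, ρ g (b i) = l i • b i :=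
  exists_eigenbasis_rep ρ g (Nat.cast_ne_zero.2 (orderOf_pos g).ne')

/-- The character values on the powers of `g` are the power sums of the eigenvalues of `g`,
which are `orderOf g`-th roots of unity. -/
theorem exists_char_eq_sum_pow [Finite G] (ρ : Representation ℂ G V) (g : G) :
    ∃ l : Fin (finrank ℂ V) → ℂ, (∀ i, l i ^ orderOf g = 1) ∧
      (∀ k : ℕ, ρ.character (g ^ k) = ∑ i, l i ^ k) ∧
      (∀ k : ℤ, ρ.character (g ^ k) = ∑ i, l i ^ k) := by
  obtain ⟨b, l, hl, hb⟩ := exists_eigenbasis_complex ρ g
  have hne : ∀ i, l i ≠ 0 := fun i h => by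
    have := norm_eq_one_of_pow_orderOf (hl i); simp [h] at this
  exact ⟨l, hl, fun k => trace_eq_sum_of_eigenbasis _ b _ fun i =>
      rep_pow_apply_of_eigen ρ (hb i) k,
    fun k => trace_eq_sum_of_eigenbasis _ b _ fun i => rep_zpow_apply_of_eigen ρ (hne i) (hb i) k⟩

/-- A character value is a sum of `orderOf g`-th roots of unity. -/
theorem exists_char_eq_sum [Finite G] (ρ : Representation ℂ G V) (g : G) :
    ∃ l : Fin (finrank ℂ V) → ℂ, (∀ i, l i ^ orderOf g = 1) ∧ ρ.character g = ∑ i, l i := by
  obtain ⟨l, hl, h, -⟩ := exists_char_eq_sum_pow ρ g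
  exact ⟨l, hl, by simpa using h 1⟩

end Complex

end CL.Char
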