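import Cfsg.Agent.Base
import Cfsg.Agent.Char.Eigen
import Cfsg.Agent.Char.Orth

/-!
Values of characters: the bound `‖χ g‖ ≤ χ 1` with its equality cases, the kernel `charKer χ` and
the centre `charCenter χ` of a character.
-/

set_option autoImplicit false

open Module Cfsg
open scoped ComplexConjugate

namespace CL.Char

/-- Unit complex numbers whose sum has norm equal to their number are all equal. -/
theorem exists_eq_of_norm_sum_eq_card {ι : Type*} [Fintype ι] (l : ι → ℂ) (hl : ∀ i, ‖l i‖ = 1)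
    (h : ‖∑ i, l i‖ = Fintype.card ι) : ∃ u : ℂ, ‖u‖ = 1 ∧ ∀ i, l i = u := by
  rcases isEmpty_or_nonempty ι with hι | hι
  · exact ⟨1, by simp, fun i => isEmptyElim i⟩
  have hd : (0 : ℝ) < Fintype.card ι := by exact_mod_cast Fintype.card_pos
  set s := ∑ i, l i with hs
  set u : ℂ := s / (Fintype.card ι : ℂ) with hu
  have hun : ‖u‖ = 1 := by
    rw [hu, norm_div, h, Complex.norm_natCast, div_self hd.ne']
  have hsu : s = (Fintype.card ι : ℂ) * u := by
    rw [hu, mul_div_cancel₀]; exact_mod_cast hd.ne'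
  have huu : u * conj u = 1 := by
    rw [Complex.mul_conj, Complex.normSq_eq_norm_sq, hun]; simp
  have h1 : ∀ i, (l i * conj u).re ≤ 1 := fun i => by
    refine (Complex.re_le_norm _).trans ?_
    rw [norm_mul, hl i, Complex.norm_conj, hun]; simp
  have h2 : ∑ i, (l i * conj u).re = ∑ _i : ι, (1 : ℝ) := by
    rw [← Complex.re_sum, ← Finset.sum_mul, ← hs, hsu, mul_assoc, huu]; simp
  have h3 := (Finset.sum_eq_sum_iff_of_le (fun i _ => h1 i)).1 h2
  refine ⟨u, hun, fun i => ?_⟩
  have h4 : (l i * conj u).re = 1 := h3 i (Finset.mem_univ i)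
  have h5 : ‖l i * conj u‖ = 1 := by rw [norm_mul, hl i, Complex.norm_conj, hun]; simp
  have h6 : l i * conj u = 1 := by
    have := Complex.sq_norm_sub_sq_re (l i * conj u)
    rw [h4, h5] at this
    have him : (l i * conj u).im = 0 := by nlinarith
    exact Complex.ext (by simpa using h4) (by simpa using him)
  calc l i = l i * (conj u * u) := by rw [mul_comm (conj u), huu, mul_one]
    _ = u := by rw [← mul_assoc, h6, one_mul]

section Rep

variable {G V : Type*} [Group G] [AddCommGroup V] [Module ℂ V] [FiniteDimensional ℂ V]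

theorem norm_character_le [Finite G] (ρ : Representation ℂ G V) (g : G) :
    ‖ρ.character g‖ ≤ (finrank ℂ V : ℝ) := by
  obtain ⟨l, hl, h⟩ := exists_char_eq_sum ρ g
  rw [h]
  refine (norm_sum_le _ _).trans ?_
  simp [norm_eq_one_of_pow_orderOf (hl _)]

omit [FiniteDimensional ℂ V] in
theorem character_of_eq_smul_id (ρ : Representation ℂ G V) {g : G} {c : ℂ}
    (h : ρ g = c • (LinearMap.id : V →ₗ[ℂ] V)) (x : G) :
    ρ.character (g * x) = c * ρ.character x := by
  simp only [Representation.character, map_mul, h]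
  rw [smul_mul_assoc, map_smul, smul_eq_mul]
  rfl

theorem character_of_eq_smul_id' (ρ : Representation ℂ G V) {g : G} {c : ℂ}
    (h : ρ g = c • (LinearMap.id : V →ₗ[ℂ] V)) : ρ.character g = c * finrank ℂ V := by
  simpa using character_of_eq_smul_id ρ h 1

omit [FiniteDimensional ℂ V] in
theorem pow_orderOf_eq_one_of_eq_smul_id [Nontrivial V] (ρ : Representation ℂ G V) {g : G} {c : ℂ}
    (h : ρ g = c • (LinearMap.id : V →ₗ[ℂ] V)) : c ^ orderOf g = 1 := by
  obtain ⟨v, hv⟩ := exists_ne (0 : V)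
  have h1 := rep_pow_apply_of_eigen ρ (g := g) (v := v) (c := c) (by simp [h]) (orderOf g)
  rw [pow_orderOf_eq_one, map_one, Module.End.one_apply] at h1
  have h2 : (c ^ orderOf g - 1) • v = 0 := by rw [sub_smul, ← h1, one_smul, sub_self]
  exact sub_eq_zero.1 ((smul_eq_zero.1 h2).resolve_right hv)

/-- `‖χ g‖ = χ 1` forces `g` to act by a scalar of norm one. -/
theorem exists_eq_smul_id_of_norm_character_eq [Finite G] (ρ : Representation ℂ G V) {g : G}
    (h : ‖ρ.character g‖ = (finrank ℂ V : ℝ)) :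
    ∃ ω : ℂ, ‖ω‖ = 1 ∧ ρ g = ω • (LinearMap.id : V →ₗ[ℂ] V) := by
  obtain ⟨b, l, hl, hb⟩ := exists_eigenbasis_complex ρ g
  have ht : ρ.character g = ∑ i, l i := trace_eq_sum_of_eigenbasis _ b l hb
  obtain ⟨u, hu, hlu⟩ := exists_eq_of_norm_sum_eq_card l
    (fun i => norm_eq_one_of_pow_orderOf (hl i)) (by rw [← ht, h]; simp)
  exact ⟨u, hu, b.ext fun i => by simp [hb, hlu]⟩

theorem norm_character_eq_iff [Finite G] (ρ : Representation ℂ G V) (g : G) :
    ‖ρ.character g‖ = (finrank ℂ V : ℝ) ↔ ∃ ω : ℂ, ρ g = ω • (LinearMap.id : V →ₗ[ℂ] V) := by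
  constructor
  · intro h
    obtain ⟨ω, -, hω⟩ := exists_eq_smul_id_of_norm_character_eq ρ h
    exact ⟨ω, hω⟩
  · rintro ⟨ω, hω⟩
    rcases subsingleton_or_nontrivial V with hV | hV
    · simp [character_of_eq_smul_id' ρ hω, finrank_zero_of_subsingleton]
    · rw [character_of_eq_smul_id' ρ hω, norm_mul,
        norm_eq_one_of_pow_orderOf (pow_orderOf_eq_one_of_eq_smul_id ρ hω)]
      simp

theorem character_eq_finrank_iff [Finite G] (ρ : Representation ℂ G V) (g : G) :
    ρ.character g = (finrank ℂ V : ℂ) ↔ ρ g = LinearMap.id := by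
  constructor
  · intro h
    obtain ⟨ω, -, hω⟩ := exists_eq_smul_id_of_norm_character_eq ρ (g := g) (by rw [h]; simp)
    rcases subsingleton_or_nontrivial V with hV | hV
    · exact Subsingleton.elim _ _
    · have hd : (finrank ℂ V : ℂ) ≠ 0 := Nat.cast_ne_zero.2 finrank_pos.ne'
      have := character_of_eq_smul_id' ρ hω
      rw [h] at this
      have h1 : ω = 1 := by
        apply mul_right_cancel₀ hd; rw [← this, one_mul]
      rw [hω, h1, one_smul]
  · intro h
    have := character_of_eq_smul_id' ρ (g := g) (c := 1) (by rw [h, one_smul])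
    rw [this, one_mul]

theorem character_eq_one_iff_mem_ker [Finite G] (ρ : Representation ℂ G V) (g : G) :
    ρ.character g = ρ.character 1 ↔ g ∈ MonoidHom.ker ρ := by
  rw [Representation.char_one, character_eq_finrank_iff, MonoidHom.mem_ker]; rfl

/-- Schur's lemma: an endomorphism commuting with an irreducible representation is a scalar. -/
theorem exists_eq_smul_id_of_commute (ρ : Representation ℂ G V) [ρ.IsIrreducible]
    (f : V →ₗ[ℂ] V) (hf : ∀ g, f * ρ g = ρ g * f) :
    ∃ c : ℂ, f = c • (LinearMap.id : V →ₗ[ℂ] V) := by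
  obtain ⟨c, hc⟩ := (Representation.IsIrreducible.algebraMap_intertwiningMap_bijective_of_isAlgClosed
    (ρ := ρ)).2 ⟨f, hf⟩
  refine ⟨c, ?_⟩
  have := congrArg Representation.IntertwiningMap.toLinearMap hc
  rw [Algebra.algebraMap_eq_smul_one] at this
  exact this.symm

/-- An element whose image commutes with the image of an irreducible representation acts by a
scalar. -/
theorem exists_eq_smul_id_of_commutator_mem_ker (ρ : Representation ℂ G V) [ρ.IsIrreducible]
    {z : G} (hz : ∀ g, ρ (z * g) = ρ (g * z)) :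
    ∃ c : ℂ, ρ z = c • (LinearMap.id : V →ₗ[ℂ] V) :=
  exists_eq_smul_id_of_commute ρ (ρ z) fun g => by rw [← map_mul, ← map_mul, hz]

theorem exists_eq_smul_id_of_mem_center (ρ : Representation ℂ G V) [ρ.IsIrreducible]
    {z : G} (hz : z ∈ Subgroup.center G) :
    ∃ c : ℂ, ρ z = c • (LinearMap.id : V →ₗ[ℂ] V) :=
  exists_eq_smul_id_of_commutator_mem_ker ρ fun g => by rw [Subgroup.mem_center_iff.1 hz g]

end Rep

section Fun

variable {G : Type*} [Group G]

/-- The kernel of a function on a group: the elements `x` with `χ (x * y) = χ y` for all `y`.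
For a character of a finite group these are the `x` with `χ x = χ 1` (`mem_charKer_iff`). -/
def charKer (χ : G → ℂ) : Subgroup G where
  carrier := {x | ∀ y, χ (x * y) = χ y}
  one_mem' := fun y => by rw [one_mul]
  mul_mem' := fun {a b} ha hb y => by rw [mul_assoc, ha, hb]
  inv_mem' := fun {a} ha y => by rw [← ha (a⁻¹ * y), mul_inv_cancel_left]

/-- The centre of a function on a group: the elements `x` such that `y ↦ χ (x * y)` is a nonzero
scalar multiple of `χ`.  For a character of a finite group these are the `x` with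
`‖χ x‖ = ‖χ 1‖` (`mem_charCenter_iff`). -/
def charCenter (χ : G → ℂ) : Subgroup G where
  carrier := {x | ∃ c : ℂ, c ≠ 0 ∧ ∀ y, χ (x * y) = c * χ y}
  one_mem' := ⟨1, one_ne_zero, fun y => by rw [one_mul, one_mul]⟩
  mul_mem' := by
    rintro a b ⟨c, hc, ha⟩ ⟨d, hd, hb⟩
    exact ⟨c * d, mul_ne_zero hc hd, fun y => by rw [mul_assoc, ha, hb, mul_assoc]⟩
  inv_mem' := by
    rintro a ⟨c, hc, ha⟩
    refine ⟨c⁻¹, inv_ne_zero hc, fun y => ?_⟩
    have := ha (a⁻¹ * y)
    rw [mul_inv_cancel_left] at this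
    rw [this, inv_mul_cancel_left₀ hc]

theorem mem_charKer {χ : G → ℂ} {x : G} : x ∈ charKer χ ↔ ∀ y, χ (x * y) = χ y := Iff.rfl

theorem mem_charCenter {χ : G → ℂ} {x : G} :
    x ∈ charCenter χ ↔ ∃ c : ℂ, c ≠ 0 ∧ ∀ y, χ (x * y) = c * χ y := Iff.rfl

theorem apply_eq_of_mem_charKer {χ : G → ℂ} {x : G} (hx : x ∈ charKer χ) : χ x = χ 1 := by
  simpa using hx 1

theorem apply_mul_of_mem_charKer {χ : G → ℂ} {x : G} (hx : x ∈ charKer χ) (y : G) :
    χ (x * y) = χ y := hx y

theorem apply_mul_of_mem_charKer' {χ : G → ℂ} (hχ : IsClassFunction G χ) {x : G}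
    (hx : x ∈ charKer χ) (y : G) : χ (y * x) = χ y := by
  rw [← hx y, ← hχ (y * x) x]; simp [mul_assoc]

theorem charKer_le_charCenter (χ : G → ℂ) : charKer χ ≤ charCenter χ :=
  fun _ hx => ⟨1, one_ne_zero, fun y => by rw [hx y, one_mul]⟩

theorem charKer_normal {χ : G → ℂ} (hχ : IsClassFunction G χ) : (charKer χ).Normal :=
  ⟨fun x hx g y => by
    have h1 : g * x * g⁻¹ * y = g * (x * (g⁻¹ * y * g)) * g⁻¹ := by group
    have h2 : y = g * (g⁻¹ * y * g) * g⁻¹ := by group
    rw [h1, hχ, hx]
    conv_rhs => rw [h2, hχ]⟩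

theorem charCenter_normal {χ : G → ℂ} (hχ : IsClassFunction G χ) : (charCenter χ).Normal :=
  ⟨fun x ⟨c, hc, hx⟩ g => ⟨c, hc, fun y => by
    have h1 : g * x * g⁻¹ * y = g * (x * (g⁻¹ * y * g)) * g⁻¹ := by group
    have h2 : y = g * (g⁻¹ * y * g) * g⁻¹ := by group
    rw [h1, hχ, hx]
    conv_rhs => rw [h2, hχ]⟩⟩

theorem charKer_one : charKer (fun _ : G => (1 : ℂ)) = ⊤ := by
  ext x; simp [mem_charKer]

theorem charKer_comp_le {H : Type*} [Group H] (f : H →* G) (χ : G → ℂ) :
    (charKer χ).comap f ≤ charKer (fun h => χ (f h)) :=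
  fun _ hx y => by simpa using hx (f y)

variable {V : Type*} [AddCommGroup V] [Module ℂ V] [FiniteDimensional ℂ V]

theorem charKer_character [Finite G] (ρ : Representation ℂ G V) :
    charKer ρ.character = MonoidHom.ker ρ := by
  ext x
  constructor
  · intro hx
    exact (character_eq_one_iff_mem_ker ρ x).1 (apply_eq_of_mem_charKer hx)
  · intro hx y
    rw [MonoidHom.mem_ker] at hx
    simp only [Representation.character, map_mul, hx, one_mul]

theorem mem_charCenter_character_iff [Finite G] (ρ : Representation ℂ G V) (x : G) :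
    x ∈ charCenter ρ.character ↔ ∃ ω : ℂ, ρ x = ω • (LinearMap.id : V →ₗ[ℂ] V) := by
  constructor
  · rintro ⟨c, hc, hx⟩
    rw [← norm_character_eq_iff]
    rcases subsingleton_or_nontrivial V with hV | hV
    · have := norm_character_le ρ x
      rw [finrank_zero_of_subsingleton] at this ⊢
      simpa using this
    have hpow : ∀ k : ℕ, ρ.character (x ^ k) = c ^ k * finrank ℂ V := by
      intro k
      induction k with
      | zero => simp
      | succ k ih => rw [pow_succ', hx, ih, pow_succ', mul_assoc]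
    have h1 := hpow (orderOf x)
    rw [pow_orderOf_eq_one, Representation.char_one] at h1
    have hd : (finrank ℂ V : ℂ) ≠ 0 := Nat.cast_ne_zero.2 finrank_pos.ne'
    have h2 : c ^ orderOf x = 1 := by
      apply mul_right_cancel₀ hd; rw [← h1, one_mul]
    have h3 := hpow 1
    rw [pow_one, pow_one] at h3
    rw [h3, norm_mul, norm_eq_one_of_pow_orderOf h2]; simp
  · intro h
    obtain ⟨ω, h1, hω⟩ := exists_eq_smul_id_of_norm_character_eq ρ
      ((norm_character_eq_iff ρ x).2 h)
    exact ⟨ω, by rintro rfl; simp at h1, character_of_eq_smul_id ρ hω⟩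

variable [Finite G] {χ : G → ℂ}

theorem char_norm_le (hχ : IsCharacter G χ) (g : G) : ‖χ g‖ ≤ ‖χ 1‖ := by
  obtain ⟨n, ρ, rfl⟩ := hχ
  simpa using norm_character_le ρ g

theorem char_norm_le_re (hχ : IsCharacter G χ) (g : G) : ‖χ g‖ ≤ (χ 1).re := by
  obtain ⟨n, ρ, rfl⟩ := hχ
  simpa using norm_character_le ρ g

theorem char_mem_charKer_iff (hχ : IsCharacter G χ) {x : G} :
    x ∈ charKer χ ↔ χ x = χ 1 := by
  obtain ⟨n, ρ, rfl⟩ := hχ
  rw [charKer_character, character_eq_one_iff_mem_ker]

theorem char_mem_charCenter_iff (hχ : IsCharacter G χ) {x : G} :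
    x ∈ charCenter χ ↔ ‖χ x‖ = ‖χ 1‖ := by
  obtain ⟨n, ρ, rfl⟩ := hχ
  rw [mem_charCenter_character_iff, ← norm_character_eq_iff]; simp

/-- If `χ x = χ 1` then `χ (x * y) = χ y`. -/
theorem char_apply_mul_of_eq_one (hχ : IsCharacter G χ) {x : G} (hx : χ x = χ 1) (y : G) :
    χ (x * y) = χ y := (char_mem_charKer_iff hχ).2 hx y

/-- The real part of a character value is at most the degree, with equality only on the
kernel. -/
theorem char_re_le (hχ : IsCharacter G χ) (g : G) : (χ g).re ≤ (χ 1).re :=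
  (Complex.re_le_norm _).trans (char_norm_le_re hχ g)

theorem char_eq_of_re_eq (hχ : IsCharacter G χ) {g : G} (h : (χ g).re = (χ 1).re) :
    χ g = χ 1 := by
  have h1 := char_norm_le_re hχ g
  have h2 := Complex.sq_norm_sub_sq_re (χ g)
  have h3 := Complex.re_le_norm (χ g)
  have h4 : ‖χ g‖ = (χ g).re := le_antisymm (h ▸ h1) h3
  have h5 : (χ g).im = 0 := by rw [h4] at h2; nlinarith
  obtain ⟨n, ρ, rfl⟩ := hχ
  exact Complex.ext h (by rw [h5]; simp)

/-- The kernel of a sum of two characters is the intersection of the kernels. -/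
theorem char_add_apply_eq_iff {ψ : G → ℂ} (hχ : IsCharacter G χ) (hψ : IsCharacter G ψ)
    (g : G) : χ g + ψ g = χ 1 + ψ 1 ↔ χ g = χ 1 ∧ ψ g = ψ 1 := by
  refine ⟨fun h => ?_, fun h => by rw [h.1, h.2]⟩
  have h1 := char_re_le hχ g
  have h2 := char_re_le hψ g
  have h3 := congrArg Complex.re h
  simp only [Complex.add_re] at h3
  exact ⟨char_eq_of_re_eq hχ (by linarith), char_eq_of_re_eq hψ (by linarith)⟩

/-- The centre of the group lies in the centre of an irreducible character. -/
theorem irr_center_le_charCenter (hχ : IsIrrCharacter G χ) :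
    Subgroup.center G ≤ charCenter χ := by
  obtain ⟨n, ρ, hρ, rfl⟩ := hχ
  intro z hz
  exact (mem_charCenter_character_iff ρ z).2 (exists_eq_smul_id_of_mem_center ρ hz)

/-- Commutators with an element of the centre of a character lie in its kernel. -/
theorem char_commutator_mem_charKer (hχ : IsCharacter G χ) {z : G} (hz : z ∈ charCenter χ)
    (g : G) : z * g * z⁻¹ * g⁻¹ ∈ charKer χ := by
  obtain ⟨n, ρ, rfl⟩ := hχ
  obtain ⟨ω, hω⟩ := (mem_charCenter_character_iff ρ z).1 hz
  rw [charKer_character, MonoidHom.mem_ker]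
  have h1 : ρ (z * g) = ρ (g * z) := by
    rw [map_mul, map_mul, hω, smul_mul_assoc, mul_smul_comm]; rfl
  have h2 : z * g * z⁻¹ * g⁻¹ = (z * g) * (g * z)⁻¹ := by group
  rw [h2, map_mul, h1, ← map_mul, mul_inv_cancel, map_one]

/-- For an irreducible character, `Z(χ) / ker χ` is the centre of `G / ker χ`. -/
theorem irr_mem_charCenter_iff_commutator (hχ : IsIrrCharacter G χ) {z : G} :
    z ∈ charCenter χ ↔ ∀ g, z * g * z⁻¹ * g⁻¹ ∈ charKer χ := by
  constructor
  · intro hz
    obtain ⟨n, ρ, hρ, rfl⟩ := hχ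
    exact char_commutator_mem_charKer ⟨n, ρ, rfl⟩ hz
  · obtain ⟨n, ρ, hρ, rfl⟩ := hχ
    intro h
    rw [mem_charCenter_character_iff]
    refine exists_eq_smul_id_of_commutator_mem_ker ρ fun g => ?_
    have h1 := h g
    rw [charKer_character, MonoidHom.mem_ker] at h1
    have h2 : z * g = (z * g * z⁻¹ * g⁻¹) * (g * z) := by group
    rw [h2, map_mul, h1, one_mul]

/-- For a faithful irreducible character the centre of the character is the centre of the
group. -/
theorem irr_charCenter_eq_center (hχ : IsIrrCharacter G χ) (hk : charKer χ = ⊥) :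
    charCenter χ = Subgroup.center G := by
  refine le_antisymm (fun z hz => ?_) (irr_center_le_charCenter hχ)
  rw [Subgroup.mem_center_iff]
  intro g
  have := (irr_mem_charCenter_iff_commutator hχ).1 hz g
  rw [hk, Subgroup.mem_bot] at this
  calc g * z = (z * g * z⁻¹ * g⁻¹) * (g * z) := by rw [this, one_mul]
    _ = z * g := by group

end Fun

end CL.Char
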