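import Cfsg.Agent.Base
import Cfsg.Agent.Char.Values

/-!
Algebraic integrality of character values and of central characters; the degree of an
irreducible character divides the group order, the index of the centre and the index of every
abelian normal subgroup.
-/

set_option autoImplicit false

open Module Cfsg Polynomial
open scoped ComplexConjugate

namespace CL.Char

theorem isIntegral_of_pow_eq_one {R : Type*} [CommRing R] {z : R} {n : ℕ} (hn : n ≠ 0)
    (h : z ^ n = 1) : IsIntegral ℤ z :=
  IsIntegral.of_pow (Nat.pos_of_ne_zero hn) (h ▸ isIntegral_one)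

/-- A rational number that is an algebraic integer in `ℂ` is an integer. -/
theorem exists_int_of_isIntegral_ratCast {q : ℚ} (h : IsIntegral ℤ (q : ℂ)) :
    ∃ z : ℤ, (z : ℚ) = q := by
  have h1 : IsIntegral ℤ q :=
    (isIntegral_algebraMap_iff (R := ℤ) (A := ℚ) (B := ℂ) (algebraMap ℚ ℂ).injective).1 h
  exact IsIntegrallyClosed.isIntegral_iff.1 h1

/-- A complex algebraic integer that is rational is an integer. -/
theorem exists_int_of_isIntegral_of_rat {x : ℂ} (h : IsIntegral ℤ x) (hq : ∃ q : ℚ, x = q) :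
    ∃ z : ℤ, x = z := by
  obtain ⟨q, rfl⟩ := hq
  obtain ⟨z, rfl⟩ := exists_int_of_isIntegral_ratCast h
  exact ⟨z, by simp⟩

theorem int_dvd_of_isIntegral_div {a b : ℤ} (hb : b ≠ 0)
    (h : IsIntegral ℤ ((a : ℂ) / (b : ℂ))) : b ∣ a := by
  obtain ⟨z, hz⟩ := exists_int_of_isIntegral_of_rat h ⟨(a : ℚ) / b, by push_cast; rfl⟩
  refine ⟨z, ?_⟩
  have hb' : (b : ℂ) ≠ 0 := Int.cast_ne_zero.2 hb
  have : (a : ℂ) = b * z := by rw [← hz, mul_div_cancel₀ _ hb']
  exact_mod_cast this

theorem nat_dvd_of_isIntegral_div {a b : ℕ} (hb : b ≠ 0)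
    (h : IsIntegral ℤ ((a : ℂ) / (b : ℂ))) : b ∣ a := by
  have := int_dvd_of_isIntegral_div (a := a) (b := b) (by exact_mod_cast hb) (by simpa using h)
  exact_mod_cast this

theorem isIntegral_conj {z : ℂ} (h : IsIntegral ℤ z) : IsIntegral ℤ (conj z) :=
  h.map_of_comp_eq (RingHom.id ℤ) (starRingEnd ℂ) (Subsingleton.elim _ _)

theorem isIntegral_ringHom_apply {A B : Type*} [CommRing A] [CommRing B] (σ : A →+* B) {z : A}
    (h : IsIntegral ℤ z) : IsIntegral ℤ (σ z) :=
  h.map_of_comp_eq (RingHom.id ℤ) σ (Subsingleton.elim _ _)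

section End

variable {V : Type*} [AddCommGroup V] [Module ℂ V]

/-- An eigenvalue of an endomorphism that is integral over a ring `R` is integral over `R`. -/
theorem isIntegral_of_eigen {R K W : Type*} [CommRing R] [Field K] [Algebra R K] [AddCommGroup W]
    [Module K W] [Module R W] [IsScalarTower R K W] {f : Module.End K W} (hf : IsIntegral R f)
    {v : W} (hv : v ≠ 0) {c : K} (h : f v = c • v) : IsIntegral R c := by
  obtain ⟨p, hp, hpf⟩ := hf
  refine ⟨p, hp, ?_⟩
  have h1 := Module.End.aeval_apply_of_hasEigenvector (f := f) (p := p.map (algebraMap R K))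
    (μ := c) (x := v) ⟨Module.End.mem_eigenspace_iff.2 h, hv⟩
  rw [aeval_map_algebraMap, aeval_def, hpf, LinearMap.zero_apply, eval_map] at h1
  exact (smul_eq_zero.1 h1.symm).resolve_right hv

/-- The trace of an endomorphism that is integral over `ℤ` is an algebraic integer. -/
theorem isIntegral_trace_of_isIntegral [FiniteDimensional ℂ V] {f : Module.End ℂ V}
    (hf : IsIntegral ℤ f) : IsIntegral ℤ (LinearMap.trace ℂ V f) := by
  rw [Module.End.trace_eq_sum_roots_charpoly_of_splits (IsAlgClosed.splits _)]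
  refine IsIntegral.multiset_sum fun x hx => ?_
  have h1 : f.HasEigenvalue x :=
    (Module.End.hasEigenvalue_iff_isRoot_charpoly f x).2 (isRoot_of_mem_roots hx)
  obtain ⟨v, hv⟩ := h1.exists_hasEigenvector
  exact isIntegral_of_eigen hf hv.2 hv.apply_eq_smul

end End

section Rep

variable {G V : Type*} [Group G] [AddCommGroup V] [Module ℂ V]

theorem isIntegral_character [Finite G] [FiniteDimensional ℂ V] (ρ : Representation ℂ G V)
    (g : G) : IsIntegral ℤ (ρ.character g) := by
  obtain ⟨l, hl, h⟩ := exists_char_eq_sum ρ g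
  rw [h]
  exact IsIntegral.sum _ fun i _ => isIntegral_of_pow_eq_one (orderOf_pos g).ne' (hl i)

/-- A combination of the operators `ρ g` with algebraic integer coefficients is integral over
`ℤ`, provided the group is finite. -/
theorem isIntegral_of_eigen_sum_smul [Finite G] (ρ : Representation ℂ G V) {ι : Type*}
    (s : Finset ι) (f : ι → ℂ) (a : ι → G) (hf : ∀ i ∈ s, IsIntegral ℤ (f i)) {v : V} (hv : v ≠ 0)
    {c : ℂ} (h : ∑ i ∈ s, f i • ρ (a i) v = c • v) : IsIntegral ℤ c := by
  classical
  let A := integralClosure ℤ ℂ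
  let Φ : MonoidAlgebra A G →ₐ[A] Module.End ℂ V := MonoidAlgebra.lift A (Module.End ℂ V) G ρ
  let f' : ι → A := fun i => if hi : i ∈ s then ⟨f i, hf i hi⟩ else 0
  let x : MonoidAlgebra A G := ∑ i ∈ s, MonoidAlgebra.single (a i) (f' i)
  have hx : IsIntegral A x := IsIntegral.of_finite A x
  have hΦ : IsIntegral A (Φ x) := hx.map Φ
  have hΦx : Φ x v = c • v := by
    rw [← h]
    simp only [x, Φ, map_sum, MonoidAlgebra.lift_single, LinearMap.sum_apply,
      LinearMap.smul_apply]
    refine Finset.sum_congr rfl fun i hi => ?_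
    simp only [f', dif_pos hi]
    rfl
  have hc : IsIntegral A c := isIntegral_of_eigen hΦ hv hΦx
  exact isIntegral_trans c hc

/-- The operator `∑ g, f g • ρ g` of a class function `f` commutes with the representation. -/
theorem sum_smul_commute [Fintype G] (ρ : Representation ℂ G V) {f : G → ℂ}
    (hf : IsClassFunction G f) (h : G) :
    (∑ g, f g • ρ g) * ρ h = ρ h * ∑ g, f g • ρ g := by
  rw [Finset.sum_mul, Finset.mul_sum]
  refine (Fintype.sum_equiv (MulAut.conj h).toEquiv _ _ fun g => ?_).symm
  simp only [MulEquiv.toEquiv_eq_coe, EquivLike.coe_coe, MulAut.conj_apply, hf g h,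
    smul_mul_assoc, mul_smul_comm, ← map_mul, inv_mul_cancel_right]

variable [FiniteDimensional ℂ V]

/-- The central character: a class function `f` acts on an irreducible representation by the
scalar `(∑ g, f g * χ g) / χ 1`. -/
theorem sum_smul_eq_scalar [Fintype G] (ρ : Representation ℂ G V) [ρ.IsIrreducible] {f : G → ℂ}
    (hf : IsClassFunction G f) :
    ∑ g, f g • ρ g =
      ((∑ g, f g * ρ.character g) / finrank ℂ V) • (LinearMap.id : V →ₗ[ℂ] V) := by
  obtain ⟨c, hc⟩ := exists_eq_smul_id_of_commute ρ _ (sum_smul_commute ρ hf)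
  have hd : (finrank ℂ V : ℂ) ≠ 0 := Nat.cast_ne_zero.2 (finrank_pos_of_isIrreducible ρ).ne'
  have h1 := congrArg (LinearMap.trace ℂ V) hc
  simp only [map_sum, map_smul, smul_eq_mul, LinearMap.trace_id] at h1
  rw [hc]
  congr 1
  rw [eq_div_iff hd, ← h1]; rfl

/-- For a class function `f` with algebraic integer values, `(∑ g, f g * χ g) / χ 1` is an
algebraic integer. -/
theorem isIntegral_sum_mul_character_div [Fintype G] (ρ : Representation ℂ G V)
    [ρ.IsIrreducible] {f : G → ℂ} (hf : IsClassFunction G f) (hint : ∀ g, IsIntegral ℤ (f g)) :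
    IsIntegral ℤ ((∑ g, f g * ρ.character g) / finrank ℂ V) := by
  have := nontrivial_of_isIrreducible ρ
  obtain ⟨v, hv⟩ := exists_ne (0 : V)
  refine isIntegral_of_eigen_sum_smul ρ Finset.univ f id (fun g _ => hint g) hv ?_
  have h := congrArg (fun T : V →ₗ[ℂ] V => T v) (sum_smul_eq_scalar ρ hf)
  simpa [LinearMap.sum_apply] using h

/-- The central character at a class sum is an algebraic integer. -/
theorem isIntegral_index_mul_character_div [Finite G] (ρ : Representation ℂ G V)
    [ρ.IsIrreducible] (g : G) :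
    IsIntegral ℤ (((Subgroup.centralizer ({g} : Set G)).index : ℂ) * ρ.character g /
      (finrank ℂ V : ℂ)) := by
  classical
  have := Fintype.ofFinite G
  have h := isIntegral_sum_mul_character_div ρ (f := fun x => if IsConj g x then 1 else 0)
    (fun x h => by
      have : IsConj g (h * x * h⁻¹) ↔ IsConj g x :=
        ⟨fun a => a.trans (isConj_iff.2 ⟨h, rfl⟩).symm, fun a => a.trans (isConj_iff.2 ⟨h, rfl⟩)⟩
      simp only [this])
    (fun x => by split_ifs; exacts [isIntegral_one, isIntegral_zero])
  convert h using 2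
  rw [← card_isConj_eq_index, Nat.subtype_card (Finset.univ.filter fun x => IsConj g x) (by simp),
    Finset.card_eq_sum_ones, Finset.sum_filter]
  push_cast
  rw [Finset.sum_mul]
  refine Finset.sum_congr rfl fun x _ => ?_
  split_ifs with hx
  · obtain ⟨c, rfl⟩ := isConj_iff.1 hx
    simp
  · simp

theorem sum_character_mul_inv [Fintype G] (ρ : Representation ℂ G V) [ρ.IsIrreducible] :
    ∑ g, ρ.character g⁻¹ * ρ.character g = Nat.card G := by
  have hG : (Nat.card G : ℂ) ≠ 0 := Nat.cast_ne_zero.2 Nat.card_pos.ne'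
  have := invertibleOfNonzero hG
  have h := Representation.char_orthonormal ρ ρ
  rw [if_pos ⟨Representation.Equiv.refl ρ⟩] at h
  simp_rw [mul_comm (ρ.character _⁻¹)]
  field_simp at h
  exact h

/-- `∑ g, χ g⁻¹ • ρ g` is the scalar `|G| / χ 1`. -/
theorem sum_character_inv_smul [Fintype G] (ρ : Representation ℂ G V) [ρ.IsIrreducible] :
    ∑ g, ρ.character g⁻¹ • ρ g =
      ((Nat.card G : ℂ) / finrank ℂ V) • (LinearMap.id : V →ₗ[ℂ] V) := by
  rw [← sum_character_mul_inv ρ]
  refine sum_smul_eq_scalar ρ (f := fun g => ρ.character g⁻¹) fun g h => ?_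
  have : (h * g * h⁻¹)⁻¹ = h * g⁻¹ * h⁻¹ := by group
  simp only [this, Representation.char_conj]

/-- The degree of an irreducible representation divides the group order. -/
theorem finrank_dvd_card [Finite G] (ρ : Representation ℂ G V) [ρ.IsIrreducible] :
    finrank ℂ V ∣ Nat.card G := by
  have := Fintype.ofFinite G
  refine nat_dvd_of_isIntegral_div (finrank_pos_of_isIrreducible ρ).ne' ?_
  rw [← sum_character_mul_inv ρ]
  refine isIntegral_sum_mul_character_div ρ (f := fun g => ρ.character g⁻¹) (fun g h => ?_)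
    fun g => isIntegral_character ρ _
  have : (h * g * h⁻¹)⁻¹ = h * g⁻¹ * h⁻¹ := by group
  simp only [this, Representation.char_conj]

end Rep

end CL.Char
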