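import Cfsg.Agent.Base
import Cfsg.Agent.Char.Integral

/-!
Burnside's lemma on character values: if the degree of an irreducible character is coprime to the
size of the class of `g`, then `χ g = 0` or `g` acts by a scalar.
-/

set_option autoImplicit false

open Module Cfsg Polynomial
open scoped ComplexConjugate IntermediateField

namespace CL.Char

/-- If the average of a family of roots of unity is an algebraic integer then the sum vanishes or
has norm equal to the number of summands. -/
theorem sum_eq_zero_or_norm_eq_card_of_isIntegral {ι : Type*} [Fintype ι] (l : ι → ℂ) {n : ℕ}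
    (hn : n ≠ 0) (hl : ∀ i, l i ^ n = 1)
    (hint : IsIntegral ℤ ((∑ i, l i) / (Fintype.card ι : ℂ))) :
    ∑ i, l i = 0 ∨ ‖∑ i, l i‖ = Fintype.card ι := by
  rcases isEmpty_or_nonempty ι with hι | hι
  · left; simp
  have hd : (Fintype.card ι : ℂ) ≠ 0 := Nat.cast_ne_zero.2 Fintype.card_pos.ne'
  let K : IntermediateField ℚ ℂ := IntermediateField.adjoin ℚ (Set.range l)
  have hfin : FiniteDimensional ℚ K := by
    have : Finite (Set.range l) := Set.finite_range l
    refine IntermediateField.finiteDimensional_adjoin ?_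
    rintro _ ⟨i, rfl⟩
    exact (isIntegral_of_pow_eq_one hn (hl i)).tower_top
  have : NumberField K := ⟨⟩
  let l' : ι → K := fun i => ⟨l i, IntermediateField.subset_adjoin ℚ _ ⟨i, rfl⟩⟩
  have hl' : ∀ i, l' i ^ n = 1 := fun i => Subtype.ext (by simpa [l'] using hl i)
  let a : K := (∑ i, l' i) / (Fintype.card ι : K)
  have ha : (algebraMap K ℂ) a = (∑ i, l i) / (Fintype.card ι : ℂ) := by
    simp [a, l', map_sum]
  by_cases ha0 : a = 0
  · left
    rw [ha0, map_zero] at ha
    exact (div_eq_zero_iff.1 ha.symm).resolve_right hd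
  right
  have hai : IsIntegral ℤ a := by
    rw [← isIntegral_algebraMap_iff (B := ℂ) (algebraMap K ℂ).injective, ha]; exact hint
  obtain ⟨m, hm, ham⟩ := NumberField.Embeddings.pow_eq_one_of_norm_le_one K ℂ ha0 hai fun φ => by
    have h1 : φ a = (∑ i, φ (l' i)) / (Fintype.card ι : ℂ) := by simp [a, map_sum]
    rw [h1, norm_div, Complex.norm_natCast, div_le_one (by exact_mod_cast Fintype.card_pos)]
    refine (norm_sum_le _ _).trans (le_of_eq ?_)
    have : ∀ i, ‖φ (l' i)‖ = 1 := fun i =>
      Complex.norm_eq_one_of_pow_eq_one (by rw [← map_pow, hl', map_one]) hn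
    simp [this]
  have h2 : ‖(algebraMap K ℂ) a‖ = 1 :=
    Complex.norm_eq_one_of_pow_eq_one (by rw [← map_pow, ham, map_one]) hm.ne'
  rw [ha, norm_div, Complex.norm_natCast,
    div_eq_one_iff_eq (by exact_mod_cast Fintype.card_pos.ne')] at h2
  exact h2

variable {G V : Type*} [Group G] [AddCommGroup V] [Module ℂ V] [FiniteDimensional ℂ V]

/-- If `χ g / χ 1` is an algebraic integer then `χ g = 0` or `‖χ g‖ = χ 1`. -/
theorem character_eq_zero_or_norm_eq_of_isIntegral [Finite G] (ρ : Representation ℂ G V) (g : G)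
    (h : IsIntegral ℤ (ρ.character g / (finrank ℂ V : ℂ))) :
    ρ.character g = 0 ∨ ‖ρ.character g‖ = (finrank ℂ V : ℝ) := by
  obtain ⟨l, hl, hχ⟩ := exists_char_eq_sum ρ g
  rw [hχ] at h ⊢
  simpa using sum_eq_zero_or_norm_eq_card_of_isIntegral l (orderOf_pos g).ne' hl (by simpa using h)

/-- If `a * x / d` and `x` are algebraic integers with `a`, `d` coprime, so is `x / d`. -/
theorem isIntegral_div_of_coprime {x : ℂ} {a d : ℕ} (hd : d ≠ 0) (hcop : Nat.Coprime d a)
    (hx : IsIntegral ℤ x) (h : IsIntegral ℤ ((a : ℂ) * x / d)) : IsIntegral ℤ (x / d) := by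
  obtain ⟨u, v, huv⟩ : IsCoprime (d : ℤ) (a : ℤ) := Nat.isCoprime_iff_coprime.2 hcop
  have hd' : (d : ℂ) ≠ 0 := Nat.cast_ne_zero.2 hd
  have huv' : (u : ℂ) * d + v * a = 1 := by exact_mod_cast huv
  have : x / d = u * x + v * ((a : ℂ) * x / d) := by
    field_simp
    linear_combination (-x) * huv'
  rw [this]
  exact ((isIntegral_algebraMap (R := ℤ) (x := u)).mul hx).add
    ((isIntegral_algebraMap (R := ℤ) (x := v)).mul h)

/-- Burnside: if the degree is coprime to the class size then `χ g = 0` or `‖χ g‖ = χ 1`. -/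
theorem character_eq_zero_or_norm_eq_of_coprime [Finite G] (ρ : Representation ℂ G V)
    [ρ.IsIrreducible] (g : G)
    (hcop : Nat.Coprime (finrank ℂ V) (Subgroup.centralizer ({g} : Set G)).index) :
    ρ.character g = 0 ∨ ‖ρ.character g‖ = (finrank ℂ V : ℝ) :=
  character_eq_zero_or_norm_eq_of_isIntegral ρ g
    (isIntegral_div_of_coprime (finrank_pos_of_isIrreducible ρ).ne' hcop
      (isIntegral_character ρ g) (isIntegral_index_mul_character_div ρ g))

/-- Function form: if `χ` is irreducible of degree `d` coprime to the class size of `g`, then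
`χ g = 0` or `g` lies in the centre of `χ`. -/
theorem irr_eq_zero_or_mem_charCenter [Finite G] {χ : G → ℂ}
    (hχ : IsIrrCharacter G χ) {d : ℕ} (hd : χ 1 = d) (g : G)
    (hcop : Nat.Coprime d (Subgroup.centralizer ({g} : Set G)).index) :
    χ g = 0 ∨ g ∈ charCenter χ := by
  obtain ⟨n, ρ, hρ, rfl⟩ := hχ
  have hn : finrank ℂ (Fin n → ℂ) = d := by
    rw [Representation.char_one] at hd; exact_mod_cast hd
  rw [mem_charCenter_character_iff, ← norm_character_eq_iff]
  exact character_eq_zero_or_norm_eq_of_coprime ρ g (hn ▸ hcop)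

end CL.Char
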