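import Cfsg.Agent.Base
import Cfsg.Agent.Char.Kronecker

/-!
Burnside's theorems: a finite simple group with a nontrivial class of prime power size has prime
order; groups of order `p ^ a * q ^ b` are solvable.
-/

set_option autoImplicit false

open Module Cfsg
open scoped ComplexConjugate

namespace CL.Char

variable {G : Type*} [Group G]

theorem char_isIntegral [Finite G] {χ : G → ℂ} (hχ : IsCharacter G χ) (g : G) :
    IsIntegral ℤ (χ g) := by
  obtain ⟨n, ρ, rfl⟩ := hχ
  exact isIntegral_character ρ g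

theorem gen_isIntegral [Finite G] {χ : G → ℂ} (hχ : IsGeneralizedCharacter G χ) (g : G) :
    IsIntegral ℤ (χ g) := by
  obtain ⟨φ, ψ, hφ, hψ, rfl⟩ := hχ
  exact (char_isIntegral hφ g).sub (char_isIntegral hψ g)

/-- An irreducible character whose kernel is everything is the principal character. -/
theorem irr_eq_one_of_charKer_eq_top [Finite G] {χ : G → ℂ} (hχ : IsIrrCharacter G χ)
    (h : charKer χ = ⊤) : χ = fun _ => 1 := by
  have := Fintype.ofFinite G
  by_contra hne
  have h1 := irr_sum_eq_zero hχ hne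
  have h2 : ∀ g, χ g = χ 1 := fun g => apply_eq_of_mem_charKer (h ▸ Subgroup.mem_top g)
  simp only [h2, Finset.sum_const, Finset.card_univ, nsmul_eq_mul, mul_eq_zero,
    Nat.cast_eq_zero] at h1
  exact h1.elim Fintype.card_ne_zero (irr_apply_one_ne_zero hχ)

/-- A nonprincipal irreducible character of a simple group is faithful. -/
theorem irr_charKer_eq_bot_of_simple [Finite G] [IsSimpleGroup G] {χ : G → ℂ}
    (hχ : IsIrrCharacter G χ) (hne : χ ≠ fun _ => 1) : charKer χ = ⊥ :=
  ((charKer_normal (irr_isClassFunction hχ)).eq_bot_or_eq_top).resolve_right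
    fun h => hne (irr_eq_one_of_charKer_eq_top hχ h)

/-- If `g ≠ 1` and `p` is prime, some nonprincipal irreducible character of degree prime to `p`
does not vanish at `g`. -/
theorem exists_irr_ne_one_not_dvd_deg_ne_zero [Finite G] {g : G} (hg : g ≠ 1) {p : ℕ}
    (hp : p.Prime) :
    ∃ χ : G → ℂ, IsIrrCharacter G χ ∧ χ ≠ (fun _ => 1) ∧ ¬ p ∣ deg χ ∧ χ g ≠ 0 := by
  classical
  by_contra hcon
  push Not at hcon
  have hp' : (p : ℂ) ≠ 0 := Nat.cast_ne_zero.2 hp.ne_zero
  have h0 := sum_irr_apply_one_mul hg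
  rw [← Finset.add_sum_erase _ _ (Finset.mem_univ (irrOne G))] at h0
  have hint : IsIntegral ℤ ((∑ χ ∈ Finset.univ.erase (irrOne G),
      (χ : G → ℂ) 1 * (χ : G → ℂ) g) / p) := by
    rw [Finset.sum_div]
    refine IsIntegral.sum _ fun χ hχ => ?_
    have hne : (χ : G → ℂ) ≠ fun _ => 1 := fun h => (Finset.mem_erase.1 hχ).1 (Subtype.ext h)
    by_cases hdvd : p ∣ deg (χ : G → ℂ)
    · obtain ⟨m, hm⟩ := hdvd
      rw [← irr_cast_deg χ.2, hm]
      push_cast
      rw [mul_assoc, mul_div_cancel_left₀ _ hp']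
      exact (isIntegral_algebraMap (R := ℤ) (x := (m : ℤ))).mul
        (char_isIntegral (irr_isCharacter χ.2) g)
    · rw [hcon χ χ.2 hne hdvd]; simpa using isIntegral_zero
  rw [irrOne_apply, irrOne_apply, one_mul] at h0
  rw [eq_neg_of_add_eq_zero_right h0] at hint
  have := int_dvd_of_isIntegral_div (a := -1) (b := p) (by exact_mod_cast hp.ne_zero)
    (by simpa using hint)
  have h2 : p ∣ 1 := by
    rw [dvd_neg] at this; exact_mod_cast this
  exact hp.one_lt.ne' (Nat.dvd_one.1 h2)

/-- If the class of `g ≠ 1` has prime power size, then `g` lies in the centre of some nonprincipal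
irreducible character. -/
theorem exists_irr_ne_one_mem_charCenter [Finite G] {g : G} (hg : g ≠ 1) {p k : ℕ} (hp : p.Prime)
    (hclass : (Subgroup.centralizer ({g} : Set G)).index = p ^ k) :
    ∃ χ : G → ℂ, IsIrrCharacter G χ ∧ χ ≠ (fun _ => 1) ∧ g ∈ charCenter χ := by
  obtain ⟨χ, hχ, hne, hdvd, h0⟩ := exists_irr_ne_one_not_dvd_deg_ne_zero hg hp
  refine ⟨χ, hχ, hne, (irr_eq_zero_or_mem_charCenter hχ (irr_cast_deg hχ).symm g ?_).resolve_left h0⟩
  rw [hclass]
  exact Nat.Coprime.pow_right _ ((Nat.Prime.coprime_iff_not_dvd hp).2 hdvd).symm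

/-- A finite simple group with a nontrivial centre has prime order. -/
theorem card_prime_of_simple_of_mem_center [Finite G] [IsSimpleGroup G] {g : G} (hg : g ≠ 1)
    (hz : g ∈ Subgroup.center G) : (Nat.card G).Prime := by
  have h : Subgroup.center G = ⊤ :=
    (Subgroup.Normal.eq_bot_or_eq_top (H := Subgroup.center G) inferInstance).resolve_left
      fun h => hg (by rwa [h, Subgroup.mem_bot] at hz)
  have hc : ∀ a b : G, a * b = b * a := fun a b =>
    Subgroup.mem_center_iff.1 (h ▸ Subgroup.mem_top b) a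
  let _ : CommGroup G := { (inferInstance : Group G) with mul_comm := hc }
  exact IsSimpleGroup.prime_card

/-- Burnside: a finite simple group with a nontrivial class of prime power size has prime
order. -/
theorem card_prime_of_simple_of_class_prime_pow [Finite G] [IsSimpleGroup G] {p k : ℕ}
    (hp : p.Prime) {g : G} (hg : g ≠ 1)
    (hclass : (Subgroup.centralizer ({g} : Set G)).index = p ^ k) : (Nat.card G).Prime := by
  obtain ⟨χ, hχ, hne, hz⟩ := exists_irr_ne_one_mem_charCenter hg hp hclass
  rw [irr_charCenter_eq_center hχ (irr_charKer_eq_bot_of_simple hχ hne)] at hz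
  exact card_prime_of_simple_of_mem_center hg hz

/-- A nontrivial finite group whose order has at most two prime divisors has a nontrivial element
whose class has prime power size. -/
theorem exists_class_prime_pow_of_card_dvd [Finite G] [Nontrivial G] {p q a b : ℕ} (hp : p.Prime)
    (hq : q.Prime) (h : Nat.card G ∣ p ^ a * q ^ b) :
    ∃ (g : G) (r k : ℕ), g ≠ 1 ∧ r.Prime ∧ (Subgroup.centralizer ({g} : Set G)).index = r ^ k := by
  have key : ∀ {p q a b : ℕ}, p.Prime → q.Prime → Nat.card G ∣ p ^ a * q ^ b → p ∣ Nat.card G →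
      ∃ (g : G) (r k : ℕ), g ≠ 1 ∧ r.Prime ∧
        (Subgroup.centralizer ({g} : Set G)).index = r ^ k := by
    intro p q a b hp hq h hpG
    have := Fact.mk hp
    obtain ⟨P⟩ : Nonempty (Sylow p G) := inferInstance
    have hP : Nontrivial P := by
      rw [Subgroup.nontrivial_iff_ne_bot]
      exact P.ne_bot_of_dvd_card hpG
    have hZ : Nontrivial (Subgroup.center P) := P.isPGroup'.center_nontrivial
    obtain ⟨⟨z, hz⟩, hz1⟩ := exists_ne (1 : Subgroup.center P)
    have hle : (P : Subgroup G) ≤ Subgroup.centralizer ({(z : G)} : Set G) := fun x hx => by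
      rw [Subgroup.mem_centralizer_singleton_iff]
      exact congrArg Subtype.val (Subgroup.mem_center_iff.1 hz ⟨x, hx⟩)
    have hdvd : (Subgroup.centralizer ({(z : G)} : Set G)).index ∣ (P : Subgroup G).index :=
      Subgroup.index_dvd_of_le hle
    have hcop : Nat.Coprime (P : Subgroup G).index (p ^ a) :=
      Nat.Coprime.pow_right _ ((Nat.Prime.coprime_iff_not_dvd hp).2 P.not_dvd_index).symm
    have h2 : (P : Subgroup G).index ∣ q ^ b :=
      hcop.dvd_of_dvd_mul_left ((Subgroup.index_dvd_card _).trans h)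
    obtain ⟨k, -, hk⟩ := (Nat.dvd_prime_pow hq).1 (hdvd.trans h2)
    exact ⟨z, q, k, fun h1 => hz1 (Subtype.ext (Subtype.ext h1)), hq, hk⟩
  obtain ⟨r, hr, hrG⟩ := Nat.exists_prime_and_dvd (Finite.one_lt_card (α := G)).ne'
  rcases (Nat.Prime.dvd_mul hr).1 (hrG.trans h) with h1 | h1
  · obtain rfl := (Nat.prime_dvd_prime_iff_eq hr hp).1 (hr.dvd_of_dvd_pow h1)
    exact key hp hq h hrG
  · obtain rfl := (Nat.prime_dvd_prime_iff_eq hr hq).1 (hr.dvd_of_dvd_pow h1)
    exact key hq hp (mul_comm (p ^ a) _ ▸ h) hrG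

universe u in
theorem isSolvable_of_card_dvd_aux {p q a b : ℕ} (hp : p.Prime) (hq : q.Prime) (n : ℕ) :
    ∀ (G : Type u) [Group G] [Finite G], Nat.card G = n → Nat.card G ∣ p ^ a * q ^ b →
      Group.IsSolvable G := by
  induction n using Nat.strong_induction_on with
  | _ n ih =>
    intro G _ _ hn h
    rcases subsingleton_or_nontrivial G with hG | hG
    · infer_instance
    by_cases hs : IsSimpleGroup G
    · obtain ⟨g, r, k, hg, hr, hk⟩ := exists_class_prime_pow_of_card_dvd hp hq h
      have := Fact.mk (card_prime_of_simple_of_class_prime_pow hr hg hk)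
      have : IsCyclic G := isCyclic_of_prime_card rfl
      exact Group.isSolvable_of_comm fun a b => (IsCyclic.isMulCommutative (α := G)).is_comm.comm a b
    · obtain ⟨N, hN, hbot, htop⟩ : ∃ N : Subgroup G, N.Normal ∧ N ≠ ⊥ ∧ N ≠ ⊤ := by
        by_contra hcon
        push Not at hcon
        exact hs ⟨fun N hN => or_iff_not_imp_left.2 (hcon N hN)⟩
      have h1 : Group.IsSolvable N :=
        ih _ (hn ▸ (Subgroup.card_le_card_group N).lt_of_ne
          fun h => htop (Subgroup.card_eq_iff_eq_top N |>.1 h)) N rfl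
          ((Subgroup.card_subgroup_dvd_card N).trans h)
      have hlt : Nat.card (G ⧸ N) < Nat.card G := by
        rw [Subgroup.card_eq_card_quotient_mul_card_subgroup N]
        exact lt_mul_of_one_lt_right Nat.card_pos ((Subgroup.one_lt_card_iff_ne_bot N).2 hbot)
      have h2 : Group.IsSolvable (G ⧸ N) :=
        ih _ (hn ▸ hlt) (G ⧸ N) rfl ((Subgroup.card_quotient_dvd_card N).trans h)
      exact Group.isSolvable_of_ker_le_range N.subtype (QuotientGroup.mk' N) (by simp)

/-- Burnside's `p ^ a * q ^ b` theorem (divisibility form). -/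
theorem isSolvable_of_card_dvd [Finite G] {p q a b : ℕ} (hp : p.Prime) (hq : q.Prime)
    (h : Nat.card G ∣ p ^ a * q ^ b) : Group.IsSolvable G :=
  isSolvable_of_card_dvd_aux hp hq _ G rfl h

/-- Burnside's `p ^ a * q ^ b` theorem. -/
theorem isSolvable_of_card_eq [Finite G] {p q a b : ℕ} (hp : p.Prime) (hq : q.Prime)
    (h : Nat.card G = p ^ a * q ^ b) : Group.IsSolvable G :=
  isSolvable_of_card_dvd hp hq h.dvd

/-- Burnside's theorem: if every prime divisor of the order is `p` or `q` the group is solvable. -/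
theorem isSolvable_of_forall_prime_dvd [Finite G] {p q : ℕ} (hp : p.Prime) (hq : q.Prime)
    (h : ∀ r : ℕ, r.Prime → r ∣ Nat.card G → r = p ∨ r = q) : Group.IsSolvable G := by
  have hG : Nat.card G ≠ 0 := Nat.card_pos.ne'
  refine isSolvable_of_card_dvd (a := (Nat.card G).factorization p)
    (b := (Nat.card G).factorization q) hp hq ?_
  rw [← Nat.factorization_le_iff_dvd hG (mul_ne_zero (pow_ne_zero _ hp.ne_zero)
    (pow_ne_zero _ hq.ne_zero)), Nat.factorization_mul (pow_ne_zero _ hp.ne_zero)
    (pow_ne_zero _ hq.ne_zero), hp.factorization_pow, hq.factorization_pow]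
  intro r
  by_cases hr : r.Prime ∧ r ∣ Nat.card G
  · rcases h r hr.1 hr.2 with rfl | rfl <;> simp
  · have : (Nat.card G).factorization r = 0 := by
      rw [Nat.factorization_eq_zero_iff]; tauto
    simp [this]

end CL.Char
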