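import Cfsg.Agent.Base
import Cfsg.Agent.Char.AutC
import Cfsg.Agent.Char.Burnside

/-!
Galois conjugates of characters.  Everything is stated for an arbitrary ring endomorphism `τ` of
`ℂ` (`RingHomClass`), so it applies to `ℂ →+* ℂ`, `ℂ ≃+* ℂ` and `ℂ ≃ₐ[ℚ] ℂ` alike.
-/

set_option autoImplicit false

open Module Cfsg
open scoped ComplexConjugate

namespace CL.Char

variable {G : Type*} [Group G]

section Map

variable {F : Type*} [FunLike F ℂ ℂ] [RingHomClass F ℂ ℂ]

/-- Apply a ring homomorphism to the matrix entries of a representation on a coordinate space. -/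
noncomputable def repMap {K L : Type*} [Field K] [Field L] (τ : K →+* L) {n : Type*} [Fintype n]
    [DecidableEq n] (ρ : Representation K G (n → K)) : Representation L G (n → L) :=
  (Matrix.toLinAlgEquiv' (R := L) (n := n)).toMonoidHom.comp
    ((RingHom.mapMatrix τ).toMonoidHom.comp
      ((LinearMap.toMatrixAlgEquiv' (R := K) (n := n)).toMonoidHom.comp ρ))

theorem repMap_apply {K L : Type*} [Field K] [Field L] (τ : K →+* L) {n : Type*} [Fintype n]
    [DecidableEq n] (ρ : Representation K G (n → K)) (g : G) :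
    repMap τ ρ g = Matrix.toLin' ((LinearMap.toMatrix' (ρ g)).map τ) := rfl

theorem character_repMap {K L : Type*} [Field K] [Field L] (τ : K →+* L) {n : Type*} [Fintype n]
    [DecidableEq n] (ρ : Representation K G (n → K)) (g : G) :
    (repMap τ ρ).character g = τ (ρ.character g) := by
  rw [Representation.character, repMap_apply, Matrix.trace_toLin'_eq, ← AddMonoidHom.map_trace,
    Representation.character, ← Matrix.trace_toLin'_eq, Matrix.toLin'_toMatrix']

/-- A Galois conjugate of a character is a character. -/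
theorem char_map (τ : F) {χ : G → ℂ} (hχ : IsCharacter G χ) :
    IsCharacter G (fun g => τ (χ g)) := by
  obtain ⟨n, ρ, rfl⟩ := hχ
  exact ⟨n, repMap (τ : ℂ →+* ℂ) ρ, funext fun g => character_repMap _ ρ g⟩

theorem gen_map (τ : F) {χ : G → ℂ} (hχ : IsGeneralizedCharacter G χ) :
    IsGeneralizedCharacter G (fun g => τ (χ g)) := by
  obtain ⟨φ, ψ, hφ, hψ, rfl⟩ := hχ
  exact ⟨_, _, char_map τ hφ, char_map τ hψ, funext fun g => by simp⟩

theorem gen_map_apply_one (τ : F) {χ : G → ℂ} (hχ : IsGeneralizedCharacter G χ) :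
    τ (χ 1) = χ 1 := by
  obtain ⟨n, hn⟩ := gen_apply_one hχ
  rw [hn, map_intCast]

theorem char_map_apply_one (τ : F) {χ : G → ℂ} (hχ : IsCharacter G χ) : τ (χ 1) = χ 1 :=
  gen_map_apply_one τ (gen_of_char hχ)

theorem extendByZero_map (τ : F) (H : Subgroup G) (θ : H → ℂ) (g : G) :
    extendByZero H (fun h => τ (θ h)) g = τ (extendByZero H θ g) := by
  unfold extendByZero
  by_cases hg : g ∈ H
  · have h1 := Subtype.val_injective.extend_apply (fun h : H => τ (θ h)) 0 ⟨g, hg⟩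
    have h2 := Subtype.val_injective.extend_apply θ 0 ⟨g, hg⟩
    exact h1.trans (congrArg τ h2).symm
  · have h : ¬ ∃ a : H, (a : G) = g := fun ⟨a, ha⟩ => hg (ha ▸ a.2)
    rw [Function.extend_apply' _ _ _ h, Function.extend_apply' _ _ _ h]
    simp

/-- Induction commutes with ring endomorphisms of `ℂ`. -/
theorem indFun_map [Fintype G] (τ : F) (H : Subgroup G) (θ : H → ℂ) :
    indFun H (fun h => τ (θ h)) = fun g => τ (indFun H θ g) := by
  ext g
  simp only [indFun, extendByZero_map, map_mul, map_inv₀, map_natCast, map_sum]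

variable [Finite G]

/-- If `τ` raises the `orderOf g`-th roots of unity to the `k`-th power then
`τ (χ g) = χ (g ^ k)`. -/
theorem char_map_apply_eq_pow (τ : F) {χ : G → ℂ} (hχ : IsCharacter G χ) {g : G} {k : ℕ}
    (h : ∀ z : ℂ, z ^ orderOf g = 1 → τ z = z ^ k) : τ (χ g) = χ (g ^ k) := by
  obtain ⟨n, ρ, rfl⟩ := hχ
  obtain ⟨l, hl, h1, -⟩ := exists_char_eq_sum_pow ρ g
  have h2 := h1 1
  rw [pow_one] at h2
  rw [h2, h1, map_sum]
  exact Finset.sum_congr rfl fun i _ => by rw [pow_one, h _ (hl i)]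

theorem gen_map_apply_eq_pow (τ : F) {χ : G → ℂ} (hχ : IsGeneralizedCharacter G χ) {g : G}
    {k : ℕ} (h : ∀ z : ℂ, z ^ orderOf g = 1 → τ z = z ^ k) : τ (χ g) = χ (g ^ k) := by
  obtain ⟨φ, ψ, hφ, hψ, rfl⟩ := hχ
  simp only [Pi.sub_apply, map_sub, char_map_apply_eq_pow τ hφ h, char_map_apply_eq_pow τ hψ h]

/-- Variant with any multiple `n` of the order of `g`. -/
theorem gen_map_apply_eq_pow_of_dvd (τ : F) {χ : G → ℂ} (hχ : IsGeneralizedCharacter G χ) {g : G}
    {n k : ℕ} (hg : orderOf g ∣ n) (h : ∀ z : ℂ, z ^ n = 1 → τ z = z ^ k) :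
    τ (χ g) = χ (g ^ k) :=
  gen_map_apply_eq_pow τ hχ fun z hz => h z (by
    obtain ⟨m, rfl⟩ := hg; rw [pow_mul, hz, one_pow])

/-- If `τ` fixes the `n`-th roots of unity, it fixes `χ g` for `g` of order dividing `n`. -/
theorem gen_map_apply_eq_self_of_dvd (τ : F) {χ : G → ℂ} (hχ : IsGeneralizedCharacter G χ)
    {g : G} {n : ℕ} (hg : orderOf g ∣ n) (h : ∀ z : ℂ, z ^ n = 1 → τ z = z) : τ (χ g) = χ g := by
  have := gen_map_apply_eq_pow_of_dvd τ hχ hg (k := 1) (by simpa using h)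
  rwa [pow_one] at this

/-- Every `τ` acts on all generalized characters as a power map `g ↦ g ^ k`. -/
theorem exists_coprime_gen_map_eq_pow (τ : F) {n : ℕ} (hn : n ≠ 0) :
    ∃ k : ℕ, Nat.Coprime k n ∧ (∀ z : ℂ, z ^ n = 1 → τ z = z ^ k) ∧
      ∀ χ : G → ℂ, IsGeneralizedCharacter G χ → ∀ g : G, orderOf g ∣ n → τ (χ g) = χ (g ^ k) := by
  obtain ⟨k, hk, h⟩ := exists_pow_of_ringHom (τ : ℂ →+* ℂ) hn
  exact ⟨k, hk, h, fun χ hχ g hg => gen_map_apply_eq_pow_of_dvd τ hχ hg h⟩

/-- `τ` commutes with complex conjugation on values of generalized characters. -/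
theorem gen_map_conj (τ : F) {χ : G → ℂ} (hχ : IsGeneralizedCharacter G χ) (g : G) :
    τ (conj (χ g)) = conj (τ (χ g)) := by
  rw [← gen_apply_inv hχ, ← gen_apply_inv (gen_map τ hχ)]

omit [Finite G] in
theorem classInner_map [Fintype G] (τ : F) (φ : G → ℂ) {ψ : G → ℂ}
    (hψ : IsGeneralizedCharacter G ψ) :
    classInner (fun g => τ (φ g)) (fun g => τ (ψ g)) = τ (classInner φ ψ) := by
  simp only [classInner_def, map_mul, map_inv₀, map_natCast, map_sum, gen_map_conj τ hψ]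

omit [Finite G] in
/-- Galois conjugation preserves inner products of generalized characters. -/
theorem gen_classInner_map [Fintype G] (τ : F) {φ ψ : G → ℂ} (hφ : IsGeneralizedCharacter G φ)
    (hψ : IsGeneralizedCharacter G ψ) :
    classInner (fun g => τ (φ g)) (fun g => τ (ψ g)) = classInner φ ψ := by
  obtain ⟨n, hn⟩ := gen_inner_int hφ hψ
  rw [classInner_map τ φ hψ, hn, map_intCast]

/-- A Galois conjugate of an irreducible character is irreducible. -/
theorem irr_map (τ : F) {χ : G → ℂ} (hχ : IsIrrCharacter G χ) :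
    IsIrrCharacter G (fun g => τ (χ g)) := by
  have := Fintype.ofFinite G
  refine irr_of_char_norm_one (char_map τ (irr_isCharacter hχ)) ?_
  rw [gen_classInner_map τ (gen_of_irr hχ) (gen_of_irr hχ), irr_inner_self hχ]

omit [Finite G] in
theorem map_comp_injective {X : Type*} (τ : F) {φ ψ : X → ℂ}
    (h : (fun g => τ (φ g)) = fun g => τ (ψ g)) : φ = ψ :=
  funext fun g => (τ : ℂ →+* ℂ).injective (congrFun h g)

omit [Finite G] in
theorem map_comp_eq_one_iff {X : Type*} (τ : F) {φ : X → ℂ} :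
    ((fun g => τ (φ g)) = fun _ => 1) ↔ φ = fun _ => 1 :=
  ⟨fun h => map_comp_injective τ (by simpa using h), by rintro rfl; simp⟩

omit [Finite G] in
theorem charKer_map (τ : F) (χ : G → ℂ) : charKer (fun g => τ (χ g)) = charKer χ := by
  ext x
  exact forall_congr' fun y => (τ : ℂ →+* ℂ).injective.eq_iff

/-- The permutation of the irreducible characters induced by an automorphism of `ℂ`. -/
def irrMapEquiv (G : Type*) [Group G] [Finite G] (τ : ℂ ≃+* ℂ) :
    IrrCharacter G ≃ IrrCharacter G where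
  toFun χ := ⟨fun g => τ (χ.1 g), irr_map τ χ.2⟩
  invFun χ := ⟨fun g => τ.symm (χ.1 g), irr_map τ.symm χ.2⟩
  left_inv χ := Subtype.ext (funext fun g => by simp)
  right_inv χ := Subtype.ext (funext fun g => by simp)

theorem irrMapEquiv_apply (τ : ℂ ≃+* ℂ) (χ : IrrCharacter G) (g : G) :
    (irrMapEquiv G τ χ : G → ℂ) g = τ ((χ : G → ℂ) g) := rfl

end Map

section Pow

variable [Finite G]

/-- For `k` coprime to `n` there is an automorphism `τ` of `ℂ` with `τ (χ g) = χ (g ^ k)` for all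
generalized characters `χ` and all `g` of order dividing `n`. -/
theorem exists_ringEquiv_gen_eq_pow {n k : ℕ} (hn : n ≠ 0) (hk : Nat.Coprime k n) :
    ∃ τ : ℂ ≃+* ℂ, (∀ z : ℂ, z ^ n = 1 → τ z = z ^ k) ∧
      ∀ χ : G → ℂ, IsGeneralizedCharacter G χ → ∀ g : G, orderOf g ∣ n → τ (χ g) = χ (g ^ k) := by
  obtain ⟨τ, h⟩ := exists_ringEquiv_pow hn hk
  exact ⟨τ, h, fun χ hχ g hg => gen_map_apply_eq_pow_of_dvd τ hχ hg h⟩

theorem char_pow_of_coprime {χ : G → ℂ} (hχ : IsCharacter G χ) {k : ℕ}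
    (hk : Nat.Coprime k (Nat.card G)) : IsCharacter G (fun g => χ (g ^ k)) := by
  obtain ⟨τ, -, h⟩ := exists_ringEquiv_gen_eq_pow (G := G) Nat.card_pos.ne' hk
  rw [← funext fun g => h χ (gen_of_char hχ) g (orderOf_dvd_natCard g)]
  exact char_map τ hχ

theorem irr_pow_of_coprime {χ : G → ℂ} (hχ : IsIrrCharacter G χ) {k : ℕ}
    (hk : Nat.Coprime k (Nat.card G)) : IsIrrCharacter G (fun g => χ (g ^ k)) := by
  obtain ⟨τ, -, h⟩ := exists_ringEquiv_gen_eq_pow (G := G) Nat.card_pos.ne' hk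
  rw [← funext fun g => h χ (gen_of_irr hχ) g (orderOf_dvd_natCard g)]
  exact irr_map τ hχ

theorem gen_pow_of_coprime {χ : G → ℂ} (hχ : IsGeneralizedCharacter G χ) {k : ℕ}
    (hk : Nat.Coprime k (Nat.card G)) : IsGeneralizedCharacter G (fun g => χ (g ^ k)) := by
  obtain ⟨τ, -, h⟩ := exists_ringEquiv_gen_eq_pow (G := G) Nat.card_pos.ne' hk
  rw [← funext fun g => h χ hχ g (orderOf_dvd_natCard g)]
  exact gen_map τ hχ

/-- For coprime `a`, `b` and `k` coprime to `a` there is an automorphism `τ` of `ℂ` with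
`τ (χ g) = χ (g ^ k)` if the order of `g` divides `a` and `τ (χ g) = χ g` if it divides `b`. -/
theorem exists_ringEquiv_gen_of_coprime {a b k : ℕ} (ha : a ≠ 0) (hb : b ≠ 0)
    (hab : Nat.Coprime a b) (hk : Nat.Coprime k a) :
    ∃ τ : ℂ ≃+* ℂ, (∀ z : ℂ, z ^ a = 1 → τ z = z ^ k) ∧ (∀ z : ℂ, z ^ b = 1 → τ z = z) ∧
      ∀ χ : G → ℂ, IsGeneralizedCharacter G χ →
        (∀ g : G, orderOf g ∣ a → τ (χ g) = χ (g ^ k)) ∧
        (∀ g : G, orderOf g ∣ b → τ (χ g) = χ g) := by
  obtain ⟨τ, h1, h2⟩ := exists_ringEquiv_pow_of_coprime ha hb hab hk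
  exact ⟨τ, h1, h2, fun χ hχ => ⟨fun g hg => gen_map_apply_eq_pow_of_dvd τ hχ hg h1,
    fun g hg => gen_map_apply_eq_self_of_dvd τ hχ hg h2⟩⟩

/-- A rational value of a generalized character is an integer. -/
theorem gen_exists_int_of_rat {χ : G → ℂ} (hχ : IsGeneralizedCharacter G χ) {g : G}
    (h : ∃ q : ℚ, χ g = q) : ∃ z : ℤ, χ g = z :=
  exists_int_of_isIntegral_of_rat (gen_isIntegral hχ g) h

/-- If `χ` takes the same value at all generators of `⟨g⟩`, then `χ g` is an integer. -/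
theorem gen_exists_int_of_forall_pow {χ : G → ℂ} (hχ : IsGeneralizedCharacter G χ) {g : G}
    {n : ℕ} (hn : n ≠ 0) (hg : orderOf g ∣ n)
    (h : ∀ k : ℕ, Nat.Coprime k n → χ (g ^ k) = χ g) : ∃ z : ℤ, χ g = z := by
  refine exists_int_of_forall_ringEquiv (gen_isIntegral hχ g) fun τ => ?_
  obtain ⟨k, hk, -, h1⟩ := exists_coprime_gen_map_eq_pow (G := G) τ hn
  rw [h1 χ hχ g hg, h k hk]

/-- If `g` is conjugate to all generators of `⟨g⟩`, then `χ g` is an integer. -/
theorem gen_exists_int_of_forall_isConj {χ : G → ℂ} (hχ : IsGeneralizedCharacter G χ) {g : G}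
    (h : ∀ k : ℕ, Nat.Coprime k (orderOf g) → IsConj g (g ^ k)) : ∃ z : ℤ, χ g = z :=
  gen_exists_int_of_forall_pow hχ (orderOf_pos g).ne' dvd_rfl fun k hk =>
    (classFun_eq_of_isConj (gen_isClassFunction hχ) (h k hk)).symm

/-- The value of a generalized character at an element with `g ^ 2 = 1` is an integer. -/
theorem gen_exists_int_of_sq_eq_one {χ : G → ℂ} (hχ : IsGeneralizedCharacter G χ) {g : G}
    (hg : g ^ 2 = 1) : ∃ z : ℤ, χ g = z :=
  gen_exists_int_of_forall_pow hχ two_ne_zero (orderOf_dvd_of_pow_eq_one hg) fun k hk => by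
    obtain ⟨m, rfl⟩ := Nat.coprime_two_right.1 hk
    rw [pow_succ, pow_mul, hg, one_pow, one_mul]

/-- If `χ g` is rational then `χ` takes the same value at all generators of `⟨g⟩`. -/
theorem gen_pow_eq_of_rat {χ : G → ℂ} (hχ : IsGeneralizedCharacter G χ) {g : G}
    (h : ∃ q : ℚ, χ g = q) {k : ℕ} (hk : Nat.Coprime k (orderOf g)) : χ (g ^ k) = χ g := by
  obtain ⟨τ, -, h1⟩ := exists_ringEquiv_gen_eq_pow (G := G) (orderOf_pos g).ne' hk
  obtain ⟨q, hq⟩ := h
  rw [← h1 χ hχ g dvd_rfl, hq, map_ratCast]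

/-- `χ` vanishes at `g` if and only if it vanishes at another generator of `⟨g⟩`. -/
theorem gen_pow_eq_zero_iff {χ : G → ℂ} (hχ : IsGeneralizedCharacter G χ) {g : G}
    {k : ℕ} (hk : Nat.Coprime k (orderOf g)) : χ (g ^ k) = 0 ↔ χ g = 0 := by
  obtain ⟨τ, -, h1⟩ := exists_ringEquiv_gen_eq_pow (G := G) (orderOf_pos g).ne' hk
  rw [← h1 χ hχ g dvd_rfl, map_eq_zero]

/-- All irreducible characters are rational at `g` iff `g` is conjugate to all generators of
`⟨g⟩`. -/
theorem forall_irr_rat_iff (g : G) :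
    (∀ χ : IrrCharacter G, ∃ q : ℚ, (χ : G → ℂ) g = q) ↔
      ∀ k : ℕ, Nat.Coprime k (orderOf g) → IsConj g (g ^ k) := by
  constructor
  · intro h k hk
    rw [isConj_iff_irr]
    exact fun χ => (gen_pow_eq_of_rat (gen_of_irr χ.2) (h χ) hk).symm
  · intro h χ
    obtain ⟨z, hz⟩ := gen_exists_int_of_forall_isConj (gen_of_irr χ.2) h
    exact ⟨z, by rw [hz]; simp⟩

end Pow

end CL.Char
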