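import Cfsg.Agent.Base
import Cfsg.Agent.Char.Induce

/-!
# More on induction: transport along surjections, coset formulas, permutation characters, Mackey
-/

set_option autoImplicit false
open scoped ComplexConjugate
open Cfsg

namespace CL.Char

variable {G : Type*} [Group G]

/-- Summing a function that factors through a surjective homomorphism. -/
theorem sum_comp_of_surjective {Q : Type*} [Group Q] [Fintype G] [Fintype Q] (f : G →* Q)
    (hf : Function.Surjective f) (F : Q → ℂ) :
    ∑ x : G, F (f x) = (Nat.card f.ker : ℂ) * ∑ y : Q, F y := by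
  classical
  rw [← Finset.sum_fiberwise (s := Finset.univ) (g := f), Finset.mul_sum]
  refine Finset.sum_congr rfl fun y _ => ?_
  obtain ⟨x₀, rfl⟩ := hf y
  rw [Finset.sum_congr rfl (g := fun _ => F (f x₀))
    (fun x hx => by rw [(Finset.mem_filter.1 hx).2]), Finset.sum_const, nsmul_eq_mul]
  congr 2
  rw [← Nat.card_eq_finsetCard]
  refine Nat.card_congr ?_
  refine ⟨fun x => ⟨x₀⁻¹ * x.1, ?_⟩, fun k => ⟨x₀ * k.1, ?_⟩, ?_, ?_⟩
  · have := (Finset.mem_filter.1 x.2).2
    simp [MonoidHom.mem_ker, this]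
  · have : f k.1 = 1 := k.2
    simp [this]
  · intro x; simp
  · intro k; simp

/-- Induction commutes with pulling back along a surjective homomorphism (isomorphisms,
inflation from a quotient). -/
theorem indFun_comp_of_surjective {Q : Type*} [Group Q] [Fintype G] [Fintype Q] (f : G →* Q)
    (hf : Function.Surjective f) (H : Subgroup G) (H' : Subgroup Q)
    (hH : ∀ g : G, g ∈ H ↔ f g ∈ H') (θ : H → ℂ) (θ' : H' → ℂ)
    (hθ : ∀ h : H, θ' ⟨f h, (hH h).1 h.2⟩ = θ h) (g : G) :
    indFun H' θ' (f g) = indFun H θ g := by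
  have hext : ∀ y : G, extendByZero H θ y = extendByZero H' θ' (f y) := by
    intro y
    by_cases hy : y ∈ H
    · rw [extendByZero_of_mem _ _ hy, extendByZero_of_mem _ _ ((hH y).1 hy), ← hθ]
    · rw [extendByZero_of_not_mem _ _ hy,
        extendByZero_of_not_mem _ _ (fun h => hy ((hH y).2 h))]
  have hcard : Nat.card H = Nat.card f.ker * Nat.card H' := by
    have h1 : H = H'.comap f := by ext g; simp [hH]
    have h2 : H.index = H'.index := by rw [h1]; exact Subgroup.index_comap_of_surjective _ hf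
    have h3 : Nat.card G = Nat.card f.ker * Nat.card Q := by
      rw [← f.ker.card_mul_index, Subgroup.index_ker, MonoidHom.range_eq_top.2 hf,
        Subgroup.card_top]
    have h4 := H.card_mul_index
    have h5 := H'.card_mul_index
    have h6 : H'.index ≠ 0 := Subgroup.index_ne_zero_of_finite
    apply Nat.eq_of_mul_eq_mul_right (Nat.pos_of_ne_zero h6)
    rw [mul_assoc, h5, ← h3, ← h2, h4]
  rw [indFun_apply, indFun_apply]
  simp only [hext, map_mul, map_inv]
  rw [sum_comp_of_surjective f hf (fun y => extendByZero H' θ' (y⁻¹ * f g * y)), hcard]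
  have := natCard_cast_ne_zero f.ker
  have := natCard_cast_ne_zero H'
  push_cast
  field_simp

/-- Induction commutes with group isomorphisms. -/
theorem indFun_comp_mulEquiv {Q : Type*} [Group Q] [Fintype G] [Fintype Q] (e : G ≃* Q)
    (H : Subgroup G) (H' : Subgroup Q) (hH : ∀ g : G, g ∈ H ↔ e g ∈ H') (θ : H → ℂ)
    (θ' : H' → ℂ) (hθ : ∀ h : H, θ' ⟨e h, (hH h).1 h.2⟩ = θ h) (g : G) :
    indFun H' θ' (e g) = indFun H θ g :=
  indFun_comp_of_surjective e.toMonoidHom e.surjective H H' hH θ θ' hθ g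

/-- Induction from the preimage of a subgroup along a surjection. -/
theorem indFun_comap {Q : Type*} [Group Q] [Fintype G] [Fintype Q] (f : G →* Q)
    (hf : Function.Surjective f) (H' : Subgroup Q) (θ' : H' → ℂ) (g : G) :
    indFun (H'.comap f) (fun h => θ' ⟨f h, h.2⟩) g = indFun H' θ' (f g) :=
  (indFun_comp_of_surjective f hf (H'.comap f) H' (fun _ => Iff.rfl) _ θ' (fun _ => rfl) g).symm

/-- Induction commutes with inflation from `G ⧸ A` (for `A ≤ H`). -/
theorem indFun_quotient [Fintype G] (A H : Subgroup G) [A.Normal] (hAH : A ≤ H)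
    [Fintype (G ⧸ A)] (θ : H → ℂ) (θ₁ : ↥(H.map (QuotientGroup.mk' A)) → ℂ)
    (hθ : ∀ x : H, θ₁ ⟨QuotientGroup.mk' A x, Subgroup.mem_map_of_mem _ x.2⟩ = θ x) (g : G) :
    indFun (H.map (QuotientGroup.mk' A)) θ₁ (QuotientGroup.mk' A g) = indFun H θ g := by
  refine indFun_comp_of_surjective (QuotientGroup.mk' A) (QuotientGroup.mk'_surjective A) H _
    (fun g => ?_) θ θ₁ hθ g
  rw [← Subgroup.mem_comap, Subgroup.comap_map_eq_self (by simpa using hAH)]

/-- Inducing from a conjugate subgroup the conjugate function gives the same function. -/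
theorem indFun_conj_subgroup [Fintype G] (H H' : Subgroup G) (x : G)
    (hH : ∀ g : G, g ∈ H ↔ x * g * x⁻¹ ∈ H') (θ : H → ℂ) (θ' : H' → ℂ)
    (hθ : ∀ h : H, θ' ⟨x * h * x⁻¹, (hH h).1 h.2⟩ = θ h) :
    indFun H' θ' = indFun H θ := by
  funext g
  have := indFun_comp_mulEquiv (MulAut.conj x) H H' hH θ θ' hθ g
  rw [← this, MulAut.conj_apply, indFun_isClassFunction]

/-- Induction only depends on the subgroup up to (propositional) equality. -/
theorem indFun_congr [Fintype G] {H H' : Subgroup G} (hH : H = H') (θ : H → ℂ) (θ' : H' → ℂ)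
    (hθ : ∀ h : H, θ' ⟨h, hH ▸ h.2⟩ = θ h) : indFun H' θ' = indFun H θ := by
  subst hH
  congr 1
  funext h
  exact hθ h

/-! ### Coset formulas -/

/-- Summing a function that is constant on left cosets of `H`. -/
theorem sum_eq_card_mul_sum_of_bijective [Fintype G] (H : Subgroup G) {ι : Type*} [Fintype ι]
    (t : ι → G) (ht : Function.Bijective (fun i => (t i : G ⧸ H))) (F : G → ℂ)
    (hF : ∀ x : G, ∀ h ∈ H, F (x * h) = F x) :
    ∑ x : G, F x = (Nat.card H : ℂ) * ∑ i, F (t i) := by
  classical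
  have hb : Function.Bijective (fun p : ι × H => t p.1 * p.2) := by
    constructor
    · rintro ⟨i, a⟩ ⟨j, b⟩ hab
      simp only at hab
      have hij : i = j := by
        apply ht.1
        have : ((t i * a : G) : G ⧸ H) = ((t j * b : G) : G ⧸ H) := by rw [hab]
        simpa using this
      subst hij
      have : a = b := Subtype.ext (mul_left_cancel hab)
      rw [this]
    · intro x
      obtain ⟨i, hi⟩ := ht.2 (x : G ⧸ H)
      exact ⟨⟨i, ⟨(t i)⁻¹ * x, QuotientGroup.eq.1 hi⟩⟩, by simp⟩
  rw [← hb.sum_comp F, Fintype.sum_prod_type, Finset.mul_sum]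
  refine Finset.sum_congr rfl fun i _ => ?_
  simp only [hF _ _ (Subtype.property _), Finset.sum_const, Finset.card_univ, nsmul_eq_mul,
    Nat.card_eq_fintype_card]

/-- The transversal formula for the function induced from a class function. -/
theorem indFun_eq_sum_transversal [Fintype G] (H : Subgroup G) {ι : Type*} [Fintype ι]
    (t : ι → G) (ht : Function.Bijective (fun i => (t i : G ⧸ H))) {θ : H → ℂ}
    (hθ : IsClassFunction H θ) (g : G) :
    indFun H θ g = ∑ i, extendByZero H θ ((t i)⁻¹ * g * t i) := by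
  rw [indFun_apply, sum_eq_card_mul_sum_of_bijective H t ht
    (fun x => extendByZero H θ (x⁻¹ * g * x))]
  · have := natCard_cast_ne_zero H
    field_simp
  · intro x h hh
    rw [← extendByZero_conj_mem' H hθ hh (x⁻¹ * g * x)]
    congr 1
    group

/-- The coset formula for the function induced from a class function. -/
theorem indFun_eq_sum_quotient [Fintype G] (H : Subgroup G) [Fintype (G ⧸ H)] {θ : H → ℂ}
    (hθ : IsClassFunction H θ) (g : G) :
    indFun H θ g = ∑ q : G ⧸ H, extendByZero H θ (q.out⁻¹ * g * q.out) :=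
  indFun_eq_sum_transversal H (fun q : G ⧸ H => q.out) (by simp) hθ g

/-- For a complement `K` of `H` (every element is uniquely `k * h`), the elements of `K` form a
transversal. -/
theorem indFun_eq_sum_of_isComplement' [Fintype G] (H K : Subgroup G) [Fintype K]
    (hKH : K.IsComplement' H) {θ : H → ℂ} (hθ : IsClassFunction H θ) (g : G) :
    indFun H θ g = ∑ k : K, extendByZero H θ ((k : G)⁻¹ * g * k) :=
  indFun_eq_sum_transversal H (fun k : K => (k : G))
    (Subgroup.isComplement_subgroup_right_iff_bijective.1 hKH) hθ g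

/-! ### Permutation characters -/

/-- `|H| · Ind 1 (g)` counts the `x` with `x⁻¹ g x ∈ H`. -/
theorem card_mul_indFun_one [Fintype G] (H : Subgroup G) (g : G) :
    (Nat.card H : ℂ) * indFun H (fun _ => 1) g = Nat.card {x : G // x⁻¹ * g * x ∈ H} := by
  classical
  rw [indFun_apply, ← mul_assoc, mul_inv_cancel₀ (natCard_cast_ne_zero H), one_mul]
  simp only [extendByZero_apply, dite_eq_ite, Finset.sum_boole, Nat.card_eq_fintype_card,
    Fintype.card_subtype]

/-- The permutation character of a transitive action is induced from a point stabiliser. -/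
theorem card_fixedBy_eq_indFun [Fintype G] (X : Type*) [MulAction G X]
    [MulAction.IsPretransitive G X] (x : X) (g : G) :
    (Nat.card (MulAction.fixedBy X g) : ℂ) =
      indFun (MulAction.stabilizer G x) (fun _ => 1) g := by
  classical
  set S := MulAction.stabilizer G x with hS
  have hX : Finite X := Finite.of_surjective (fun a : G => a • x)
    (fun y => MulAction.exists_smul_eq G x y)
  apply mul_left_cancel₀ (natCard_cast_ne_zero S)
  rw [card_mul_indFun_one]
  norm_cast
  rw [← Nat.card_prod]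
  choose t ht using fun y : X => MulAction.exists_smul_eq G x y
  refine Nat.card_congr ?_
  refine ⟨fun p => ⟨t p.2 * p.1, ?_⟩, fun a => ⟨⟨(t (a.1 • x))⁻¹ * a.1, ?_⟩, ⟨a.1 • x, ?_⟩⟩, ?_, ?_⟩
  · have h1 : (p.1 : G) • x = x := p.1.2
    have h2 : g • (p.2 : X) = p.2 := p.2.2
    refine MulAction.mem_stabilizer_iff.2 ?_
    rw [mul_smul, mul_smul, mul_smul, h1, ht, h2, inv_smul_eq_iff, mul_smul, h1, ht]
  · refine MulAction.mem_stabilizer_iff.2 ?_
    rw [mul_smul, inv_smul_eq_iff, ht]
  · have := MulAction.mem_stabilizer_iff.1 a.2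
    rw [mul_smul, mul_smul, inv_smul_eq_iff] at this
    exact this
  · rintro ⟨s, y⟩
    have h1 : (s : G) • x = x := s.2
    have h2 : (t y * s) • x = y := by rw [mul_smul, h1, ht]
    ext
    · simp only [h2]; simp
    · simp only [h2]
  · intro a; simp

/-- The function induced from the trivial character is the permutation character on cosets. -/
theorem indFun_one_eq_card_fixedBy [Fintype G] (H : Subgroup G) (g : G) :
    indFun H (fun _ => 1) g = (Nat.card (MulAction.fixedBy (G ⧸ H) g) : ℂ) := by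
  rw [card_fixedBy_eq_indFun (G ⧸ H) ((1 : G) : G ⧸ H)]
  exact congrFun (indFun_congr (MulAction.stabilizer_quotient H) _ _ (fun _ => rfl)) g

/-! ### Mackey's formula -/

/-- The subgroup `K ∩ d H d⁻¹` of `K`. -/
def mackeySub (H K : Subgroup G) (d : G) : Subgroup K :=
  (H.comap (MulAut.conj d⁻¹).toMonoidHom).subgroupOf K

theorem mem_mackeySub {H K : Subgroup G} {d : G} {k : K} :
    k ∈ mackeySub H K d ↔ d⁻¹ * k * d ∈ H := by
  simp [mackeySub, Subgroup.mem_subgroupOf]

/-- The conjugate-restricted function on `K ∩ d H d⁻¹`. -/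
def mackeyFun (H K : Subgroup G) (d : G) (θ : H → ℂ) : mackeySub H K d → ℂ :=
  fun x => θ ⟨d⁻¹ * (x : K) * d, mem_mackeySub.1 x.2⟩

/-- The inclusion-conjugation homomorphism `K ∩ d H d⁻¹ → H`. -/
def mackeyHom (H K : Subgroup G) (d : G) : mackeySub H K d →* H where
  toFun x := ⟨d⁻¹ * (x : K) * d, mem_mackeySub.1 x.2⟩
  map_one' := by ext; simp
  map_mul' x y := by ext; simp [mul_assoc]

theorem mackeyFun_eq_comp (H K : Subgroup G) (d : G) (θ : H → ℂ) :
    mackeyFun H K d θ = fun x => θ (mackeyHom H K d x) := rfl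

theorem extendByZero_mackeyFun (H K : Subgroup G) (d : G) (θ : H → ℂ) (k : K) :
    extendByZero (mackeySub H K d) (mackeyFun H K d θ) k = extendByZero H θ (d⁻¹ * k * d) := by
  by_cases hk : k ∈ mackeySub H K d
  · rw [extendByZero_of_mem _ _ hk, extendByZero_of_mem _ _ (mem_mackeySub.1 hk)]; rfl
  · rw [extendByZero_of_not_mem _ _ hk,
      extendByZero_of_not_mem _ _ (fun h => hk (mem_mackeySub.2 h))]

/-- Mackey's formula, averaged over all of `G` (no class-function hypothesis). -/
theorem indFun_res_eq_sum_mackey [Fintype G] (H K : Subgroup G) [Fintype K] (θ : H → ℂ) (k : K) :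
    indFun H θ k = ((Nat.card H : ℂ) * Nat.card K)⁻¹ * ∑ d : G,
      (Nat.card (mackeySub H K d) : ℂ) * indFun (mackeySub H K d) (mackeyFun H K d θ) k := by
  have h1 : ∀ d : G, (Nat.card (mackeySub H K d) : ℂ) *
      indFun (mackeySub H K d) (mackeyFun H K d θ) k =
      ∑ a : K, extendByZero H θ (((a : G) * d)⁻¹ * k * (a * d)) := by
    intro d
    rw [indFun_apply, ← mul_assoc, mul_inv_cancel₀ (natCard_cast_ne_zero _), one_mul]
    refine Finset.sum_congr rfl fun a _ => ?_
    rw [extendByZero_mackeyFun]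
    congr 1
    simp [mul_assoc]
  simp only [h1]
  rw [Finset.sum_comm]
  have h2 : ∀ a : K, ∑ d : G, extendByZero H θ (((a : G) * d)⁻¹ * k * (a * d)) =
      ∑ d : G, extendByZero H θ (d⁻¹ * k * d) :=
    fun a => Fintype.sum_equiv (Equiv.mulLeft (a : G)) _ _ (fun d => rfl)
  simp only [h2, Finset.sum_const, Finset.card_univ, nsmul_eq_mul]
  rw [indFun_apply, ← Nat.card_eq_fintype_card]
  have := natCard_cast_ne_zero K
  have := natCard_cast_ne_zero H
  field_simp

/-- Mackey's formula when `G = K H`: restriction to `K` of a function induced from `H` is induced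
from `H ∩ K`. -/
theorem indFun_res_of_mul_eq_top [Fintype G] (H K : Subgroup G) [Fintype K]
    (hKH : ∀ g : G, ∃ k ∈ K, ∃ h ∈ H, g = k * h) {θ : H → ℂ} (hθ : IsClassFunction H θ) (k : K) :
    indFun H θ k = indFun (H.subgroupOf K)
      (fun x => θ ⟨(x : K), Subgroup.mem_subgroupOf.mp x.2⟩) k := by
  classical
  set L := H.subgroupOf K with hL
  have hb : Function.Bijective (fun q : K ⧸ L => (((q.out : K) : G) : G ⧸ H)) := by
    constructor
    · intro p q hpq
      have : ((p.out : K) : G)⁻¹ * (q.out : K) ∈ H := QuotientGroup.eq.1 hpq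
      rw [← p.out_eq, ← q.out_eq]
      exact QuotientGroup.eq.2 (Subgroup.mem_subgroupOf.2 (by simpa using this))
    · intro q
      obtain ⟨a, ha, h, hh, hq⟩ := hKH q.out
      refine ⟨((⟨a, ha⟩ : K) : K ⧸ L), ?_⟩
      obtain ⟨l, hl⟩ := QuotientGroup.mk_out_eq_mul L (⟨a, ha⟩ : K)
      simp only
      rw [hl, ← q.out_eq', hq]
      have hl2 : ((l : K) : G) ∈ H := Subgroup.mem_subgroupOf.1 l.2
      simp [QuotientGroup.mk_mul_of_mem, hl2, hh]
  have hθ' : IsClassFunction L (fun x => θ ⟨(x : K), Subgroup.mem_subgroupOf.mp x.2⟩) :=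
    fun a b => hθ ⟨(a : K), Subgroup.mem_subgroupOf.mp a.2⟩ ⟨(b : K), Subgroup.mem_subgroupOf.mp b.2⟩
  rw [indFun_eq_sum_transversal H _ hb hθ, indFun_eq_sum_quotient L hθ']
  refine Finset.sum_congr rfl fun q _ => ?_
  by_cases hq : q.out⁻¹ * k * q.out ∈ L
  · rw [extendByZero_of_mem _ _ hq]
    exact extendByZero_of_mem _ _ (Subgroup.mem_subgroupOf.1 hq)
  · rw [extendByZero_of_not_mem _ _ hq]
    exact extendByZero_of_not_mem _ _ (fun h => hq (Subgroup.mem_subgroupOf.2 h))

theorem mackeyFun_isClassFunction (H K : Subgroup G) (d : G) {θ : H → ℂ}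
    (hθ : IsClassFunction H θ) : IsClassFunction (mackeySub H K d) (mackeyFun H K d θ) := by
  intro a b
  simp only [mackeyFun_eq_comp, map_mul, map_inv]
  exact hθ _ _

/-- Mackey's formula, summed over the double cosets `K \ G / H`. -/
theorem indFun_res_eq_sum_doubleCoset [Fintype G] (H K : Subgroup G) [Fintype K]
    [Fintype (DoubleCoset.Quotient (K : Set G) H)] {θ : H → ℂ} (hθ : IsClassFunction H θ)
    (k : K) :
    indFun H θ k = ∑ q : DoubleCoset.Quotient (K : Set G) H,
      indFun (mackeySub H K q.out) (mackeyFun H K q.out θ) k := by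
  classical
  have hb : Function.Bijective (fun p : (Σ q : DoubleCoset.Quotient (K : Set G) H,
      K ⧸ mackeySub H K q.out) => ((((p.2.out : K) : G) * p.1.out : G) : G ⧸ H)) := by
    constructor
    · rintro ⟨p, a⟩ ⟨q, b⟩ hpq
      have h1 : (((a.out : K) : G) * p.out)⁻¹ * ((b.out : K) * q.out) ∈ H := QuotientGroup.eq.1 hpq
      have h2 : p = q := by
        rw [← DoubleCoset.out_eq' K H p, ← DoubleCoset.out_eq' K H q, DoubleCoset.eq]
        refine ⟨((b.out : K) : G)⁻¹ * (a.out : K), K.mul_mem (K.inv_mem (b.out).2) (a.out).2,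
          _, h1, ?_⟩
        group
      subst h2
      have h3 : a = b := by
        rw [← a.out_eq, ← b.out_eq]
        refine QuotientGroup.eq.2 (mem_mackeySub.2 ?_)
        simpa [mul_assoc] using h1
      rw [h3]
    · intro q
      obtain ⟨a, h, ha, hh, hq⟩ := DoubleCoset.mk_out_eq_mul K H q.out
      refine ⟨⟨DoubleCoset.mk K H q.out, ((⟨a⁻¹, K.inv_mem ha⟩ : K) : K ⧸ _)⟩, ?_⟩
      obtain ⟨l, hl⟩ := QuotientGroup.mk_out_eq_mul
        (mackeySub H K (DoubleCoset.mk K H q.out).out) (⟨a⁻¹, K.inv_mem ha⟩ : K)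
      have hl2 := mem_mackeySub.1 l.2
      simp only
      rw [hl]
      conv_rhs => rw [← q.out_eq']
      refine QuotientGroup.eq.2 ?_
      have h4 := H.mul_mem (H.inv_mem hl2) (H.inv_mem hh)
      simp only [Subgroup.coe_mul]
      generalize ((l : K) : G) = l' at h4 ⊢
      rw [hq] at h4 ⊢
      convert h4 using 1
      group
  rw [indFun_eq_sum_transversal H _ hb hθ, Fintype.sum_sigma]
  refine Finset.sum_congr rfl fun q _ => ?_
  rw [indFun_eq_sum_quotient _ (mackeyFun_isClassFunction H K _ hθ)]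
  refine Finset.sum_congr rfl fun a _ => ?_
  rw [extendByZero_mackeyFun]
  congr 1
  simp [mul_assoc]

/-- Factorisation `G = K H` when `K ⊔ H = ⊤` with one of the two subgroups normal. -/
theorem exists_mul_of_sup_eq_top_of_normal_left (H K : Subgroup G) [K.Normal] (h : K ⊔ H = ⊤)
    (g : G) : ∃ k ∈ K, ∃ h ∈ H, g = k * h := by
  have : g ∈ ((K ⊔ H : Subgroup G) : Set G) := by rw [h]; trivial
  rw [Subgroup.normal_mul] at this
  obtain ⟨a, ha, b, hb, rfl⟩ := this
  exact ⟨a, ha, b, hb, rfl⟩

theorem exists_mul_of_sup_eq_top_of_normal_right (H K : Subgroup G) [H.Normal] (h : K ⊔ H = ⊤)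
    (g : G) : ∃ k ∈ K, ∃ h ∈ H, g = k * h := by
  have : g ∈ ((K ⊔ H : Subgroup G) : Set G) := by rw [h]; trivial
  rw [Subgroup.mul_normal] at this
  obtain ⟨a, ha, b, hb, rfl⟩ := this
  exact ⟨a, ha, b, hb, rfl⟩

end CL.Char
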