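import Cfsg.Agent.Char.Basic

/-!
# Linear characters

Homomorphisms `G →* ℂˣ` as the characters of degree one; duality for finite abelian groups.
-/

set_option autoImplicit false

namespace CL.Char

open Cfsg Module
open scoped ComplexConjugate

section General

variable {G : Type*} [Group G]

/-- A homomorphism to `ℂˣ` is an irreducible character. -/
theorem isIrrCharacter_linear (lam : G →* ℂˣ) : IsIrrCharacter G (fun g => (lam g : ℂ)) :=
  irr_unitsHom lam

theorem isCharacter_linear (lam : G →* ℂˣ) : IsCharacter G (fun g => (lam g : ℂ)) :=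
  char_unitsHom lam

/-- On a one-dimensional space, `ρ g` is the scalar given by the character. -/
theorem apply_eq_character_smul_of_finrank_eq_one {V : Type*} [AddCommGroup V] [Module ℂ V]
    (ρ : Representation ℂ G V) (h : finrank ℂ V = 1) (g : G) :
    ρ g = ρ.character g • LinearMap.id := by
  have : FiniteDimensional ℂ V := Module.finite_of_finrank_eq_succ h
  obtain ⟨c, hc⟩ := LinearMap.existsUnique_eq_smul_id_of_finrank_eq_one h (ρ g)
  have h1 : ρ.character g = c := by
    change LinearMap.trace ℂ V (ρ g) = c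
    rw [hc.1, map_smul, LinearMap.trace_id, h]
    simp
  rw [h1]
  exact hc.1

/-- The character of a one-dimensional representation is a homomorphism to `ℂˣ`. -/
theorem exists_linear_of_finrank_eq_one {V : Type*} [AddCommGroup V] [Module ℂ V]
    (ρ : Representation ℂ G V) (h : finrank ℂ V = 1) :
    ∃ lam : G →* ℂˣ, ρ.character = fun g => (lam g : ℂ) := by
  have : FiniteDimensional ℂ V := Module.finite_of_finrank_eq_succ h
  have hmul : ∀ g k : G, ρ.character (g * k) = ρ.character g * ρ.character k := by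
    intro g k
    change LinearMap.trace ℂ V (ρ (g * k)) = _
    rw [map_mul, apply_eq_character_smul_of_finrank_eq_one ρ h g, smul_mul_assoc, map_smul]
    rfl
  have hone : ρ.character 1 = 1 := by rw [ρ.char_one, h]; simp
  let f : G →* ℂ := { toFun := ρ.character, map_one' := hone, map_mul' := hmul }
  exact ⟨f.toHomUnits, by funext g; simp [f]⟩

/-- A character of degree one is a homomorphism to `ℂˣ`. -/
theorem exists_linear_of_isCharacter {χ : G → ℂ} (hχ : IsCharacter G χ) (h1 : χ 1 = 1) :
    ∃ lam : G →* ℂˣ, χ = fun g => (lam g : ℂ) := by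
  obtain ⟨n, ρ, rfl⟩ := hχ
  refine exists_linear_of_finrank_eq_one ρ ?_
  rw [ρ.char_one] at h1
  exact_mod_cast h1

theorem exists_linear_of_isIrrCharacter {χ : G → ℂ} (hχ : IsIrrCharacter G χ) (h1 : χ 1 = 1) :
    ∃ lam : G →* ℂˣ, χ = fun g => (lam g : ℂ) := by
  obtain ⟨n, ρ, -, h⟩ := hχ
  exact exists_linear_of_isCharacter ⟨n, ρ, h⟩ h1

/-- A character of degree one is irreducible. -/
theorem isIrrCharacter_of_apply_one {χ : G → ℂ} (hχ : IsCharacter G χ) (h1 : χ 1 = 1) :
    IsIrrCharacter G χ := by
  obtain ⟨lam, rfl⟩ := exists_linear_of_isCharacter hχ h1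
  exact isIrrCharacter_linear lam

/-- A character of degree one is multiplicative. -/
theorem map_mul_of_apply_one {χ : G → ℂ} (hχ : IsCharacter G χ) (h1 : χ 1 = 1) (g k : G) :
    χ (g * k) = χ g * χ k := by
  obtain ⟨lam, rfl⟩ := exists_linear_of_isCharacter hχ h1
  simp

theorem linear_injective :
    Function.Injective (fun (lam : G →* ℂˣ) => (fun g => (lam g : ℂ))) := by
  intro lam mu h
  ext g
  exact congrFun h g

theorem linear_inj {lam mu : G →* ℂˣ} :
    (fun g => (lam g : ℂ)) = (fun g => (mu g : ℂ)) ↔ lam = mu :=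
  linear_injective.eq_iff

/-- A homomorphism to `ℂˣ` as an element of `IrrCharacter G`. -/
noncomputable def linIrr (lam : G →* ℂˣ) : IrrCharacter G :=
  ⟨fun g => (lam g : ℂ), isIrrCharacter_linear lam⟩

theorem linIrr_apply (lam : G →* ℂˣ) (g : G) : (linIrr lam : G → ℂ) g = lam g := rfl

theorem linIrr_val (lam : G →* ℂˣ) : (linIrr lam : G → ℂ) = fun g => (lam g : ℂ) := rfl

theorem linIrr_injective : Function.Injective (linIrr : (G →* ℂˣ) → IrrCharacter G) :=
  fun _ _ h => linear_injective (congrArg Subtype.val h)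

/-- Homomorphisms to `ℂˣ` are the irreducible characters of degree one. -/
noncomputable def linIrrEquiv (G : Type*) [Group G] :
    (G →* ℂˣ) ≃ {χ : IrrCharacter G // (χ : G → ℂ) 1 = 1} :=
  Equiv.ofBijective (fun lam => ⟨linIrr lam, by simp [linIrr_apply]⟩) ⟨
    fun _ _ h => linIrr_injective (congrArg Subtype.val h), by
      rintro ⟨⟨χ, hχ⟩, h1⟩
      obtain ⟨lam, rfl⟩ := exists_linear_of_isIrrCharacter hχ h1
      exact ⟨lam, rfl⟩⟩

/-- The values of a linear character of a finite group have absolute value one. -/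
theorem norm_linear [Finite G] (lam : G →* ℂˣ) (g : G) : ‖(lam g : ℂ)‖ = 1 := by
  have h : (lam g : ℂ) ^ (Nat.card G) = 1 := by
    rw [← Units.val_pow_eq_pow_val, ← map_pow, pow_card_eq_one', map_one, Units.val_one]
  exact Complex.norm_eq_one_of_pow_eq_one h Nat.card_pos.ne'

theorem conj_linear [Finite G] (lam : G →* ℂˣ) (g : G) :
    conj (lam g : ℂ) = (lam g⁻¹ : ℂ) := by
  rw [map_inv, Units.val_inv_eq_inv_val, Complex.inv_eq_conj (norm_linear lam g)]

theorem conj_linear' [Finite G] (lam : G →* ℂˣ) (g : G) :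
    conj (lam g : ℂ) = (lam⁻¹ g : ℂ) := by
  rw [conj_linear, map_inv, MonoidHom.inv_apply]

theorem linear_mul_conj [Finite G] (lam : G →* ℂˣ) (g : G) :
    (lam g : ℂ) * conj (lam g : ℂ) = 1 := by
  rw [conj_linear, ← Units.val_mul, ← map_mul, mul_inv_cancel, map_one, Units.val_one]

theorem isClassFunction_linear (lam : G →* ℂˣ) : IsClassFunction G (fun g => (lam g : ℂ)) := by
  intro g h
  simp

/-- The sum of a non-trivial linear character over the group vanishes. -/
theorem sum_linear_eq_zero [Fintype G] {lam : G →* ℂˣ} (h : lam ≠ 1) :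
    ∑ g : G, (lam g : ℂ) = 0 := by
  have := sum_hom_units_eq_zero ((Units.coeHom ℂ).comp lam) (by
    intro h'
    apply h
    ext g
    simpa using DFunLike.congr_fun h' g)
  simpa using this

open Classical in
theorem sum_linear [Fintype G] (lam : G →* ℂˣ) :
    ∑ g : G, (lam g : ℂ) = if lam = 1 then (Nat.card G : ℂ) else 0 := by
  split_ifs with h
  · subst h; simp
  · exact sum_linear_eq_zero h

open Classical in
/-- Orthogonality of linear characters. -/
theorem classInner_linear [Fintype G] (lam mu : G →* ℂˣ) :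
    classInner (fun g => (lam g : ℂ)) (fun g => (mu g : ℂ)) = if lam = mu then 1 else 0 := by
  unfold classInner
  have h : ∀ g : G, (lam g : ℂ) * conj (mu g : ℂ) = ((lam * mu⁻¹) g : ℂ) := by
    intro g
    rw [conj_linear']
    simp
  simp_rw [h]
  rw [sum_linear]
  have hc : (Nat.card G : ℂ) ≠ 0 := Nat.cast_ne_zero.mpr Nat.card_pos.ne'
  have hiff : lam * mu⁻¹ = 1 ↔ lam = mu := mul_inv_eq_one (a := lam) (b := mu)
  by_cases hlm : lam = mu
  · rw [if_pos hlm, if_pos (hiff.mpr hlm), inv_mul_cancel₀ hc]
  · rw [if_neg hlm, if_neg (by rwa [hiff]), mul_zero]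

instance hasEnoughRootsOfUnity_exponent (A : Type*) [Group A] [Finite A] :
    HasEnoughRootsOfUnity ℂ (Monoid.exponent A) :=
  have : NeZero ((Monoid.exponent A : ℕ) : ℂ) :=
    ⟨Nat.cast_ne_zero.mpr Monoid.exponent_ne_zero_of_finite⟩
  inferInstance

/-- A linear character is trivial on the commutator subgroup. -/
theorem commutator_le_ker_linear (lam : G →* ℂˣ) : commutator G ≤ lam.ker :=
  Abelianization.commutator_subset_ker lam

/-- The number of linear characters is the index of the commutator subgroup. -/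
theorem card_linear (G : Type*) [Group G] [Finite G] :
    Nat.card (G →* ℂˣ) = (commutator G).index := by
  rw [Nat.card_congr (Abelianization.lift (G := G) (A := ℂˣ)),
    CommGroup.card_monoidHom_of_hasEnoughRootsOfUnity]
  rfl

instance finite_linear [Finite G] : Finite (G →* ℂˣ) :=
  Nat.finite_of_card_ne_zero (by rw [card_linear]; exact Subgroup.index_ne_zero_of_finite)

/-- An element outside the commutator subgroup is detected by a linear character. -/
theorem exists_linear_apply_ne_one [Finite G] {g : G} (hg : g ∉ commutator G) :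
    ∃ lam : G →* ℂˣ, lam g ≠ 1 := by
  have h : Abelianization.of g ≠ 1 := by
    intro h
    apply hg
    have : g ∈ (Abelianization.of (G := G)).ker := h
    rwa [Abelianization.ker_of] at this
  obtain ⟨φ, hφ⟩ := CommGroup.exists_apply_ne_one_of_hasEnoughRootsOfUnity (Abelianization G) ℂ h
  exact ⟨φ.comp Abelianization.of, hφ⟩

theorem mem_commutator_iff_linear [Finite G] {g : G} :
    g ∈ commutator G ↔ ∀ lam : G →* ℂˣ, lam g = 1 := by
  refine ⟨fun hg lam => commutator_le_ker_linear lam hg, fun h => ?_⟩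
  by_contra hg
  obtain ⟨lam, hlam⟩ := exists_linear_apply_ne_one hg
  exact hlam (h lam)

/-- If `N` contains the commutator subgroup and `g ∉ N`, some linear character is trivial on `N`
but not at `g`. -/
theorem exists_linear_trivial_on_apply_ne_one [Finite G] {N : Subgroup G} (hN : commutator G ≤ N)
    {g : G} (hg : g ∉ N) : ∃ lam : G →* ℂˣ, N ≤ lam.ker ∧ lam g ≠ 1 := by
  have h : Abelianization.of g ∉ N.map (Abelianization.of (G := G)) := by
    rintro ⟨x, hx, hxg⟩
    apply hg
    have : x⁻¹ * g ∈ (Abelianization.of (G := G)).ker := by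
      rw [MonoidHom.mem_ker, map_mul, map_inv, hxg, inv_mul_cancel]
    rw [Abelianization.ker_of] at this
    simpa using N.mul_mem hx (hN this)
  rw [← CommGroup.forall_monoidHom_apply_eq_one_iff ℂ] at h
  push Not at h
  obtain ⟨φ, h1, h2⟩ := h
  exact ⟨φ.comp Abelianization.of, fun x hx => h1 _ ⟨x, hx, rfl⟩, h2⟩

/-- A linear character of a subgroup `H` extends to `G` as soon as it is trivial on `H ∩ G'`. -/
theorem exists_linear_extend [Finite G] (H : Subgroup G) (lam : H →* ℂˣ)
    (h : ∀ x : H, (x : G) ∈ commutator G → lam x = 1) :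
    ∃ mu : G →* ℂˣ, ∀ x : H, mu x = lam x := by
  let f : H →* H.map (Abelianization.of (G := G)) := (Abelianization.of (G := G)).subgroupMap H
  have hf : Function.Surjective f := MonoidHom.subgroupMap_surjective _ _
  have hker : f.ker ≤ lam.ker := by
    intro x hx
    apply h
    have : Abelianization.of (x : G) = 1 := congrArg Subtype.val hx
    rw [← Abelianization.ker_of]
    exact this
  let lam' : H.map (Abelianization.of (G := G)) →* ℂˣ :=
    f.liftOfSurjective hf ⟨lam, hker⟩
  obtain ⟨φ, hφ⟩ := MonoidHom.domRestrict_surjective ℂ (H.map (Abelianization.of (G := G))) lam'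
  refine ⟨φ.comp Abelianization.of, fun x => ?_⟩
  have h1 : lam' (f x) = lam x := MonoidHom.liftOfRightInverse_comp_apply _ _ _ _ _
  rw [← h1, ← hφ]
  rfl

end General

section Abelian

variable {A : Type*} [Group A]

theorem commutator_eq_bot_of_comm (h : ∀ a b : A, a * b = b * a) : commutator A = ⊥ := by
  rw [commutator_eq_bot_iff_center_eq_top, eq_top_iff]
  intro a _
  rw [Subgroup.mem_center_iff]
  exact fun b => h b a

/-- Irreducible characters of an abelian group have degree one. -/
theorem apply_one_eq_one_of_comm (h : ∀ a b : A, a * b = b * a) {χ : A → ℂ}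
    (hχ : IsIrrCharacter A χ) : χ 1 = 1 := by
  obtain ⟨n, ρ, hρ, rfl⟩ := hχ
  have : IsMulCommutative A := ⟨⟨h⟩⟩
  rw [ρ.char_one, Representation.IsIrreducible.finrank_eq_one_of_isMulCommutative ρ]
  simp

/-- The irreducible characters of an abelian group are the homomorphisms to `ℂˣ`. -/
theorem isIrrCharacter_iff_linear_of_comm (h : ∀ a b : A, a * b = b * a) {χ : A → ℂ} :
    IsIrrCharacter A χ ↔ ∃ lam : A →* ℂˣ, χ = fun g => (lam g : ℂ) :=
  ⟨fun hχ => exists_linear_of_isIrrCharacter hχ (apply_one_eq_one_of_comm h hχ),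
    fun ⟨lam, hl⟩ => hl ▸ isIrrCharacter_linear lam⟩

theorem linIrr_bijective_of_comm (h : ∀ a b : A, a * b = b * a) :
    Function.Bijective (linIrr : (A →* ℂˣ) → IrrCharacter A) :=
  ⟨linIrr_injective, fun ⟨χ, hχ⟩ => by
    obtain ⟨lam, rfl⟩ := (isIrrCharacter_iff_linear_of_comm h).mp hχ
    exact ⟨lam, rfl⟩⟩

theorem card_linear_of_comm [Finite A] (h : ∀ a b : A, a * b = b * a) :
    Nat.card (A →* ℂˣ) = Nat.card A := by
  rw [card_linear, commutator_eq_bot_of_comm h, Subgroup.index_bot]

theorem card_irr_of_comm [Finite A] (h : ∀ a b : A, a * b = b * a) :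
    Nat.card (IrrCharacter A) = Nat.card A := by
  rw [← card_linear_of_comm h]
  exact (Nat.card_eq_of_bijective _ (linIrr_bijective_of_comm h)).symm

theorem exists_linear_apply_ne_one_of_comm [Finite A] (h : ∀ a b : A, a * b = b * a) {a : A}
    (ha : a ≠ 1) : ∃ lam : A →* ℂˣ, lam a ≠ 1 :=
  exists_linear_apply_ne_one (by rw [commutator_eq_bot_of_comm h]; simpa using ha)

/-- Linear characters of subgroups of an abelian group extend. -/
theorem exists_linear_extend_of_comm [Finite A] (h : ∀ a b : A, a * b = b * a) (H : Subgroup A)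
    (lam : H →* ℂˣ) : ∃ mu : A →* ℂˣ, ∀ x : H, mu x = lam x :=
  exists_linear_extend H lam fun x hx => by
    rw [commutator_eq_bot_of_comm h, Subgroup.mem_bot] at hx
    have : x = 1 := Subtype.ext hx
    rw [this, map_one]

end Abelian

section Dual

variable {G : Type*} [Group G] [Finite G]

open Classical in
/-- Second orthogonality for linear characters: the sum over all linear characters. -/
theorem sum_over_linear [Fintype (G →* ℂˣ)] (g : G) :
    ∑ lam : G →* ℂˣ, (lam g : ℂ) =
      if g ∈ commutator G then ((commutator G).index : ℂ) else 0 := by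
  let ev : (G →* ℂˣ) →* ℂˣ := MonoidHom.eval g
  have h := sum_linear ev
  have h' : ∑ lam : G →* ℂˣ, (lam g : ℂ) = ∑ lam : G →* ℂˣ, (ev lam : ℂ) := rfl
  rw [h', h, card_linear]
  have : ev = 1 ↔ g ∈ commutator G := by
    rw [mem_commutator_iff_linear]
    exact ⟨fun h lam => DFunLike.congr_fun h lam, fun h => MonoidHom.ext h⟩
  simp only [this]

open Classical in
theorem sum_over_linear_of_comm [Fintype (G →* ℂˣ)] (h : ∀ a b : G, a * b = b * a) (g : G) :
    ∑ lam : G →* ℂˣ, (lam g : ℂ) = if g = 1 then (Nat.card G : ℂ) else 0 := by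
  rw [sum_over_linear, commutator_eq_bot_of_comm h, Subgroup.index_bot]
  simp only [Subgroup.mem_bot]

end Dual

/-- Fourier inversion on a finite abelian group. -/
theorem eq_sum_linear_of_comm {A : Type*} [Group A] [Fintype A] [Fintype (A →* ℂˣ)]
    (h : ∀ a b : A, a * b = b * a) (f : A → ℂ) :
    f = ∑ lam : A →* ℂˣ, classInner f (fun g => (lam g : ℂ)) • fun g => (lam g : ℂ) := by
  classical
  funext a
  have hc : (Nat.card A : ℂ) ≠ 0 := Nat.cast_ne_zero.mpr Nat.card_pos.ne'
  simp only [Finset.sum_apply, Pi.smul_apply, smul_eq_mul, classInner]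
  have key : ∀ lam : A →* ℂˣ,
      ((Nat.card A : ℂ)⁻¹ * ∑ g : A, f g * conj (lam g : ℂ)) * (lam a : ℂ) =
        (Nat.card A : ℂ)⁻¹ * ∑ g : A, f g * (lam (g⁻¹ * a) : ℂ) := by
    intro lam
    rw [mul_assoc, Finset.sum_mul]
    congr 1
    refine Finset.sum_congr rfl fun g _ => ?_
    rw [conj_linear, map_mul, Units.val_mul, mul_assoc]
  simp_rw [key]
  rw [← Finset.mul_sum, Finset.sum_comm]
  simp_rw [← Finset.mul_sum, sum_over_linear_of_comm h, inv_mul_eq_one]
  simp
  field_simp

end CL.Char
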