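import Cfsg.Agent.Base
import Cfsg.Agent.Char.Orth
import Cfsg.Agent.Char.InduceMore

/-!
# Induction of characters and generalized characters; constituents
-/

set_option autoImplicit false
open scoped ComplexConjugate
open Cfsg

namespace CL.Char

variable {G : Type*} [Group G] [Fintype G]

/-- An induced character is a character. -/
theorem char_indFun (H : Subgroup G) {θ : H → ℂ} (hθ : IsCharacter H θ) :
    IsCharacter G (indFun H θ) := by
  have : Fintype H := Fintype.ofFinite H
  refine char_of_inner_nat (indFun_isClassFunction H θ) fun χ hχ => ?_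
  rw [classInner_indFun_left H θ (irr_isClassFunction hχ)]
  exact char_inner_nat hθ (char_restrict (irr_isCharacter hχ) H)

/-- An induced generalized character is a generalized character. -/
theorem gen_indFun (H : Subgroup G) {θ : H → ℂ} (hθ : IsGeneralizedCharacter H θ) :
    IsGeneralizedCharacter G (indFun H θ) := by
  obtain ⟨χ, ψ, hχ, hψ, rfl⟩ := hθ
  exact ⟨_, _, char_indFun H hχ, char_indFun H hψ, indFun_sub H χ ψ⟩

theorem char_indFun_one (H : Subgroup G) : IsCharacter G (indFun H (fun _ => 1)) :=
  char_indFun H char_one

theorem indFun_ne_zero (H : Subgroup G) {θ : H → ℂ} (hθ : θ 1 ≠ 0) : indFun H θ ≠ 0 := by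
  intro h
  have := congrFun h 1
  rw [indFun_one] at this
  exact mul_ne_zero (Nat.cast_ne_zero.2 Subgroup.index_ne_zero_of_finite) hθ this

theorem deg_indFun (H : Subgroup G) {θ : H → ℂ} (hθ : IsCharacter H θ) :
    deg (indFun H θ) = H.index * deg θ := by
  apply deg_eq_of_apply_one
  rw [indFun_one, Nat.cast_mul, char_cast_deg hθ]

/-- If a sum of two inner products of characters vanishes then both vanish. -/
theorem char_inner_add_eq_zero {α β γ : G → ℂ} (hα : IsCharacter G α) (hβ : IsCharacter G β)
    (hγ : IsCharacter G γ) (h : classInner (α + β) γ = 0) :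
    classInner α γ = 0 ∧ classInner β γ = 0 := by
  obtain ⟨n, hn⟩ := char_inner_nat hα hγ
  obtain ⟨m, hm⟩ := char_inner_nat hβ hγ
  rw [classInner_add_left, hn, hm] at h
  have : n + m = 0 := by exact_mod_cast h
  rw [hn, hm]
  constructor
  · exact_mod_cast (by omega : n = 0)
  · exact_mod_cast (by omega : m = 0)

/-- Characters with a common irreducible constituent are not orthogonal. -/
theorem char_inner_ne_zero_of_common {α β χ : G → ℂ} (hα : IsCharacter G α) (hβ : IsCharacter G β)
    (hχ : IsIrrCharacter G χ) (h1 : classInner α χ ≠ 0) (h2 : classInner β χ ≠ 0) :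
    classInner α β ≠ 0 := by
  intro h
  have h3 : α = χ + (α - χ) := by abel
  rw [h3] at h
  have := (char_inner_add_eq_zero (irr_isCharacter hχ) (char_sub_irr hα hχ h1) hβ h).1
  exact h2 (classInner_eq_zero_comm.1 this)

/-- A constituent of a character pairs with any character at most as much as the whole. -/
theorem char_inner_le_of_constituent {α χ γ : G → ℂ} (hα : IsCharacter G α)
    (hχ : IsIrrCharacter G χ) (hγ : IsCharacter G γ) (h1 : classInner α χ ≠ 0) :
    (classInner χ γ).re ≤ (classInner α γ).re := by
  have h3 : α = χ + (α - χ) := by abel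
  have := char_inner_re_nonneg (char_sub_irr hα hχ h1) hγ
  rw [h3, classInner_add_left, Complex.add_re]
  linarith

/-- Every irreducible character of a subgroup lies under an irreducible character of the group. -/
theorem exists_irr_over (H : Subgroup G) [Fintype H] {θ : H → ℂ} (hθ : IsIrrCharacter H θ) :
    ∃ χ, IsIrrCharacter G χ ∧ classInner (fun h : H => χ h) θ ≠ 0 := by
  obtain ⟨χ, hχ, h⟩ := char_exists_irr_constituent (char_indFun H (irr_isCharacter hθ))
    (indFun_ne_zero H (irr_apply_one_ne_zero hθ))
  refine ⟨χ, hχ, fun h0 => h ?_⟩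
  rw [classInner_indFun_left H θ (irr_isClassFunction hχ), classInner_eq_zero_comm, h0]

omit [Fintype G] in
/-- Every irreducible character of the group lies over an irreducible character of a subgroup. -/
theorem exists_irr_under (H : Subgroup G) [Fintype H] {χ : G → ℂ} (hχ : IsIrrCharacter G χ) :
    ∃ θ, IsIrrCharacter H θ ∧ classInner (fun h : H => χ h) θ ≠ 0 := by
  refine char_exists_irr_constituent (char_restrict (irr_isCharacter hχ) H) (fun h => ?_)
  exact irr_apply_one_ne_zero hχ (congrFun h 1)

/-- If the induced character is irreducible, so is the original character. -/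
theorem irr_of_irr_indFun (H : Subgroup G) {θ : H → ℂ} (hθ : IsCharacter H θ)
    (h : IsIrrCharacter G (indFun H θ)) : IsIrrCharacter H θ := by
  have : Fintype H := Fintype.ofFinite H
  have hθ0 : θ ≠ 0 := by
    rintro rfl
    exact irr_ne_zero h (indFun_zero H)
  obtain ⟨φ, hφ, hφθ⟩ := char_exists_irr_constituent hθ hθ0
  have hd := char_sub_irr hθ hφ hφθ
  by_contra hne
  have hd0 : (θ - φ) 1 ≠ 0 := fun h0 => by
    have := char_eq_zero_of_apply_one hd h0
    exact hne (sub_eq_zero.1 this ▸ hφ)
  have h1 : indFun H θ = indFun H φ + indFun H (θ - φ) := by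
    rw [← indFun_add]; congr 1; abel
  have ha := char_indFun H (irr_isCharacter hφ)
  have hb := char_indFun H hd
  obtain ⟨a, ha'⟩ := char_inner_nat ha ha
  obtain ⟨b, hb'⟩ := char_inner_nat hb hb
  obtain ⟨c, hc'⟩ := char_inner_nat ha hb
  obtain ⟨d, hd'⟩ := char_inner_nat hb ha
  have h2 := irr_inner_self h
  rw [h1, classInner_add_left, classInner_add_right, classInner_add_right, ha', hb', hc', hd'] at h2
  have h3 : a + c + (d + b) = 1 := by exact_mod_cast h2
  have ha0 : a ≠ 0 := by
    rintro rfl
    exact indFun_ne_zero H (irr_apply_one_ne_zero hφ) (classInner_self_eq_zero.1 (by simpa using ha'))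
  have hb0 : b ≠ 0 := by
    rintro rfl
    exact indFun_ne_zero H hd0 (classInner_self_eq_zero.1 (by simpa using hb'))
  omega

/-- An irreducible character of `G` that is a constituent of an irreducible induced character
equals it. -/
theorem eq_indFun_of_inner_ne_zero (H : Subgroup G) [Fintype H] {θ : H → ℂ} {χ : G → ℂ}
    (hχ : IsIrrCharacter G χ) (hi : IsIrrCharacter G (indFun H θ))
    (h : classInner (fun x : H => χ x) θ ≠ 0) : χ = indFun H θ := by
  refine irr_eq_of_inner_ne_zero hχ hi ?_
  rwa [classInner_indFun_right H θ (irr_isClassFunction hχ)]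

/-- The regular character is induced from the trivial subgroup. -/
theorem indFun_bot_one : indFun (⊥ : Subgroup G) (fun _ => 1) = regChar G := by
  classical
  funext g
  rw [indFun_bot_apply]
  by_cases hg : g = 1
  · simp [hg, regChar_one]
  · simp [hg, regChar_of_ne hg]

/-- The character induced from the regular character of a subgroup is the regular character. -/
theorem indFun_regChar (H : Subgroup G) : indFun H (regChar H) = regChar G := by
  funext g
  by_cases hg : g = 1
  · rw [hg, indFun_one, regChar_one, regChar_one, ← H.card_mul_index]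
    push_cast; ring
  · rw [regChar_of_ne hg]
    refine indFun_eq_zero_of_forall H _ (fun x hx => regChar_of_ne (fun h => hg ?_))
    have : x * g * x⁻¹ = 1 := congrArg Subtype.val h
    simpa [mul_inv_eq_one] using this

end CL.Char
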