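import Cfsg.Agent.Base
import Cfsg.Agent.Char.Induce

/-!
# Induction from trivial-intersection subsets: values and the isometry property
-/

set_option autoImplicit false
open scoped ComplexConjugate
open Cfsg

namespace CL.Char

variable {G : Type*} [Group G] [Fintype G]

/-- If a class function `θ` of `L` vanishes at all conjugates of `l` by elements outside `L`, then
the induced function agrees with `θ` at `l`. -/
theorem indFun_apply_eq_of_forall_not_mem (L : Subgroup G) {θ : L → ℂ} (hθ : IsClassFunction L θ)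
    (l : L) (hl : ∀ g : G, g ∉ L → ∀ h : g * l * g⁻¹ ∈ L, θ ⟨g * l * g⁻¹, h⟩ = 0) :
    indFun L θ l = θ l := by
  classical
  have : Fintype L := Fintype.ofFinite L
  rw [indFun_apply']
  have h1 : ∀ x : G, extendByZero L θ (x * l * x⁻¹) = extendByZero L (fun _ => θ l) x := by
    intro x
    by_cases hx : x ∈ L
    · rw [extendByZero_conj_mem L hθ hx, extendByZero_coe, extendByZero_of_mem _ _ hx]
    · rw [extendByZero_of_not_mem _ _ hx]
      by_cases h : x * l * x⁻¹ ∈ L
      · rw [extendByZero_of_mem _ _ h, hl x hx h]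
      · exact extendByZero_of_not_mem _ _ h
  simp only [h1, sum_extendByZero, Finset.sum_const, Finset.card_univ, nsmul_eq_mul]
  rw [← Nat.card_eq_fintype_card]
  have := natCard_cast_ne_zero L
  field_simp

/-- Values of an induced function on a TI-subset `T` relative to `L` (no normaliser hypothesis is
needed): `T` meets its conjugates by elements outside `L` at most in the identity. -/
theorem indFun_apply_of_TI (L : Subgroup G) (T : Set G)
    (hTI : ∀ g : G, g ∉ L → ∀ t ∈ T, g * t * g⁻¹ ∈ T → t = 1) {θ : L → ℂ}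
    (hθ : IsClassFunction L θ) (hθT : ∀ x : L, (x : G) ∉ T → θ x = 0) (t : L) (htT : (t : G) ∈ T)
    (ht1 : t ≠ 1) : indFun L θ t = θ t := by
  refine indFun_apply_eq_of_forall_not_mem L hθ t (fun g hg h => hθT _ (fun hT => ht1 ?_))
  exact Subtype.ext (hTI g hg t htT hT)

/-- The TI isometry: `⟨Ind ψ, Ind θ⟩ = ⟨ψ, θ⟩` when both vanish off `T` and `ψ 1 = 0`. -/
theorem classInner_indFun_of_TI (L : Subgroup G) [Fintype L] (T : Set G)
    (hTI : ∀ g : G, g ∉ L → ∀ t ∈ T, g * t * g⁻¹ ∈ T → t = 1) {ψ θ : L → ℂ}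
    (hθ : IsClassFunction L θ) (hψT : ∀ x : L, (x : G) ∉ T → ψ x = 0)
    (hθT : ∀ x : L, (x : G) ∉ T → θ x = 0) (hψ1 : ψ 1 = 0) :
    classInner (indFun L ψ) (indFun L θ) = classInner ψ θ := by
  rw [classInner_indFun_left L ψ (indFun_isClassFunction L θ)]
  unfold classInner
  congr 1
  refine Finset.sum_congr rfl fun l _ => ?_
  by_cases hl : (l : G) ∈ T
  · by_cases hl1 : l = 1
    · rw [hl1, hψ1, zero_mul, zero_mul]
    · simp only [indFun_apply_of_TI L T hTI hθ hθT l hl hl1]
  · rw [hψT l hl, zero_mul, zero_mul]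

/-- The TI isometry, with the vanishing at `1` on the right. -/
theorem classInner_indFun_of_TI' (L : Subgroup G) [Fintype L] (T : Set G)
    (hTI : ∀ g : G, g ∉ L → ∀ t ∈ T, g * t * g⁻¹ ∈ T → t = 1) {ψ θ : L → ℂ}
    (hψ : IsClassFunction L ψ) (hψT : ∀ x : L, (x : G) ∉ T → ψ x = 0)
    (hθT : ∀ x : L, (x : G) ∉ T → θ x = 0) (hθ1 : θ 1 = 0) :
    classInner (indFun L ψ) (indFun L θ) = classInner ψ θ := by
  rw [classInner_indFun_right L θ (indFun_isClassFunction L ψ)]
  unfold classInner
  congr 1
  refine Finset.sum_congr rfl fun l _ => ?_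
  by_cases hl : (l : G) ∈ T
  · by_cases hl1 : l = 1
    · rw [hl1, hθ1, map_zero, mul_zero, mul_zero]
    · simp only [indFun_apply_of_TI L T hTI hψ hψT l hl hl1]
  · rw [hθT l hl, map_zero, mul_zero, mul_zero]

/-- A function induced from a function supported in `T` vanishes off the conjugates of `T`. -/
theorem indFun_eq_zero_of_not_conj_mem (L : Subgroup G) (T : Set G) {θ : L → ℂ}
    (hθT : ∀ x : L, (x : G) ∉ T → θ x = 0) {g : G} (hg : ∀ x : G, x * g * x⁻¹ ∉ T) :
    indFun L θ g = 0 :=
  indFun_eq_zero_of_forall L θ (fun x _ => hθT _ (hg x))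

/-- A function induced from one vanishing at `1` vanishes at `1`. -/
theorem indFun_one_eq_zero (L : Subgroup G) {θ : L → ℂ} (hθ1 : θ 1 = 0) : indFun L θ 1 = 0 := by
  rw [indFun_one, hθ1, mul_zero]

/-- The inner product of an induced function with the principal character. -/
theorem classInner_indFun_one (L : Subgroup G) [Fintype L] (θ : L → ℂ) :
    classInner (indFun L θ) (fun _ => 1) = classInner θ (fun _ => 1) :=
  classInner_indFun_left L θ (χ := fun _ => 1) (fun _ _ => rfl)

end CL.Char
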