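import Cfsg.Agent.Base
import Cfsg.Agent.Char.InduceChar
import Cfsg.Agent.Char.TI

/-!
# Generalized characters of small norm and exceptional characters
-/

set_option autoImplicit false
open scoped ComplexConjugate
open Cfsg

namespace CL.Char

variable {G : Type*} [Group G] [Fintype G]

/-- Splitting off one irreducible constituent of a nonzero generalized character. -/
theorem gen_exists_split {ψ : G → ℂ} (h : IsGeneralizedCharacter G ψ) (h0 : ψ ≠ 0) :
    ∃ (c : ℤ) (χ : G → ℂ), c ≠ 0 ∧ IsIrrCharacter G χ ∧ classInner ψ χ = c ∧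
      classInner (ψ - (c : ℂ) • χ) χ = 0 ∧
      classInner (ψ - (c : ℂ) • χ) (ψ - (c : ℂ) • χ) = classInner ψ ψ - (c : ℂ) ^ 2 := by
  obtain ⟨χ, hχ, h1⟩ := exists_irr_inner_ne_zero (gen_isClassFunction h) h0
  obtain ⟨c, hc⟩ := gen_inner_int h (gen_of_irr hχ)
  have hc' : classInner χ ψ = c := by rw [gen_inner_comm (gen_of_irr hχ) h, hc]
  refine ⟨c, χ, fun h2 => h1 (by rw [hc, h2, Int.cast_zero]), hχ, hc, ?_, ?_⟩
  · rw [classInner_sub_left, classInner_smul_left, irr_inner_self hχ, hc]; ring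
  · rw [classInner_sub_left, classInner_sub_right, classInner_sub_right, classInner_smul_left,
      classInner_smul_right, classInner_smul_left, classInner_smul_right, irr_inner_self hχ, hc, hc']
    simp only [map_intCast]; ring

/-- A generalized character of norm `n + 1 ≤ 3` splits as a signed irreducible character plus an
orthogonal generalized character of norm `n`. -/
theorem gen_exists_split_of_le_three {ψ : G → ℂ} (h : IsGeneralizedCharacter G ψ) {n : ℕ}
    (hn : n ≤ 2) (h1 : classInner ψ ψ = (n + 1 : ℕ)) :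
    ∃ (ε : ℤ) (χ : G → ℂ), (ε = 1 ∨ ε = -1) ∧ IsIrrCharacter G χ ∧ classInner ψ χ = ε ∧
      classInner (ψ - (ε : ℂ) • χ) χ = 0 ∧
      classInner (ψ - (ε : ℂ) • χ) (ψ - (ε : ℂ) • χ) = n := by
  have h0 : ψ ≠ 0 := by
    rintro rfl
    rw [classInner_zero_left] at h1
    exact absurd h1 (by exact_mod_cast (Nat.succ_ne_zero n).symm)
  obtain ⟨c, χ, hc, hχ, h2, h3, h4⟩ := gen_exists_split h h0
  obtain ⟨m, hm⟩ := gen_inner_self_nat (gen_sub h (gen_intCast_smul c (gen_of_irr hχ)))
  rw [hm, h1] at h4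
  have h5 : (m : ℤ) = (n + 1 : ℕ) - c ^ 2 := by exact_mod_cast h4
  have h6 : c = 1 ∨ c = -1 := by
    have : c ^ 2 ≤ 3 := by omega
    have h7 : c ≤ 1 := by nlinarith
    have h8 : -1 ≤ c := by nlinarith
    omega
  refine ⟨c, χ, h6, hχ, h2, h3, ?_⟩
  rw [hm]
  have : c ^ 2 = 1 := by rcases h6 with rfl | rfl <;> norm_num
  exact_mod_cast (by omega : m = n)

/-- A generalized character of norm two is a signed sum of two distinct irreducible characters. -/
theorem gen_norm_two {ψ : G → ℂ} (h : IsGeneralizedCharacter G ψ) (h2 : classInner ψ ψ = 2) :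
    ∃ (ε δ : ℤ) (a b : G → ℂ), (ε = 1 ∨ ε = -1) ∧ (δ = 1 ∨ δ = -1) ∧ IsIrrCharacter G a ∧
      IsIrrCharacter G b ∧ a ≠ b ∧ ψ = (ε : ℂ) • a + (δ : ℂ) • b := by
  obtain ⟨ε, a, hε, ha, -, h3, h4⟩ := gen_exists_split_of_le_three h (n := 1) (by norm_num)
    (by rw [h2]; norm_num)
  obtain ⟨δ, b, hδ, hb, h5⟩ := gen_norm_one' (gen_sub h (gen_intCast_smul ε (gen_of_irr ha)))
    (by rw [h4]; norm_num)
  refine ⟨ε, δ, a, b, hε, hδ, ha, hb, ?_, by rw [← h5]; abel⟩
  rintro rfl
  rw [h5, classInner_smul_left, irr_inner_self ha] at h3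
  rcases hδ with rfl | rfl <;> simp at h3

/-- A generalized character of norm three is a signed sum of three distinct irreducible
characters. -/
theorem gen_norm_three {ψ : G → ℂ} (h : IsGeneralizedCharacter G ψ) (h3 : classInner ψ ψ = 3) :
    ∃ (ε δ η : ℤ) (a b c : G → ℂ), (ε = 1 ∨ ε = -1) ∧ (δ = 1 ∨ δ = -1) ∧ (η = 1 ∨ η = -1) ∧
      IsIrrCharacter G a ∧ IsIrrCharacter G b ∧ IsIrrCharacter G c ∧ a ≠ b ∧ a ≠ c ∧ b ≠ c ∧
      ψ = (ε : ℂ) • a + (δ : ℂ) • b + (η : ℂ) • c := by
  obtain ⟨ε, a, hε, ha, -, h4, h5⟩ := gen_exists_split_of_le_three h (n := 2) le_rfl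
    (by rw [h3]; norm_num)
  obtain ⟨δ, η, b, c, hδ, hη, hb, hc, hbc, h6⟩ :=
    gen_norm_two (gen_sub h (gen_intCast_smul ε (gen_of_irr ha))) (by rw [h5]; norm_num)
  rw [h6, classInner_add_left, classInner_smul_left, classInner_smul_left] at h4
  refine ⟨ε, δ, η, a, b, c, hε, hδ, hη, ha, hb, hc, ?_, ?_, hbc, by rw [add_assoc, ← h6]; abel⟩
  · rintro rfl
    rw [irr_inner_self ha, irr_inner_of_ne hc ha hbc.symm] at h4
    rcases hδ with rfl | rfl <;> simp at h4
  · rintro rfl
    rw [irr_inner_self ha, irr_inner_of_ne hb ha hbc] at h4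
    rcases hη with rfl | rfl <;> simp at h4

/-- A generalized character of norm two vanishing at `1` is a difference of two distinct
irreducible characters (of the same degree). -/
theorem gen_norm_two_of_apply_one {ψ : G → ℂ} (h : IsGeneralizedCharacter G ψ)
    (h2 : classInner ψ ψ = 2) (h1 : ψ 1 = 0) :
    ∃ a b : G → ℂ, IsIrrCharacter G a ∧ IsIrrCharacter G b ∧ a ≠ b ∧ ψ = a - b := by
  obtain ⟨ε, δ, a, b, hε, hδ, ha, hb, hab, rfl⟩ := gen_norm_two h h2
  obtain ⟨m, hm0, hm⟩ := irr_apply_one ha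
  obtain ⟨n, hn0, hn⟩ := irr_apply_one hb
  simp only [Pi.add_apply, Pi.smul_apply, hm, hn, smul_eq_mul] at h1
  have h3 : ε * m + δ * n = 0 := by exact_mod_cast h1
  rcases hε with rfl | rfl <;> rcases hδ with rfl | rfl
  · omega
  · exact ⟨a, b, ha, hb, hab, by simp [sub_eq_add_neg]⟩
  · exact ⟨b, a, hb, ha, hab.symm, by simp [sub_eq_add_neg, add_comm]⟩
  · omega

/-- The inner product of two differences of irreducible characters. -/
theorem classInner_sub_sub_irr {a b c d : G → ℂ} (ha : IsIrrCharacter G a)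
    (hb : IsIrrCharacter G b) (hc : IsIrrCharacter G c) (hd : IsIrrCharacter G d)
    [Decidable (a = c)] [Decidable (a = d)] [Decidable (b = c)] [Decidable (b = d)] :
    classInner (a - b) (c - d) =
      (((if a = c then 1 else 0) - (if a = d then 1 else 0) - (if b = c then 1 else 0) +
        (if b = d then 1 else 0) : ℤ) : ℂ) := by
  rw [classInner_sub_left, classInner_sub_right, classInner_sub_right, irr_inner ha hc,
    irr_inner ha hd, irr_inner hb hc, irr_inner hb hd]
  push_cast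
  split_ifs <;> norm_num

theorem eq_or_eq_of_classInner_sub_sub_eq_one {a b c d : G → ℂ} (ha : IsIrrCharacter G a)
    (hb : IsIrrCharacter G b) (hc : IsIrrCharacter G c) (hd : IsIrrCharacter G d)
    (h : classInner (a - b) (c - d) = 1) : (a = c ∧ b ≠ d) ∨ (b = d ∧ a ≠ c) := by
  classical
  rw [classInner_sub_sub_irr ha hb hc hd, Int.cast_eq_one] at h
  by_cases h1 : a = c <;> by_cases h2 : b = d
  · subst h1 h2
    by_cases h3 : a = b <;> simp [h3, eq_comm] at h
  · exact Or.inl ⟨h1, h2⟩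
  · exact Or.inr ⟨h2, h1⟩
  · simp only [h1, h2, if_false] at h
    split_ifs at h <;> omega

omit [Fintype G] in
/-- Combinatorial core of the isometry lemma, for the sign `+1`. -/
theorem exists_irr_family_of_common {ι : Type*} (i₀ : ι) (τ a : ι → G → ℂ) (μ₀ : G → ℂ)
    (h0 : τ i₀ = 0) (hμ₀ : IsIrrCharacter G μ₀) (ha : ∀ i, i ≠ i₀ → IsIrrCharacter G (a i))
    (hne : ∀ i, i ≠ i₀ → a i ≠ μ₀) (hinj : ∀ i j, i ≠ i₀ → j ≠ i₀ → a i = a j → i = j) (ε : ℂ)
    (hτ : ∀ i, i ≠ i₀ → τ i = ε • (a i - μ₀)) :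
    ∃ μ : ι → G → ℂ, (∀ i, IsIrrCharacter G (μ i)) ∧ Function.Injective μ ∧
      ∀ i, τ i = ε • (μ i - μ i₀) := by
  classical
  refine ⟨fun i => if i = i₀ then μ₀ else a i, fun i => ?_, fun i j hij => ?_, fun i => ?_⟩
  · by_cases hi : i = i₀
    · simpa [hi] using hμ₀
    · simpa [hi] using ha i hi
  · by_cases hi : i = i₀ <;> by_cases hj : j = i₀
    · rw [hi, hj]
    · simp only [hi, hj, if_true, if_false] at hij
      exact (hne j hj hij.symm).elim
    · simp only [hi, hj, if_true, if_false] at hij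
      exact (hne i hi hij).elim
    · simp only [hi, hj, if_false] at hij
      exact hinj i j hi hj hij
  · by_cases hi : i = i₀
    · simp [hi, h0]
    · simp [hi, hτ i hi]

/-- The isometry lemma behind exceptional characters (any index type). -/
theorem exists_irr_family_of_isometry {ι : Type*} (i₀ : ι) (τ : ι → G → ℂ) (h0 : τ i₀ = 0)
    (hgen : ∀ i, IsGeneralizedCharacter G (τ i)) (hone : ∀ i, τ i 1 = 0)
    (hself : ∀ i, i ≠ i₀ → classInner (τ i) (τ i) = 2)
    (hne : ∀ i j, i ≠ i₀ → j ≠ i₀ → i ≠ j → classInner (τ i) (τ j) = 1) :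
    ∃ ε : ℂ, (ε = 1 ∨ ε = -1) ∧ ∃ μ : ι → G → ℂ, (∀ i, IsIrrCharacter G (μ i)) ∧
      Function.Injective μ ∧ ∀ i, τ i = ε • (μ i - μ i₀) := by
  classical
  have key : ∀ i, ∃ a b : G → ℂ, i ≠ i₀ →
      IsIrrCharacter G a ∧ IsIrrCharacter G b ∧ a ≠ b ∧ τ i = a - b := by
    intro i
    by_cases hi : i = i₀
    · exact ⟨0, 0, fun h => (h hi).elim⟩
    · obtain ⟨a, b, h⟩ := gen_norm_two_of_apply_one (hgen i) (hself i hi) (hone i)
      exact ⟨a, b, fun _ => h⟩
  choose a b hab using key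
  have hpair : ∀ i j, i ≠ i₀ → j ≠ i₀ → i ≠ j →
      (a i = a j ∧ b i ≠ b j) ∨ (b i = b j ∧ a i ≠ a j) := by
    intro i j hi hj hij
    have := hne i j hi hj hij
    rw [(hab i hi).2.2.2, (hab j hj).2.2.2] at this
    exact eq_or_eq_of_classInner_sub_sub_eq_one (hab i hi).1 (hab i hi).2.1 (hab j hj).1
      (hab j hj).2.1 this
  by_cases hA : ∀ i j, i ≠ i₀ → j ≠ i₀ → b i = b j
  · refine ⟨1, Or.inl rfl, ?_⟩
    by_cases hex : ∃ k, k ≠ i₀
    · obtain ⟨k, hk⟩ := hex
      refine exists_irr_family_of_common i₀ τ a (b k) h0 (hab k hk).2.1 (fun i hi => (hab i hi).1)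
        (fun i hi => hA i k hi hk ▸ (hab i hi).2.2.1) (fun i j hi hj e => ?_) 1 (fun i hi => ?_)
      · by_contra hij
        rcases hpair i j hi hj hij with h | h
        · exact h.2 (hA i j hi hj)
        · exact h.2 e
      · rw [one_smul, (hab i hi).2.2.2, hA i k hi hk]
    · push Not at hex
      exact exists_irr_family_of_common i₀ τ a (fun _ => 1) h0 irr_one (fun i hi => (hi (hex i)).elim)
        (fun i hi => (hi (hex i)).elim) (fun i _ hi => (hi (hex i)).elim) 1
        (fun i hi => (hi (hex i)).elim)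
  · push Not at hA
    obtain ⟨k, l, hk, hl, hkl⟩ := hA
    have hkl' : k ≠ l := fun e => hkl (by rw [e])
    have hakl : a k = a l := ((hpair k l hk hl hkl').resolve_right (fun h => hkl h.1)).1
    have hB : ∀ i, i ≠ i₀ → a i = a k := by
      intro i hi
      by_cases hik : i = k
      · rw [hik]
      by_cases hil : i = l
      · rw [hil, hakl]
      by_contra hc
      have h1 := ((hpair i k hi hk hik).resolve_left (fun h => hc h.1)).1
      have h2 := ((hpair i l hi hl hil).resolve_left (fun h => hc (h.1.trans hakl.symm))).1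
      exact hkl (h1.symm.trans h2)
    refine ⟨-1, Or.inr rfl, exists_irr_family_of_common i₀ τ b (a k) h0 (hab k hk).1
      (fun i hi => (hab i hi).2.1) (fun i hi => hB i hi ▸ (hab i hi).2.2.1.symm)
      (fun i j hi hj e => ?_) (-1) (fun i hi => ?_)⟩
    · by_contra hij
      rcases hpair i j hi hj hij with h | h
      · exact h.2 e
      · exact h.2 ((hB i hi).trans (hB j hj).symm)
    · rw [(hab i hi).2.2.2, hB i hi]; simp

/-- Exceptional characters for an abstract isometry: a family of generalized characters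
`σ i` of `G` whose differences have the inner products of differences of an orthonormal family and
vanish at `1`. -/
theorem exists_irr_family_of_diff {ι : Type*} (D : ι → ι → G → ℂ)
    (hD : ∀ i j k, D i j = D i k - D j k)
    (hgen : ∀ i j, IsGeneralizedCharacter G (D i j)) (hone : ∀ i j, D i j 1 = 0)
    (hself : ∀ i j, i ≠ j → classInner (D i j) (D i j) = 2)
    (hne : ∀ i j k, i ≠ k → j ≠ k → i ≠ j → classInner (D i k) (D j k) = 1) :
    ∃ ε : ℂ, (ε = 1 ∨ ε = -1) ∧ ∃ μ : ι → G → ℂ, (∀ i, IsIrrCharacter G (μ i)) ∧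
      Function.Injective μ ∧ ∀ i j, D i j = ε • (μ i - μ j) := by
  rcases isEmpty_or_nonempty ι with hι | ⟨⟨i₀⟩⟩
  · exact ⟨1, Or.inl rfl, fun i => isEmptyElim i, fun i => isEmptyElim i, fun i => isEmptyElim i,
      fun i => isEmptyElim i⟩
  obtain ⟨ε, hε, μ, h1, h2, h3⟩ := exists_irr_family_of_isometry i₀ (fun i => D i i₀)
    (by rw [hD i₀ i₀ i₀, sub_self]) (fun i => hgen i i₀) (fun i => hone i i₀)
    (fun i hi => hself i i₀ hi) (fun i j hi hj hij => hne i j i₀ hi hj hij)
  refine ⟨ε, hε, μ, h1, h2, fun i j => ?_⟩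
  rw [hD i j i₀]
  rw [h3 i, h3 j, ← smul_sub]
  congr 1; abel

/-- **Exceptional characters.**  `T` is TI relative to `L`, and `χ i` are distinct irreducible
characters of `L` of the same degree whose differences vanish off `T`. -/
theorem exists_exceptional (L : Subgroup G) (T : Set G)
    (hTI : ∀ g : G, g ∉ L → ∀ t ∈ T, g * t * g⁻¹ ∈ T → t = 1) {ι : Type*} (χ : ι → L → ℂ)
    (hirr : ∀ i, IsIrrCharacter L (χ i)) (hinj : Function.Injective χ)
    (hvan : ∀ i j, ∀ x : L, (x : G) ∉ T → χ i x = χ j x) (hdeg : ∀ i j, χ i 1 = χ j 1) :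
    ∃ ε : ℂ, (ε = 1 ∨ ε = -1) ∧ ∃ θ : ι → G → ℂ, (∀ i, IsIrrCharacter G (θ i)) ∧
      Function.Injective θ ∧ ∀ i j, indFun L (χ i - χ j) = ε • (θ i - θ j) := by
  classical
  have : Fintype L := Fintype.ofFinite L
  have hiso : ∀ i j k l, classInner (indFun L (χ i - χ j)) (indFun L (χ k - χ l)) =
      classInner (χ i - χ j) (χ k - χ l) := fun i j k l =>
    classInner_indFun_of_TI L T hTI
      (classFun_sub (irr_isClassFunction (hirr k)) (irr_isClassFunction (hirr l)))
      (fun x hx => sub_eq_zero.2 (hvan i j x hx)) (fun x hx => sub_eq_zero.2 (hvan k l x hx))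
      (sub_eq_zero.2 (hdeg i j))
  refine exists_irr_family_of_diff (fun i j => indFun L (χ i - χ j)) (fun i j k => ?_)
    (fun i j => gen_indFun L (gen_sub (gen_of_irr (hirr i)) (gen_of_irr (hirr j))))
    (fun i j => indFun_one_eq_zero L (sub_eq_zero.2 (hdeg i j))) (fun i j hij => ?_)
    (fun i j k hik hjk hij => ?_)
  · rw [← indFun_sub]; congr 1; abel
  · rw [hiso, classInner_sub_sub_irr (hirr i) (hirr j) (hirr i) (hirr j)]
    simp [hinj.ne hij, hinj.ne hij.symm]
  · rw [hiso, classInner_sub_sub_irr (hirr i) (hirr k) (hirr j) (hirr k)]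
    simp [hinj.ne hij, hinj.ne hik, hinj.ne hjk.symm]

end CL.Char
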