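import Cfsg.Agent.Base
import Cfsg.Agent.Char.InduceChar

/-!
# Conjugate characters, inertia groups, Clifford's theorem
-/

set_option autoImplicit false
open scoped ComplexConjugate
open Cfsg

namespace CL.Char

variable {G : Type*} [Group G]

section ConjChar

variable (H : Subgroup G) [hN : H.Normal]

/-- The conjugate `h ↦ θ (g h g⁻¹)` of a function on a normal subgroup. -/
def conjChar (g : G) (θ : H → ℂ) : H → ℂ :=
  fun h => θ ⟨g * h * g⁻¹, hN.conj_mem h h.2 g⟩

theorem conjChar_apply (g : G) (θ : H → ℂ) (h : H) :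
    conjChar H g θ h = θ ⟨g * h * g⁻¹, hN.conj_mem h h.2 g⟩ := rfl

theorem conjChar_def (g : G) (θ : H → ℂ) :
    conjChar H g θ = fun h : H => θ ⟨g * h * g⁻¹, hN.conj_mem h h.2 g⟩ := rfl

theorem conjChar_eq_comp (g : G) (θ : H → ℂ) :
    conjChar H g θ = fun h => θ (MulAut.conjNormal g h) := rfl

theorem conjChar_one (θ : H → ℂ) : conjChar H 1 θ = θ := by
  funext h; simp [conjChar]

theorem conjChar_mul (a b : G) (θ : H → ℂ) :
    conjChar H (a * b) θ = conjChar H b (conjChar H a θ) := by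
  funext h; simp [conjChar, mul_assoc]

theorem conjChar_inv_conjChar (g : G) (θ : H → ℂ) : conjChar H g⁻¹ (conjChar H g θ) = θ := by
  rw [← conjChar_mul, mul_inv_cancel, conjChar_one]

theorem conjChar_conjChar_inv (g : G) (θ : H → ℂ) : conjChar H g (conjChar H g⁻¹ θ) = θ := by
  rw [← conjChar_mul, inv_mul_cancel, conjChar_one]

theorem conjChar_injective (g : G) : Function.Injective (conjChar H g) :=
  Function.LeftInverse.injective (conjChar_inv_conjChar H g)

theorem conjChar_apply_one (g : G) (θ : H → ℂ) : conjChar H g θ 1 = θ 1 := by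
  simp [conjChar_eq_comp]

theorem conjChar_add (g : G) (θ φ : H → ℂ) :
    conjChar H g (θ + φ) = conjChar H g θ + conjChar H g φ := rfl

theorem conjChar_sub (g : G) (θ φ : H → ℂ) :
    conjChar H g (θ - φ) = conjChar H g θ - conjChar H g φ := rfl

theorem conjChar_mul_fun (g : G) (θ φ : H → ℂ) :
    conjChar H g (θ * φ) = conjChar H g θ * conjChar H g φ := rfl

theorem conjChar_smul (g : G) (c : ℂ) (θ : H → ℂ) :
    conjChar H g (c • θ) = c • conjChar H g θ := rfl

theorem conjChar_sum (g : G) {ι : Type*} (s : Finset ι) (θ : ι → H → ℂ) :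
    conjChar H g (∑ i ∈ s, θ i) = ∑ i ∈ s, conjChar H g (θ i) := by
  funext h; simp [conjChar, Finset.sum_apply]

theorem conjChar_conj (g : G) (θ : H → ℂ) :
    conjChar H g (fun h => conj (θ h)) = fun h => conj (conjChar H g θ h) := rfl

theorem conjChar_const (g : G) (c : ℂ) : conjChar H g (fun _ => c) = fun _ => c := rfl

theorem conjChar_eq_one_iff (g : G) (θ : H → ℂ) :
    conjChar H g θ = (fun _ => 1) ↔ θ = fun _ => 1 :=
  (conjChar_injective H g).eq_iff (b := fun _ => 1)

theorem conjChar_of_mem {θ : H → ℂ} (hθ : IsClassFunction H θ) {g : G} (hg : g ∈ H) :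
    conjChar H g θ = θ :=
  funext fun h => hθ h ⟨g, hg⟩

theorem conjChar_res {χ : G → ℂ} (hχ : IsClassFunction G χ) (g : G) :
    conjChar H g (fun h : H => χ h) = fun h : H => χ h :=
  funext fun h => hχ h g

theorem classFun_conjChar {θ : H → ℂ} (hθ : IsClassFunction H θ) (g : G) :
    IsClassFunction H (conjChar H g θ) :=
  classFun_comp hθ (MulAut.conjNormal g : MulAut H).toMonoidHom

theorem char_conjChar {θ : H → ℂ} (hθ : IsCharacter H θ) (g : G) :
    IsCharacter H (conjChar H g θ) :=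
  char_comp hθ (MulAut.conjNormal g : MulAut H).toMonoidHom

theorem irr_conjChar {θ : H → ℂ} (hθ : IsIrrCharacter H θ) (g : G) :
    IsIrrCharacter H (conjChar H g θ) :=
  irr_comp_mulEquiv hθ (MulAut.conjNormal g : MulAut H)

theorem gen_conjChar {θ : H → ℂ} (hθ : IsGeneralizedCharacter H θ) (g : G) :
    IsGeneralizedCharacter H (conjChar H g θ) :=
  gen_comp hθ (MulAut.conjNormal g : MulAut H).toMonoidHom

theorem classInner_conjChar [Fintype H] (g : G) (θ φ : H → ℂ) :
    classInner (conjChar H g θ) (conjChar H g φ) = classInner θ φ :=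
  classInner_comp_mulEquiv (MulAut.conjNormal g : MulAut H) θ φ

theorem classInner_conjChar_left [Fintype H] (g : G) (θ φ : H → ℂ) :
    classInner (conjChar H g θ) φ = classInner θ (conjChar H g⁻¹ φ) := by
  rw [← classInner_conjChar H g θ, conjChar_conjChar_inv]

theorem classInner_conjChar_right [Fintype H] (g : G) (θ φ : H → ℂ) :
    classInner θ (conjChar H g φ) = classInner (conjChar H g⁻¹ θ) φ := by
  rw [← classInner_conjChar H g _ φ, conjChar_conjChar_inv]

/-- Conjugate constituents occur with the same multiplicity in a restriction. -/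
theorem classInner_res_conjChar [Fintype H] {χ : G → ℂ} (hχ : IsClassFunction G χ) (g : G)
    (θ : H → ℂ) :
    classInner (fun h : H => χ h) (conjChar H g θ) = classInner (fun h : H => χ h) θ := by
  rw [classInner_conjChar_right, conjChar_res H hχ]

theorem extendByZero_conjChar (g : G) (θ : H → ℂ) (x : G) :
    extendByZero H (conjChar H g θ) x = extendByZero H θ (g * x * g⁻¹) := by
  by_cases hx : x ∈ H
  · rw [extendByZero_of_mem _ _ hx, extendByZero_of_mem _ _ (hN.conj_mem x hx g)]; rfl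
  · rw [extendByZero_of_not_mem _ _ hx, extendByZero_of_not_mem]
    intro h; apply hx
    simpa [mul_assoc] using hN.conj_mem _ h g⁻¹

/-- Conjugate functions induce the same function. -/
theorem indFun_conjChar [Fintype G] (g : G) (θ : H → ℂ) :
    indFun H (conjChar H g θ) = indFun H θ :=
  (indFun_conj_subgroup H H g
    (fun x => ⟨fun hx => hN.conj_mem x hx g, fun hx => by
      simpa [mul_assoc] using hN.conj_mem _ hx g⁻¹⟩) _ θ (fun _ => rfl)).symm

/-- The inertia group (stabiliser) of a function on a normal subgroup. -/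
def inertia (θ : H → ℂ) : Subgroup G where
  carrier := {g | ∀ h : H, θ ⟨g * h * g⁻¹, hN.conj_mem h h.2 g⟩ = θ h}
  one_mem' := fun h => congrFun (conjChar_one H θ) h
  mul_mem' := fun {a b} ha hb h => by
    have h1 : conjChar H a θ = θ := funext ha
    have h2 : conjChar H b θ = θ := funext hb
    have := conjChar_mul H a b θ
    rw [h1, h2] at this
    exact congrFun this h
  inv_mem' := fun {a} ha h => by
    have h1 : conjChar H a θ = θ := funext ha
    have := conjChar_inv_conjChar H a θ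
    rw [h1] at this
    exact congrFun this h

theorem mem_inertia {θ : H → ℂ} {g : G} :
    g ∈ inertia H θ ↔ ∀ h : H, θ ⟨g * h * g⁻¹, hN.conj_mem h h.2 g⟩ = θ h := Iff.rfl

theorem mem_inertia_iff {θ : H → ℂ} {g : G} : g ∈ inertia H θ ↔ conjChar H g θ = θ :=
  ⟨fun h => funext h, fun h => congrFun h⟩

theorem eq_inertia {θ : H → ℂ} {T : Subgroup G}
    (hT : ∀ g : G, g ∈ T ↔ ∀ h : H, θ ⟨g * h * g⁻¹, hN.conj_mem h h.2 g⟩ = θ h) :
    T = inertia H θ := Subgroup.ext hT

theorem le_inertia {θ : H → ℂ} (hθ : IsClassFunction H θ) : H ≤ inertia H θ :=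
  fun _ hg => (mem_inertia_iff H).2 (conjChar_of_mem H hθ hg)

theorem centralizer_le_inertia (θ : H → ℂ) :
    Subgroup.centralizer (H : Set G) ≤ inertia H θ := by
  intro g hg h
  congr 1
  ext
  have := Subgroup.mem_centralizer_iff.1 hg h h.2
  simp [← this]

theorem inertia_res {χ : G → ℂ} (hχ : IsClassFunction G χ) :
    inertia H (fun h : H => χ h) = ⊤ :=
  eq_top_iff.2 fun g _ => (mem_inertia_iff H).2 (conjChar_res H hχ g)

theorem conjChar_eq_conjChar_iff (θ : H → ℂ) (a b : G) :
    conjChar H a θ = conjChar H b θ ↔ a * b⁻¹ ∈ inertia H θ := by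
  rw [mem_inertia_iff, conjChar_mul]
  constructor
  · intro h; rw [h, conjChar_inv_conjChar]
  · intro h
    rw [← conjChar_conjChar_inv H b (conjChar H a θ), h]

theorem mem_inertia_conjChar (θ : H → ℂ) (a g : G) :
    g ∈ inertia H (conjChar H a θ) ↔ a * g * a⁻¹ ∈ inertia H θ := by
  rw [mem_inertia_iff, ← conjChar_mul, conjChar_eq_conjChar_iff]

theorem card_inertia_eq (θ : H → ℂ) : Nat.card (inertia H θ) =
    Nat.card {g : G // ∀ h : H, θ ⟨g * h * g⁻¹, hN.conj_mem h h.2 g⟩ = θ h} := rfl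

open scoped Classical in
/-- The finite set of `G`-conjugates of `θ`. -/
noncomputable def conjOrbit [Fintype G] (θ : H → ℂ) : Finset (H → ℂ) :=
  Finset.univ.image (fun g : G => conjChar H g θ)

variable [Fintype G]

theorem mem_conjOrbit {θ ψ : H → ℂ} : ψ ∈ conjOrbit H θ ↔ ∃ g : G, ψ = conjChar H g θ := by
  simp [conjOrbit, eq_comm]

theorem self_mem_conjOrbit (θ : H → ℂ) : θ ∈ conjOrbit H θ :=
  (mem_conjOrbit H).2 ⟨1, (conjChar_one H θ).symm⟩

theorem conjChar_mem_conjOrbit (θ : H → ℂ) (g : G) : conjChar H g θ ∈ conjOrbit H θ :=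
  (mem_conjOrbit H).2 ⟨g, rfl⟩

theorem coe_conjOrbit (θ : H → ℂ) : (conjOrbit H θ : Set (H → ℂ)) =
    {ψ : H → ℂ | ∃ g : G, ψ = fun h : H => θ ⟨g * h * g⁻¹, hN.conj_mem h h.2 g⟩} := by
  ext ψ
  rw [Finset.mem_coe, mem_conjOrbit]; rfl

theorem finsum_conj_eq_sum_conjOrbit {M : Type*} [AddCommMonoid M] (θ : H → ℂ)
    (F : (H → ℂ) → M) :
    ∑ᶠ ψ ∈ {ψ : H → ℂ | ∃ g : G, ψ = fun h : H => θ ⟨g * h * g⁻¹, hN.conj_mem h h.2 g⟩}, F ψ =
      ∑ ψ ∈ conjOrbit H θ, F ψ := by
  rw [← coe_conjOrbit, finsum_mem_coe_finset]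

theorem conjOrbit_eq_of_mem {θ ψ : H → ℂ} (h : ψ ∈ conjOrbit H θ) :
    conjOrbit H ψ = conjOrbit H θ := by
  obtain ⟨a, rfl⟩ := (mem_conjOrbit H).1 h
  ext φ
  simp only [mem_conjOrbit]
  constructor
  · rintro ⟨g, rfl⟩; exact ⟨a * g, (conjChar_mul H a g θ).symm⟩
  · rintro ⟨g, rfl⟩
    exact ⟨a⁻¹ * g, by rw [← conjChar_mul, mul_inv_cancel_left]⟩

theorem mem_conjOrbit_comm {θ ψ : H → ℂ} : ψ ∈ conjOrbit H θ ↔ θ ∈ conjOrbit H ψ :=
  ⟨fun h => conjOrbit_eq_of_mem H h ▸ self_mem_conjOrbit H θ,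
   fun h => conjOrbit_eq_of_mem H h ▸ self_mem_conjOrbit H ψ⟩

theorem irr_of_mem_conjOrbit {θ ψ : H → ℂ} (hθ : IsIrrCharacter H θ) (h : ψ ∈ conjOrbit H θ) :
    IsIrrCharacter H ψ := by
  obtain ⟨a, rfl⟩ := (mem_conjOrbit H).1 h
  exact irr_conjChar H hθ a

theorem apply_one_of_mem_conjOrbit {θ ψ : H → ℂ} (h : ψ ∈ conjOrbit H θ) : ψ 1 = θ 1 := by
  obtain ⟨a, rfl⟩ := (mem_conjOrbit H).1 h
  exact conjChar_apply_one H a θ

theorem conjOrbit_eq_singleton {θ : H → ℂ} (h : inertia H θ = ⊤) : conjOrbit H θ = {θ} := by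
  ext ψ
  rw [mem_conjOrbit, Finset.mem_singleton]
  constructor
  · rintro ⟨g, rfl⟩
    exact (mem_inertia_iff H).1 (h ▸ Subgroup.mem_top g)
  · rintro rfl; exact ⟨1, (conjChar_one H _).symm⟩

/-- Summing over `G` a function of the conjugates counts each conjugate `|I_G(θ)|` times. -/
theorem sum_conjChar_eq {M : Type*} [AddCommMonoid M] (θ : H → ℂ) (F : (H → ℂ) → M) :
    ∑ g : G, F (conjChar H g θ) = Nat.card (inertia H θ) • ∑ ψ ∈ conjOrbit H θ, F ψ := by
  classical
  rw [conjOrbit, Finset.sum_comp F (fun g : G => conjChar H g θ), Finset.smul_sum]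
  refine Finset.sum_congr rfl fun ψ hψ => ?_
  obtain ⟨a, -, rfl⟩ := Finset.mem_image.1 hψ
  congr 1
  rw [← Nat.card_eq_finsetCard]
  refine Nat.card_congr ⟨fun x => ⟨x.1 * a⁻¹, ?_⟩, fun t => ⟨t.1 * a, ?_⟩, ?_, ?_⟩
  · exact (conjChar_eq_conjChar_iff H θ _ _).1 (Finset.mem_filter.1 x.2).2
  · refine Finset.mem_filter.2 ⟨Finset.mem_univ _, (conjChar_eq_conjChar_iff H θ _ _).2 ?_⟩
    simp
  · intro x; simp
  · intro t; simp

/-- The number of conjugates is the index of the inertia group. -/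
theorem card_conjOrbit (θ : H → ℂ) : (conjOrbit H θ).card = (inertia H θ).index := by
  have := sum_conjChar_eq H θ (fun _ => (1 : ℕ))
  simp only [Finset.sum_const, Finset.card_univ, smul_eq_mul, mul_one] at this
  rw [← Nat.card_eq_fintype_card, ← (inertia H θ).card_mul_index] at this
  exact (Nat.eq_of_mul_eq_mul_left Nat.card_pos this).symm

/-- Restriction of an induced function to the normal subgroup, as an average of conjugates. -/
theorem res_indFun_eq_sum (θ : H → ℂ) :
    (fun h : H => indFun H θ h) = (Nat.card H : ℂ)⁻¹ • ∑ g : G, conjChar H g θ := by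
  funext h
  rw [indFun_apply_of_normal]
  simp [Finset.sum_apply, conjChar]

/-- Restriction of an induced function to the normal subgroup, over the distinct conjugates. -/
theorem res_indFun_eq_sum_conjOrbit (θ : H → ℂ) :
    (fun h : H => indFun H θ h) =
      ((Nat.card (inertia H θ) : ℂ) / Nat.card H) • ∑ ψ ∈ conjOrbit H θ, ψ := by
  rw [res_indFun_eq_sum, sum_conjChar_eq H θ (fun ψ => ψ), ← Nat.cast_smul_eq_nsmul ℂ, smul_smul,
    div_eq_inv_mul]

theorem card_inertia_div {θ : H → ℂ} (hθ : IsClassFunction H θ) :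
    ((Nat.card (inertia H θ) : ℂ) / Nat.card H) = H.relIndex (inertia H θ) := by
  have h1 := (H.subgroupOf (inertia H θ)).card_mul_index
  rw [Nat.card_congr (Subgroup.subgroupOfEquivOfLe (le_inertia H hθ)).toEquiv] at h1
  rw [← h1, Subgroup.relIndex]
  have := natCard_cast_ne_zero H
  push_cast
  field_simp

/-- If `θ` is `G`-invariant then `Res Ind θ = [G : H] θ`. -/
theorem res_indFun_of_invariant {θ : H → ℂ} (h : inertia H θ = ⊤) :
    (fun h : H => indFun H θ h) = (H.index : ℂ) • θ := by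
  rw [res_indFun_eq_sum_conjOrbit, conjOrbit_eq_singleton H h, Finset.sum_singleton, h,
    Subgroup.card_top, ← H.card_mul_index]
  congr 1
  have := natCard_cast_ne_zero H
  push_cast
  field_simp

theorem classInner_indFun_indFun_normal [Fintype H] (θ φ : H → ℂ) :
    classInner (indFun H θ) (indFun H φ) =
      (Nat.card H : ℂ)⁻¹ * ∑ g : G, classInner θ (conjChar H g φ) := by
  rw [classInner_indFun_left H θ (indFun_isClassFunction H φ), res_indFun_eq_sum,
    classInner_smul_right, classInner_sum_right]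
  simp

/-- Characters induced from non-conjugate irreducible characters are orthogonal. -/
theorem classInner_indFun_eq_zero_of_not_conj {θ φ : H → ℂ} (hθ : IsIrrCharacter H θ)
    (hφ : IsIrrCharacter H φ) (h : φ ∉ conjOrbit H θ) :
    classInner (indFun H φ) (indFun H θ) = 0 := by
  have : Fintype H := Fintype.ofFinite H
  rw [classInner_indFun_indFun_normal, Finset.sum_eq_zero, mul_zero]
  intro g _
  exact irr_inner_of_ne hφ (irr_conjChar H hθ g) (fun e => h (e ▸ conjChar_mem_conjOrbit H θ g))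

theorem indFun_eq_of_mem_conjOrbit {θ φ : H → ℂ} (h : φ ∈ conjOrbit H θ) :
    indFun H φ = indFun H θ := by
  obtain ⟨g, rfl⟩ := (mem_conjOrbit H).1 h
  exact indFun_conjChar H g θ

/-- `|H| ‖Ind θ‖² = |I_G(θ)|`. -/
theorem card_mul_classInner_indFun_self {θ : H → ℂ} (hθ : IsIrrCharacter H θ) :
    (Nat.card H : ℂ) * classInner (indFun H θ) (indFun H θ) = Nat.card (inertia H θ) := by
  classical
  have : Fintype H := Fintype.ofFinite H
  rw [classInner_indFun_indFun_normal, ← mul_assoc, mul_inv_cancel₀ (natCard_cast_ne_zero H),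
    one_mul, sum_conjChar_eq H θ (fun ψ => classInner θ ψ),
    Finset.sum_eq_single θ (fun ψ hψ hne => irr_inner_of_ne hθ (irr_of_mem_conjOrbit H hθ hψ)
      hne.symm) (fun h => (h (self_mem_conjOrbit H θ)).elim), irr_inner_self hθ]
  simp

/-- `‖Ind θ‖² = [I_G(θ) : H]`. -/
theorem classInner_indFun_self {θ : H → ℂ} (hθ : IsIrrCharacter H θ) :
    classInner (indFun H θ) (indFun H θ) = H.relIndex (inertia H θ) := by
  rw [← card_inertia_div H (irr_isClassFunction hθ), ← card_mul_classInner_indFun_self H hθ]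
  have := natCard_cast_ne_zero H
  field_simp

theorem indFun_eq_iff_mem_conjOrbit {θ φ : H → ℂ} (hθ : IsIrrCharacter H θ)
    (hφ : IsIrrCharacter H φ) : indFun H φ = indFun H θ ↔ φ ∈ conjOrbit H θ := by
  refine ⟨fun h => ?_, indFun_eq_of_mem_conjOrbit H⟩
  by_contra hc
  have := classInner_indFun_eq_zero_of_not_conj H hθ hφ hc
  rw [h, classInner_self_eq_zero] at this
  exact indFun_ne_zero H (irr_apply_one_ne_zero hθ) this

/-- Two induced characters are either equal or orthogonal. -/
theorem classInner_indFun_eq_zero_of_ne {θ φ : H → ℂ} (hθ : IsIrrCharacter H θ)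
    (hφ : IsIrrCharacter H φ) (h : indFun H φ ≠ indFun H θ) :
    classInner (indFun H φ) (indFun H θ) = 0 :=
  classInner_indFun_eq_zero_of_not_conj H hθ hφ (fun hc => h (indFun_eq_of_mem_conjOrbit H hc))

/-- The induced character is irreducible iff the inertia group is `H`. -/
theorem irr_indFun_iff {θ : H → ℂ} (hθ : IsIrrCharacter H θ) :
    IsIrrCharacter G (indFun H θ) ↔ inertia H θ ≤ H := by
  rw [isIrrCharacter_iff, classInner_indFun_self H hθ, Nat.cast_eq_one, Subgroup.relIndex_eq_one]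
  exact and_iff_right (char_indFun H (irr_isCharacter hθ))

theorem irr_indFun_of_inertia_le {θ : H → ℂ} (hθ : IsIrrCharacter H θ) (h : inertia H θ ≤ H) :
    IsIrrCharacter G (indFun H θ) := (irr_indFun_iff H hθ).2 h

/-- Two irreducible constituents of the restriction of an irreducible character to a normal
subgroup are conjugate. -/
theorem mem_conjOrbit_of_constituents [Fintype H] {χ : G → ℂ} (hχ : IsIrrCharacter G χ)
    {θ φ : H → ℂ} (hθ : IsIrrCharacter H θ) (hφ : IsIrrCharacter H φ)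
    (h1 : classInner (fun h : H => χ h) θ ≠ 0) (h2 : classInner (fun h : H => χ h) φ ≠ 0) :
    φ ∈ conjOrbit H θ := by
  by_contra hc
  refine char_inner_ne_zero_of_common (char_indFun H (irr_isCharacter hφ))
    (char_indFun H (irr_isCharacter hθ)) hχ ?_ ?_
    (classInner_indFun_eq_zero_of_not_conj H hθ hφ hc)
  · rwa [classInner_indFun_left H _ (irr_isClassFunction hχ), Ne, classInner_eq_zero_comm]
  · rwa [classInner_indFun_left H _ (irr_isClassFunction hχ), Ne, classInner_eq_zero_comm]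

theorem classInner_res_of_mem_conjOrbit [Fintype H] {χ : G → ℂ} (hχ : IsClassFunction G χ)
    {θ φ : H → ℂ} (h : φ ∈ conjOrbit H θ) :
    classInner (fun h : H => χ h) φ = classInner (fun h : H => χ h) θ := by
  obtain ⟨g, rfl⟩ := (mem_conjOrbit H).1 h
  exact classInner_res_conjChar H hχ g θ

/-- **Clifford's theorem.** -/
theorem clifford [Fintype H] {χ : G → ℂ} (hχ : IsIrrCharacter G χ) {θ : H → ℂ}
    (hθ : IsIrrCharacter H θ) (h1 : classInner (fun h : H => χ h) θ ≠ 0) :
    (fun h : H => χ h) = classInner (fun h : H => χ h) θ • ∑ ψ ∈ conjOrbit H θ, ψ := by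
  classical
  refine classFun_ext (classFun_restrict (irr_isClassFunction hχ) H)
    (classFun_smul _ (classFun_sum _ fun ψ hψ =>
      irr_isClassFunction (irr_of_mem_conjOrbit H hθ hψ))) fun φ hφ => ?_
  rw [classInner_smul_left, classInner_sum_left]
  by_cases hm : φ ∈ conjOrbit H θ
  · rw [Finset.sum_eq_single φ (fun ψ hψ hne => irr_inner_of_ne (irr_of_mem_conjOrbit H hθ hψ) hφ
      hne) (fun h => (h hm).elim), irr_inner_self hφ, mul_one,
      classInner_res_of_mem_conjOrbit H (irr_isClassFunction hχ) hm]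
  · rw [Finset.sum_eq_zero (fun ψ hψ => irr_inner_of_ne (irr_of_mem_conjOrbit H hθ hψ) hφ
      (fun e => hm (e ▸ hψ))), mul_zero]
    by_contra h2
    exact hm (mem_conjOrbit_of_constituents H hχ hθ hφ h1 h2)

/-- Clifford's theorem with a natural-number multiplicity. -/
theorem clifford_nat [Fintype H] {χ : G → ℂ} (hχ : IsIrrCharacter G χ) {θ : H → ℂ}
    (hθ : IsIrrCharacter H θ) (h1 : classInner (fun h : H => χ h) θ ≠ 0) :
    ∃ e : ℕ, 0 < e ∧ classInner (fun h : H => χ h) θ = e ∧
      (fun h : H => χ h) = (e : ℂ) • ∑ ψ ∈ conjOrbit H θ, ψ := by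
  obtain ⟨e, he⟩ := char_inner_nat (char_restrict (irr_isCharacter hχ) H) (irr_isCharacter hθ)
  refine ⟨e, Nat.pos_of_ne_zero (fun h => h1 (by rw [he, h, Nat.cast_zero])), he, ?_⟩
  rw [← he]
  exact clifford H hχ hθ h1

/-- The degree formula `χ(1) = e t θ(1)`. -/
theorem clifford_apply_one [Fintype H] {χ : G → ℂ} (hχ : IsIrrCharacter G χ) {θ : H → ℂ}
    (hθ : IsIrrCharacter H θ) (h1 : classInner (fun h : H => χ h) θ ≠ 0) :
    χ 1 = classInner (fun h : H => χ h) θ * (inertia H θ).index * θ 1 := by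
  have := congrFun (clifford H hχ hθ h1) 1
  simp only [OneMemClass.coe_one, Pi.smul_apply, Finset.sum_apply, smul_eq_mul] at this
  rw [this, Finset.sum_congr rfl (fun ψ hψ => apply_one_of_mem_conjOrbit H hψ), Finset.sum_const,
    card_conjOrbit, nsmul_eq_mul, mul_assoc]

/-- Clifford's theorem for an invariant constituent. -/
theorem clifford_of_invariant [Fintype H] {χ : G → ℂ} (hχ : IsIrrCharacter G χ) {θ : H → ℂ}
    (hθ : IsIrrCharacter H θ) (h1 : classInner (fun h : H => χ h) θ ≠ 0) (h : inertia H θ = ⊤) :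
    (fun h : H => χ h) = classInner (fun h : H => χ h) θ • θ := by
  have := clifford H hχ hθ h1
  rwa [conjOrbit_eq_singleton H h, Finset.sum_singleton] at this

/-- The norm of the restriction: `‖χ_H‖² = e² t`. -/
theorem classInner_res_self [Fintype H] {χ : G → ℂ} (hχ : IsIrrCharacter G χ) {θ : H → ℂ}
    (hθ : IsIrrCharacter H θ) (h1 : classInner (fun h : H => χ h) θ ≠ 0) :
    classInner (fun h : H => χ h) (fun h : H => χ h) =
      classInner (fun h : H => χ h) θ ^ 2 * (inertia H θ).index := by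
  obtain ⟨e, -, he, h2⟩ := clifford_nat H hχ hθ h1
  conv_lhs => rhs; rw [h2]
  rw [classInner_smul_right, classInner_sum_right, Finset.sum_congr rfl
    (fun ψ hψ => classInner_res_of_mem_conjOrbit H (irr_isClassFunction hχ) hψ), Finset.sum_const,
    card_conjOrbit, he]
  simp; ring

/-- If the principal character of `H` is a constituent of `χ_H` then `H` lies in the kernel. -/
theorem apply_eq_of_inner_res_one_ne_zero [Fintype H] {χ : G → ℂ} (hχ : IsIrrCharacter G χ)
    (h1 : classInner (fun h : H => χ h) (fun _ => 1) ≠ 0) {x : G} (hx : x ∈ H) : χ x = χ 1 := by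
  have := clifford_of_invariant H hχ irr_one h1 (eq_top_iff.2 fun _ _ _ => rfl)
  have h2 := congrFun this ⟨x, hx⟩
  have h3 := congrFun this 1
  simp only [Pi.smul_apply, OneMemClass.coe_one] at h2 h3
  rw [h2, h3]

/-- If `H` is not in the kernel of `χ`, the restriction has no principal constituent. -/
theorem classInner_res_one_eq_zero [Fintype H] {χ : G → ℂ} (hχ : IsIrrCharacter G χ)
    (h : ∃ x ∈ H, χ x ≠ χ 1) : classInner (fun h : H => χ h) (fun _ => 1) = 0 := by
  by_contra h1
  obtain ⟨x, hx, hne⟩ := h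
  exact hne (apply_eq_of_inner_res_one_ne_zero H hχ h1 hx)

end ConjChar

end CL.Char
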