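import Cfsg.Agent.Base
import Cfsg.Agent.Char.Clifford

/-!
# The Clifford correspondence
For `H ⊴ G`, `θ ∈ Irr H` and `I_G(θ) ≤ T ≤ G`, induction is a bijection from the irreducible
characters of `T` over `θ` onto the irreducible characters of `G` over `θ`.
-/

set_option autoImplicit false
open scoped ComplexConjugate
open Cfsg

namespace CL.Char

variable {G : Type*} [Group G]

/-- Inner products over `H` and over its copy `H.subgroupOf T`. -/
theorem classInner_subgroupOf {H T : Subgroup G} (hHT : H ≤ T) [Fintype H]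
    [Fintype (H.subgroupOf T)] (φ θ : H → ℂ) :
    classInner (fun x : H.subgroupOf T => φ ⟨(x : T), Subgroup.mem_subgroupOf.mp x.2⟩)
      (fun x : H.subgroupOf T => θ ⟨(x : T), Subgroup.mem_subgroupOf.mp x.2⟩) = classInner φ θ :=
  classInner_comp_mulEquiv (Subgroup.subgroupOfEquivOfLe hHT) φ θ

theorem irr_subgroupOf {H T : Subgroup G} (hHT : H ≤ T) {θ : H → ℂ} (hθ : IsIrrCharacter H θ) :
    IsIrrCharacter (H.subgroupOf T)
      (fun x : H.subgroupOf T => θ ⟨(x : T), Subgroup.mem_subgroupOf.mp x.2⟩) :=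
  irr_comp_mulEquiv hθ (Subgroup.subgroupOfEquivOfLe hHT)

theorem char_subgroupOf {H T : Subgroup G} (hHT : H ≤ T) {θ : H → ℂ} (hθ : IsCharacter H θ) :
    IsCharacter (H.subgroupOf T)
      (fun x : H.subgroupOf T => θ ⟨(x : T), Subgroup.mem_subgroupOf.mp x.2⟩) :=
  char_comp hθ (Subgroup.subgroupOfEquivOfLe hHT).toMonoidHom

theorem gen_subgroupOf {H T : Subgroup G} (hHT : H ≤ T) {θ : H → ℂ}
    (hθ : IsGeneralizedCharacter H θ) :
    IsGeneralizedCharacter (H.subgroupOf T)
      (fun x : H.subgroupOf T => θ ⟨(x : T), Subgroup.mem_subgroupOf.mp x.2⟩) :=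
  gen_comp hθ (Subgroup.subgroupOfEquivOfLe hHT).toMonoidHom

theorem classFun_subgroupOf {H T : Subgroup G} (hHT : H ≤ T) {θ : H → ℂ}
    (hθ : IsClassFunction H θ) :
    IsClassFunction (H.subgroupOf T)
      (fun x : H.subgroupOf T => θ ⟨(x : T), Subgroup.mem_subgroupOf.mp x.2⟩) :=
  classFun_comp hθ (Subgroup.subgroupOfEquivOfLe hHT).toMonoidHom

/-- Restriction of a character of `T` to `H ≤ T`. -/
theorem char_res_le {H T : Subgroup G} (hHT : H ≤ T) {ψ : T → ℂ} (hψ : IsCharacter T ψ) :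
    IsCharacter H (fun n : H => ψ ⟨(n : G), hHT n.2⟩) :=
  char_comp hψ (Subgroup.inclusion hHT)

theorem gen_res_le {H T : Subgroup G} (hHT : H ≤ T) {ψ : T → ℂ}
    (hψ : IsGeneralizedCharacter T ψ) :
    IsGeneralizedCharacter H (fun n : H => ψ ⟨(n : G), hHT n.2⟩) :=
  gen_comp hψ (Subgroup.inclusion hHT)

theorem classFun_res_le {H T : Subgroup G} (hHT : H ≤ T) {ψ : T → ℂ}
    (hψ : IsClassFunction T ψ) : IsClassFunction H (fun n : H => ψ ⟨(n : G), hHT n.2⟩) :=
  classFun_comp hψ (Subgroup.inclusion hHT)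

/-- Relative Frobenius reciprocity for `H ≤ T ≤ G`. -/
theorem classInner_indFun_subgroupOf_left {H T : Subgroup G} (hHT : H ≤ T) [Fintype H] [Fintype T]
    (θ : H → ℂ) {ψ : T → ℂ} (hψ : IsClassFunction T ψ) :
    classInner (indFun (H.subgroupOf T) (fun x => θ ⟨(x : T), Subgroup.mem_subgroupOf.mp x.2⟩)) ψ =
      classInner θ (fun n : H => ψ ⟨(n : G), hHT n.2⟩) := by
  have : Fintype (H.subgroupOf T) := Fintype.ofFinite _
  rw [classInner_indFun_left _ _ hψ, ← classInner_subgroupOf hHT]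

theorem classInner_indFun_subgroupOf_right {H T : Subgroup G} (hHT : H ≤ T) [Fintype H]
    [Fintype T] (θ : H → ℂ) {ψ : T → ℂ} (hψ : IsClassFunction T ψ) :
    classInner ψ (indFun (H.subgroupOf T) (fun x => θ ⟨(x : T), Subgroup.mem_subgroupOf.mp x.2⟩)) =
      classInner (fun n : H => ψ ⟨(n : G), hHT n.2⟩) θ := by
  rw [← conj_classInner, classInner_indFun_subgroupOf_left hHT θ hψ, conj_classInner]

variable (H : Subgroup G) [hN : H.Normal]

/-- Clifford's theorem relative to an intermediate subgroup `T`: two constituents of the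
restriction of `ψ ∈ Irr T` are conjugate under `T`. -/
theorem exists_conjChar_of_constituents_le {T : Subgroup G} (hHT : H ≤ T) [Finite T] [Fintype H]
    {ψ : T → ℂ} (hψ : IsIrrCharacter T ψ) {θ φ : H → ℂ} (hθ : IsIrrCharacter H θ)
    (hφ : IsIrrCharacter H φ) (h1 : classInner (fun n : H => ψ ⟨(n : G), hHT n.2⟩) θ ≠ 0)
    (h2 : classInner (fun n : H => ψ ⟨(n : G), hHT n.2⟩) φ ≠ 0) :
    ∃ t ∈ T, φ = conjChar H t θ := by
  have : Fintype T := Fintype.ofFinite _
  have : Fintype (H.subgroupOf T) := Fintype.ofFinite _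
  rw [← classInner_subgroupOf hHT] at h1 h2
  obtain ⟨t, ht⟩ := (mem_conjOrbit _).1 (mem_conjOrbit_of_constituents (H.subgroupOf T) hψ
    (irr_subgroupOf hHT hθ) (irr_subgroupOf hHT hφ) h1 h2)
  refine ⟨t, t.2, funext fun h => ?_⟩
  exact congrFun ht ⟨⟨h, hHT h.2⟩, Subgroup.mem_subgroupOf.2 h.2⟩

theorem classInner_res_le_conjChar {T : Subgroup G} (hHT : H ≤ T) [Fintype H]
    {ψ : T → ℂ} (hψ : IsClassFunction T ψ) (θ : H → ℂ) {t : G} (ht : t ∈ T) :
    classInner (fun n : H => ψ ⟨(n : G), hHT n.2⟩) (conjChar H t θ) =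
      classInner (fun n : H => ψ ⟨(n : G), hHT n.2⟩) θ := by
  rw [classInner_conjChar_right]
  congr 1
  funext h
  exact hψ ⟨h, hHT h.2⟩ ⟨t⁻¹, T.inv_mem ht⟩

variable [Fintype G]

/-- Restriction to a normal subgroup `H ≤ T` of a function induced from `T`. -/
theorem res_indFun_le {T : Subgroup G} (hHT : H ≤ T) (ψ : T → ℂ) :
    (fun n : H => indFun T ψ n) =
      (Nat.card T : ℂ)⁻¹ • ∑ g : G, conjChar H g (fun n : H => ψ ⟨(n : G), hHT n.2⟩) := by
  funext h
  rw [indFun_apply']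
  simp only [Pi.smul_apply, Finset.sum_apply, smul_eq_mul]
  congr 1
  exact Finset.sum_congr rfl fun g _ => extendByZero_of_mem _ _ (hHT (hN.conj_mem h h.2 g))

/-- The multiplicity of `θ` is preserved by induction from `T ≥ I_G(θ)`. -/
theorem classInner_res_indFun_of_inertia_le {T : Subgroup G} (hHT : H ≤ T) [Fintype H]
    {θ : H → ℂ} (hθ : IsIrrCharacter H θ) (hT : inertia H θ ≤ T) {ψ : T → ℂ}
    (hψ : IsIrrCharacter T ψ) (h1 : classInner (fun n : H => ψ ⟨(n : G), hHT n.2⟩) θ ≠ 0) :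
    classInner (fun n : H => indFun T ψ n) θ =
      classInner (fun n : H => ψ ⟨(n : G), hHT n.2⟩) θ := by
  classical
  have : Fintype T := Fintype.ofFinite _
  rw [res_indFun_le H hHT, classInner_smul_left, classInner_sum_left]
  have h2 : ∀ g : G, classInner (conjChar H g (fun n : H => ψ ⟨(n : G), hHT n.2⟩)) θ =
      extendByZero T (fun _ => classInner (fun n : H => ψ ⟨(n : G), hHT n.2⟩) θ) g := by
    intro g
    rw [classInner_conjChar_left]
    by_cases hg : g ∈ T
    · rw [extendByZero_of_mem _ _ hg,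
        classInner_res_le_conjChar H hHT (irr_isClassFunction hψ) θ (T.inv_mem hg)]
    · rw [extendByZero_of_not_mem _ _ hg]
      by_contra h3
      obtain ⟨t, ht, h4⟩ := exists_conjChar_of_constituents_le H hHT hψ hθ
        (irr_conjChar H hθ g⁻¹) h1 h3
      have h5 := hT ((conjChar_eq_conjChar_iff H θ _ _).1 h4)
      apply hg
      have := T.inv_mem (T.mul_mem h5 ht)
      simpa using this
  simp only [h2, sum_extendByZero, Finset.sum_const, Finset.card_univ, nsmul_eq_mul]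
  rw [← Nat.card_eq_fintype_card, ← mul_assoc, inv_mul_cancel₀ (natCard_cast_ne_zero T), one_mul]

omit hN in
/-- A constituent of `Ind_T^G ψ` lies over `θ` with multiplicity at least that of `ψ`. -/
theorem classInner_res_le_of_constituent {T : Subgroup G} (hHT : H ≤ T) [Fintype H]
    {θ : H → ℂ} (hθ : IsCharacter H θ) {ψ : T → ℂ} (hψ : IsIrrCharacter T ψ) {χ : G → ℂ}
    (hχ : IsCharacter G χ) (h : classInner (indFun T ψ) χ ≠ 0) :
    (classInner (fun n : H => ψ ⟨(n : G), hHT n.2⟩) θ).re ≤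
      (classInner (fun n : H => χ n) θ).re := by
  have : Fintype T := Fintype.ofFinite _
  rw [classInner_indFun_left _ _ (char_isClassFunction hχ), Ne, classInner_eq_zero_comm] at h
  have h1 := char_inner_re_nonneg
    (char_res_le hHT (char_sub_irr (char_restrict hχ T) hψ h)) hθ
  have h2 : (fun n : H => χ n) = (fun n : H => ψ ⟨(n : G), hHT n.2⟩) +
      fun n : H => ((fun x : T => χ x) - ψ) ⟨(n : G), hHT n.2⟩ := by
    funext n; simp
  rw [h2, classInner_add_left, Complex.add_re]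
  linarith

/-- **Clifford correspondence**, irreducibility. -/
theorem irr_indFun_of_inertia_le_of_over {T : Subgroup G} (hHT : H ≤ T) [Fintype H]
    {θ : H → ℂ} (hθ : IsIrrCharacter H θ) (hT : inertia H θ ≤ T) {ψ : T → ℂ}
    (hψ : IsIrrCharacter T ψ) (h1 : classInner (fun n : H => ψ ⟨(n : G), hHT n.2⟩) θ ≠ 0) :
    IsIrrCharacter G (indFun T ψ) := by
  have hθc := irr_isCharacter hθ
  have hI := char_indFun T (irr_isCharacter hψ)
  obtain ⟨χ, hχ, h2⟩ := char_exists_irr_constituent hI (indFun_ne_zero T (irr_apply_one_ne_zero hψ))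
  have hΔ := char_sub_irr hI hχ h2
  by_cases h0 : indFun T ψ - χ = 0
  · rw [sub_eq_zero.1 h0]; exact hχ
  exfalso
  obtain ⟨χ', hχ', h3⟩ := char_exists_irr_constituent hΔ h0
  have h4 : classInner (indFun T ψ) χ' ≠ 0 := by
    have := inner_add_ne_zero_left hΔ (irr_isCharacter hχ) (irr_isCharacter hχ') h3
    rwa [sub_add_cancel] at this
  have hΔ' := char_sub_irr hΔ hχ' h3
  have e1 := classInner_res_le_of_constituent H hHT hθc hψ (irr_isCharacter hχ) h2
  have e2 := classInner_res_le_of_constituent H hHT hθc hψ (irr_isCharacter hχ') h4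
  have e3 := classInner_res_indFun_of_inertia_le H hHT hθ hT hψ h1
  have e4 := char_inner_re_nonneg (char_restrict hΔ' H) hθc
  have h5 : (fun n : H => indFun T ψ n) = (fun n : H => χ n) + (fun n : H => χ' n) +
      fun n : H => (indFun T ψ - χ - χ') n := by
    funext n; simp
  rw [h5, classInner_add_left, classInner_add_left] at e3
  have e5 := congrArg Complex.re e3
  simp only [Complex.add_re] at e5
  obtain ⟨f, hf⟩ := char_inner_nat (char_res_le hHT (irr_isCharacter hψ)) hθc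
  rw [hf] at h1 e1 e2 e5
  have : (0 : ℝ) < f := by exact_mod_cast Nat.pos_of_ne_zero (fun h => h1 (by simp [h]))
  simp only [Complex.natCast_re] at e1 e2 e5
  linarith

/-- **Clifford correspondence**, injectivity. -/
theorem eq_of_indFun_eq_of_over {T : Subgroup G} (hHT : H ≤ T) [Fintype H]
    {θ : H → ℂ} (hθ : IsIrrCharacter H θ) (hT : inertia H θ ≤ T) {ψ ψ' : T → ℂ}
    (hψ : IsIrrCharacter T ψ) (hψ' : IsIrrCharacter T ψ')
    (h1 : classInner (fun n : H => ψ ⟨(n : G), hHT n.2⟩) θ ≠ 0)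
    (h1' : classInner (fun n : H => ψ' ⟨(n : G), hHT n.2⟩) θ ≠ 0)
    (h : indFun T ψ = indFun T ψ') : ψ = ψ' := by
  have : Fintype T := Fintype.ofFinite _
  have hθc := irr_isCharacter hθ
  by_contra hne
  have hχ := irr_indFun_of_inertia_le_of_over H hHT hθ hT hψ h1
  set χ := indFun T ψ with hχdef
  have hR := char_restrict (irr_isCharacter hχ) T
  have a1 : classInner (fun x : T => χ x) ψ ≠ 0 := by
    rw [← classInner_indFun_right T ψ (irr_isClassFunction hχ), irr_inner_self hχ]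
    exact one_ne_zero
  have a2 : classInner (fun x : T => χ x) ψ' ≠ 0 := by
    rw [← classInner_indFun_right T ψ' (irr_isClassFunction hχ), ← h, irr_inner_self hχ]
    exact one_ne_zero
  have hΔ := char_sub_irr hR hψ a1
  have a3 : classInner ((fun x : T => χ x) - ψ) ψ' ≠ 0 := by
    rwa [classInner_sub_left, irr_inner_of_ne hψ hψ' hne, sub_zero]
  have hΔ' := char_sub_irr hΔ hψ' a3
  have e3 := classInner_res_indFun_of_inertia_le H hHT hθ hT hψ h1
  have e4 := char_inner_re_nonneg (char_res_le hHT hΔ') hθc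
  have h5 : (fun n : H => χ n) = (fun n : H => ψ ⟨(n : G), hHT n.2⟩) +
      (fun n : H => ψ' ⟨(n : G), hHT n.2⟩) +
      fun n : H => ((fun x : T => χ x) - ψ - ψ') ⟨(n : G), hHT n.2⟩ := by
    funext n; simp
  rw [← hχdef, h5, classInner_add_left, classInner_add_left] at e3
  have e5 := congrArg Complex.re e3
  simp only [Complex.add_re] at e5
  obtain ⟨f, hf⟩ := char_inner_nat (char_res_le hHT (irr_isCharacter hψ')) hθc
  rw [hf] at h1' e5
  have : (0 : ℝ) < f := by exact_mod_cast Nat.pos_of_ne_zero (fun h => h1' (by simp [h]))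
  simp only [Complex.natCast_re] at e5
  linarith

omit hN [Fintype G] in
/-- A character of `G` lying over `θ` has a constituent on `T ≥ H` lying over `θ`. -/
theorem exists_irr_between {T : Subgroup G} (hHT : H ≤ T) [Fintype H] [Fintype T] {θ : H → ℂ}
    {χ : G → ℂ} (hχ : IsClassFunction G χ) (h : classInner (fun n : H => χ n) θ ≠ 0) :
    ∃ ψ : T → ℂ, IsIrrCharacter T ψ ∧ classInner (fun x : T => χ x) ψ ≠ 0 ∧
      classInner (fun n : H => ψ ⟨(n : G), hHT n.2⟩) θ ≠ 0 := by
  have h1 := classInner_indFun_subgroupOf_right hHT θ (classFun_restrict hχ T)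
  rw [← h1] at h
  obtain ⟨ψ, hψ, h2, h3⟩ := exists_irr_of_inner_ne_zero (classFun_restrict hχ T) h
  refine ⟨ψ, hψ, h2, ?_⟩
  rwa [classInner_indFun_subgroupOf_left hHT θ (irr_isClassFunction hψ), Ne,
    classInner_eq_zero_comm] at h3

/-- **Clifford correspondence**, surjectivity. -/
theorem exists_indFun_eq_of_over {T : Subgroup G} (hHT : H ≤ T) [Fintype H]
    {θ : H → ℂ} (hθ : IsIrrCharacter H θ) (hT : inertia H θ ≤ T) {χ : G → ℂ}
    (hχ : IsIrrCharacter G χ) (h : classInner (fun n : H => χ n) θ ≠ 0) :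
    ∃ ψ : T → ℂ, IsIrrCharacter T ψ ∧ indFun T ψ = χ ∧
      classInner (fun n : H => ψ ⟨(n : G), hHT n.2⟩) θ = classInner (fun n : H => χ n) θ := by
  have : Fintype T := Fintype.ofFinite _
  obtain ⟨ψ, hψ, h1, h2⟩ := exists_irr_between H hHT (irr_isClassFunction hχ) h
  have h3 := eq_indFun_of_inner_ne_zero T hχ
    (irr_indFun_of_inertia_le_of_over H hHT hθ hT hψ h2) h1
  refine ⟨ψ, hψ, h3.symm, ?_⟩
  rw [h3, classInner_res_indFun_of_inertia_le H hHT hθ hT hψ h2]

/-- **Clifford correspondence** as a bijection. -/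
theorem clifford_bijOn {T : Subgroup G} (hHT : H ≤ T) [Fintype H]
    {θ : H → ℂ} (hθ : IsIrrCharacter H θ) (hT : inertia H θ ≤ T) :
    Set.BijOn (indFun T)
      {ψ | IsIrrCharacter T ψ ∧ classInner (fun n : H => ψ ⟨(n : G), hHT n.2⟩) θ ≠ 0}
      {χ | IsIrrCharacter G χ ∧ classInner (fun n : H => χ n) θ ≠ 0} := by
  refine ⟨fun ψ hψ => ⟨irr_indFun_of_inertia_le_of_over H hHT hθ hT hψ.1 hψ.2, ?_⟩,
    fun ψ hψ ψ' hψ' h => eq_of_indFun_eq_of_over H hHT hθ hT hψ.1 hψ'.1 hψ.2 hψ'.2 h,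
    fun χ hχ => ?_⟩
  · rw [classInner_res_indFun_of_inertia_le H hHT hθ hT hψ.1 hψ.2]; exact hψ.2
  · obtain ⟨ψ, hψ, h1, h2⟩ := exists_indFun_eq_of_over H hHT hθ hT hχ.1 hχ.2
    exact ⟨ψ, ⟨hψ, by rw [h2]; exact hχ.2⟩, h1⟩

/-- If the inertia group of `θ` is `H`, every irreducible character over `θ` is `Ind θ`. -/
theorem eq_indFun_of_inertia_le [Fintype H] {θ : H → ℂ} (hθ : IsIrrCharacter H θ)
    (hT : inertia H θ ≤ H) {χ : G → ℂ} (hχ : IsIrrCharacter G χ)
    (h : classInner (fun n : H => χ n) θ ≠ 0) : χ = indFun H θ :=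
  eq_indFun_of_inner_ne_zero H hχ (irr_indFun_of_inertia_le H hθ hT) h

end CL.Char
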