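import Cfsg.Agent.Base
import Cfsg.Agent.Char.Burnside

/-!
Degrees of irreducible characters versus indices of subgroups: Ito's theorem, the bound by the
index of an abelian subgroup, the centre of a character.
-/

set_option autoImplicit false

open Module Cfsg Polynomial
open scoped ComplexConjugate

namespace CL.Char

variable {G : Type*} [Group G]

/-- `(q, a) ↦ q.out * a` is a bijection `(G ⧸ A) × A → G`. -/
theorem bijective_out_mul (A : Subgroup G) :
    Function.Bijective (fun x : (G ⧸ A) × A => x.1.out * (x.2 : G)) := by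
  constructor
  · rintro ⟨q, a⟩ ⟨q', a'⟩ h
    have h1 : q = q' := by
      have := congrArg (QuotientGroup.mk (s := A)) h
      simpa [QuotientGroup.mk_mul_of_mem] using this
    subst h1
    exact Prod.ext rfl (Subtype.ext (mul_left_cancel h))
  · intro g
    obtain ⟨a, ha⟩ := QuotientGroup.mk_out_eq_mul A g
    exact ⟨⟨g, a⁻¹⟩, by simp [ha]⟩

theorem sum_eq_sum_out_mul [Fintype G] (A : Subgroup G) [Fintype A] [Fintype (G ⧸ A)] {M : Type*}
    [AddCommMonoid M] (f : G → M) : ∑ g, f g = ∑ q : G ⧸ A, ∑ a : A, f (q.out * a) := by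
  rw [← Fintype.sum_prod_type']
  exact (Fintype.sum_bijective _ (bijective_out_mul A) _ _ fun _ => rfl).symm

section Rep

variable {V : Type*} [AddCommGroup V] [Module ℂ V] [FiniteDimensional ℂ V]

/-- An abelian subgroup has a common eigenvector in every nonzero representation. -/
theorem exists_common_eigenvector [Nontrivial V] (ρ : Representation ℂ G V) (A : Subgroup G)
    (hA : ∀ a ∈ A, ∀ b ∈ A, a * b = b * a) :
    ∃ v : V, v ≠ 0 ∧ ∀ a ∈ A, ∃ c : ℂ, ρ a v = c • v := by
  obtain ⟨U, hU⟩ := exists_irreducible_subrep (ρ.comp A.subtype : Representation ℂ A V)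
  have := nontrivial_of_isIrreducible U.toRepresentation
  obtain ⟨v, hv⟩ := exists_ne (0 : U.toSubmodule)
  refine ⟨v, fun h => hv (Subtype.ext h), fun a ha => ?_⟩
  obtain ⟨c, hc⟩ := exists_eq_smul_id_of_commutator_mem_ker U.toRepresentation (z := ⟨a, ha⟩)
    fun g => congrArg _ (Subtype.ext (hA a ha g g.2))
  exact ⟨c, congrArg Subtype.val (congrArg (fun f : _ →ₗ[ℂ] _ => f v) hc)⟩

omit [FiniteDimensional ℂ V] in
/-- The eigenvalues on a common eigenvector form a linear character. -/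
theorem exists_hom_of_common_eigenvector (ρ : Representation ℂ G V) (A : Subgroup G) {v : V}
    (hv : v ≠ 0) (h : ∀ a ∈ A, ∃ c : ℂ, ρ a v = c • v) :
    ∃ l : A →* ℂˣ, ∀ a : A, ρ a v = (l a : ℂ) • v := by
  choose c hc using fun a : A => h a a.2
  let l : A →* ℂ :=
    { toFun := c
      map_one' := smul_left_injective ℂ hv (by simpa using (hc 1).symm)
      map_mul' := fun a b => smul_left_injective ℂ hv (by
        simp only [← hc, Subgroup.coe_mul, map_mul, Module.End.mul_apply]
        rw [hc b, map_smul, hc a, smul_smul, mul_comm]) }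
  exact ⟨l.toHomUnits, hc⟩

omit [FiniteDimensional ℂ V] in
/-- If a subgroup `A` has a common eigenvector in an irreducible representation, the degree is at
most the index of `A`. -/
theorem finrank_le_index_of_eigen [Finite G] (ρ : Representation ℂ G V) [hρ : ρ.IsIrreducible]
    (A : Subgroup G) {v : V} (hv : v ≠ 0) (h : ∀ a ∈ A, ∃ c : ℂ, ρ a v = c • v) :
    finrank ℂ V ≤ A.index := by
  have := Fintype.ofFinite (G ⧸ A)
  let w : G ⧸ A → V := fun q => ρ q.out v
  have hw : ∀ g : G, ρ g v ∈ Submodule.span ℂ (Set.range w) := by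
    intro g
    obtain ⟨⟨q, a⟩, rfl⟩ := (bijective_out_mul A).2 g
    obtain ⟨c, hc⟩ := h a a.2
    simp only [map_mul, Module.End.mul_apply, hc, map_smul]
    exact Submodule.smul_mem _ _ (Submodule.subset_span ⟨q, rfl⟩)
  have htop : Submodule.span ℂ (Set.range w) = ⊤ := by
    refine (((isIrreducible_iff ρ).1 hρ).2 _ fun g x hx => ?_).resolve_left fun hb => hv ?_
    · induction hx using Submodule.span_induction with
      | mem x hx =>
        obtain ⟨q, rfl⟩ := hx
        simpa only [w, ← Module.End.mul_apply, ← map_mul] using hw (g * q.out)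
      | zero => simp
      | add x y _ _ hx hy => rw [map_add]; exact add_mem hx hy
      | smul c x _ hx => rw [map_smul]; exact Submodule.smul_mem _ _ hx
    · simpa [hb] using hw 1
  rw [Subgroup.index, Nat.card_eq_fintype_card, ← finrank_top, ← htop]
  exact finrank_range_le_card w

/-- The degree of an irreducible representation is at most the index of an abelian subgroup. -/
theorem finrank_le_index_of_comm [Finite G] (ρ : Representation ℂ G V) [ρ.IsIrreducible]
    (A : Subgroup G) (hA : ∀ a ∈ A, ∀ b ∈ A, a * b = b * a) : finrank ℂ V ≤ A.index := by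
  have := nontrivial_of_isIrreducible ρ
  obtain ⟨v, hv, h⟩ := exists_common_eigenvector ρ A hA
  exact finrank_le_index_of_eigen ρ A hv h

theorem isIntegral_of_pow_succ_eq_self {R : Type*} [Ring R] {x : R} {m : ℕ} (hm : m ≠ 0)
    (h : x ^ (m + 1) = x) : IsIntegral ℤ x := by
  refine ⟨X ^ (m + 1) - X, ?_, by simp [h]⟩
  apply Monic.sub_of_left (monic_X_pow _)
  rw [degree_X_pow, degree_X]
  exact_mod_cast Nat.succ_lt_succ (Nat.pos_of_ne_zero hm)

/-- For a linear character `l` of a normal subgroup `A`, the average over `a ∈ A` of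
`l a * χ (a⁻¹ * t)` is an algebraic integer. -/
theorem isIntegral_avg_mul_character [Finite G] (ρ : Representation ℂ G V) (A : Subgroup G)
    [hA : A.Normal] [Fintype A] (l : A →* ℂˣ) (t : G) :
    IsIntegral ℤ ((Nat.card A : ℂ)⁻¹ * ∑ a : A, (l a : ℂ) * ρ.character ((a : G)⁻¹ * t)) := by
  have hA0 : (Nat.card A : ℂ) ≠ 0 := Nat.cast_ne_zero.2 Nat.card_pos.ne'
  let e : Module.End ℂ V := (Nat.card A : ℂ)⁻¹ • ∑ a : A, (l a : ℂ) • ρ (a : G)⁻¹
  have h1 : ∀ b : A, ρ b * e = (l b : ℂ) • e := by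
    intro b
    simp only [e, mul_smul_comm, Finset.mul_sum, ← map_mul]
    rw [smul_comm (l b : ℂ), Finset.smul_sum (r := (l b : ℂ))]
    congr 1
    refine (Fintype.sum_equiv (Equiv.mulRight b) _ _ fun a => ?_).symm
    simp [smul_smul, mul_comm]
  have h2 : ∀ b : A, e * ρ b = (l b : ℂ) • e := by
    intro b
    simp only [e, smul_mul_assoc, Finset.sum_mul, ← map_mul]
    rw [smul_comm (l b : ℂ), Finset.smul_sum (r := (l b : ℂ))]
    congr 1
    refine (Fintype.sum_equiv (Equiv.mulLeft b) _ _ fun a => ?_).symm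
    simp [smul_smul]
  have h3 : e * e = e := by
    conv_lhs => arg 1; unfold e
    rw [smul_mul_assoc, Finset.sum_mul]
    have : ∀ a : A, ((l a : ℂ) • ρ (a : G)⁻¹) * e = e := fun a => by
      rw [smul_mul_assoc, ← Subgroup.coe_inv, h1, smul_smul, ← Units.val_mul, ← map_mul,
        mul_inv_cancel, map_one, Units.val_one, one_smul]
    simp only [this, Finset.sum_const, Finset.card_univ, ← Nat.card_eq_fintype_card]
    rw [← Nat.cast_smul_eq_nsmul ℂ, smul_smul, inv_mul_cancel₀ hA0, one_smul]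
  have htr : (Nat.card A : ℂ)⁻¹ * ∑ a : A, (l a : ℂ) * ρ.character ((a : G)⁻¹ * t) =
      LinearMap.trace ℂ V (e * ρ t) := by
    simp only [e, smul_mul_assoc, Finset.sum_mul, map_smul, map_sum, smul_eq_mul, ← map_mul]
    rfl
  rw [htr]
  by_cases ht : ∀ a : A, l ⟨t⁻¹ * a * t, hA.conj_mem' a a.2 t⟩ = l a
  · have hc : e * ρ t = ρ t * e := by
      simp only [e, smul_mul_assoc, mul_smul_comm, Finset.sum_mul, Finset.mul_sum, ← map_mul]
      congr 1
      refine Fintype.sum_equiv (MulAut.conjNormal (H := A) t⁻¹).toEquiv _ _ fun a => ?_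
      have h4 : (MulAut.conjNormal (H := A) t⁻¹).toEquiv a =
          ⟨t⁻¹ * a * t, hA.conj_mem' a a.2 t⟩ := Subtype.ext (by simp)
      rw [h4, ht]
      congr 2
      simp [mul_assoc]
    refine isIntegral_trace_of_isIntegral (isIntegral_of_pow_succ_eq_self (orderOf_pos t).ne' ?_)
    have he : e ^ (orderOf t + 1) = e := IsIdempotentElem.pow_succ_eq _ h3
    rw [Commute.mul_pow hc, he, ← map_pow, pow_succ, pow_orderOf_eq_one, one_mul]
  · push Not at ht
    obtain ⟨a, ha⟩ := ht
    have h5 : e * ρ t * e = 0 := by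
      have h6 : (l a : ℂ) • (e * ρ t * e) =
          (l ⟨t⁻¹ * a * t, hA.conj_mem' a a.2 t⟩ : ℂ) • (e * ρ t * e) := by
        rw [← smul_mul_assoc, ← smul_mul_assoc, ← h2, ← mul_smul_comm, ← h1]
        simp only [mul_assoc, ← map_mul]
        rw [← mul_assoc (ρ t), ← map_mul]
        simp [mul_assoc]
      rw [← sub_eq_zero, ← sub_smul, smul_eq_zero] at h6
      exact h6.resolve_left fun h => ha (Units.ext (sub_eq_zero.1 h).symm)
    rw [← h3, mul_assoc, LinearMap.trace_mul_comm, h5, map_zero]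
    exact isIntegral_zero

/-- If a normal subgroup `A` has a common eigenvector in an irreducible representation, the degree
divides the index of `A`. -/
theorem finrank_dvd_index_of_eigen [Finite G] (ρ : Representation ℂ G V) [ρ.IsIrreducible]
    (A : Subgroup G) [A.Normal] {v : V} (hv : v ≠ 0) (h : ∀ a ∈ A, ∃ c : ℂ, ρ a v = c • v) :
    finrank ℂ V ∣ A.index := by
  have := Fintype.ofFinite G
  have := Fintype.ofFinite A
  have := Fintype.ofFinite (G ⧸ A)
  obtain ⟨l, hl⟩ := exists_hom_of_common_eigenvector ρ A hv h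
  have hA0 : (Nat.card A : ℂ) ≠ 0 := Nat.cast_ne_zero.2 Nat.card_pos.ne'
  refine nat_dvd_of_isIntegral_div (finrank_pos_of_isIrreducible ρ).ne' ?_
  refine isIntegral_of_eigen_sum_smul ρ Finset.univ _ (fun q : G ⧸ A => q.out)
    (fun q _ => isIntegral_avg_mul_character ρ A l q.out⁻¹) hv ?_
  have h1 := congrArg (fun T : V →ₗ[ℂ] V => T v) (sum_character_inv_smul ρ)
  simp only [LinearMap.sum_apply, LinearMap.smul_apply, LinearMap.id_apply] at h1
  rw [sum_eq_sum_out_mul A] at h1
  have h2 : (A.index : ℂ) / finrank ℂ V = (Nat.card A : ℂ)⁻¹ * (Nat.card G / finrank ℂ V) := by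
    rw [← A.card_mul_index]; push_cast; field_simp
  rw [h2, mul_smul, ← h1, Finset.smul_sum]
  refine Finset.sum_congr rfl fun q _ => ?_
  rw [mul_smul, Finset.sum_smul]
  congr 1
  refine Finset.sum_congr rfl fun a _ => ?_
  rw [map_mul, Module.End.mul_apply, hl, map_smul, smul_smul, mul_inv_rev, mul_comm]

/-- Ito's theorem. -/
theorem finrank_dvd_index_of_comm [Finite G] (ρ : Representation ℂ G V) [ρ.IsIrreducible]
    (A : Subgroup G) [A.Normal] (hA : ∀ a ∈ A, ∀ b ∈ A, a * b = b * a) :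
    finrank ℂ V ∣ A.index := by
  have := nontrivial_of_isIrreducible ρ
  obtain ⟨v, hv, h⟩ := exists_common_eigenvector ρ A hA
  exact finrank_dvd_index_of_eigen ρ A hv h

theorem finrank_dvd_index_center [Finite G] (ρ : Representation ℂ G V) [ρ.IsIrreducible] :
    finrank ℂ V ∣ (Subgroup.center G).index :=
  finrank_dvd_index_of_comm ρ _ fun _ _ _ hb => Subgroup.mem_center_iff.1 hb _

end Rep

section Fun

variable [Finite G] {χ : G → ℂ}

theorem irr_deg_dvd_card (hχ : IsIrrCharacter G χ) : deg χ ∣ Nat.card G := by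
  obtain ⟨n, ρ, hρ, rfl⟩ := hχ
  rw [deg_character]; exact finrank_dvd_card ρ

theorem irr_deg_dvd_index_of_comm (hχ : IsIrrCharacter G χ) (A : Subgroup G) [A.Normal]
    (hA : ∀ a ∈ A, ∀ b ∈ A, a * b = b * a) : deg χ ∣ A.index := by
  obtain ⟨n, ρ, hρ, rfl⟩ := hχ
  rw [deg_character]; exact finrank_dvd_index_of_comm ρ A hA

theorem irr_deg_le_index_of_comm (hχ : IsIrrCharacter G χ) (A : Subgroup G)
    (hA : ∀ a ∈ A, ∀ b ∈ A, a * b = b * a) : deg χ ≤ A.index := by
  obtain ⟨n, ρ, hρ, rfl⟩ := hχ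
  rw [deg_character]; exact finrank_le_index_of_comm ρ A hA

theorem irr_deg_dvd_index_charCenter (hχ : IsIrrCharacter G χ) :
    deg χ ∣ (charCenter χ).index := by
  have := charCenter_normal (irr_isClassFunction hχ)
  obtain ⟨n, ρ, hρ, rfl⟩ := hχ
  have := nontrivial_of_isIrreducible ρ
  obtain ⟨v, hv⟩ := exists_ne (0 : Fin n → ℂ)
  rw [deg_character]
  refine finrank_dvd_index_of_eigen ρ _ hv fun a ha => ?_
  obtain ⟨c, hc⟩ := (mem_charCenter_character_iff ρ a).1 ha
  exact ⟨c, by simp [hc]⟩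

theorem irr_deg_dvd_index_center (hχ : IsIrrCharacter G χ) :
    deg χ ∣ (Subgroup.center G).index :=
  irr_deg_dvd_index_of_comm hχ _ fun _ _ _ hb => Subgroup.mem_center_iff.1 hb _

/-- The degree of an irreducible character of a `p`-group is a power of `p`. -/
theorem irr_deg_eq_pow_of_isPGroup {p : ℕ} [hp : Fact p.Prime] (hG : IsPGroup p G)
    (hχ : IsIrrCharacter G χ) : ∃ k, deg χ = p ^ k := by
  obtain ⟨n, hn⟩ := IsPGroup.iff_card.1 hG
  obtain ⟨k, -, hk⟩ := (Nat.dvd_prime_pow hp.out).1 (hn ▸ irr_deg_dvd_card hχ)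
  exact ⟨k, hk⟩

/-- `χ(1) ^ 2 * |Z| ≤ |G|` for a subgroup `Z` of the centre of `χ`, with equality iff `χ` vanishes
off `Z`. -/
theorem irr_deg_sq_mul_card_add [Fintype G] (hχ : IsIrrCharacter G χ) (Z : Subgroup G)
    (hZ : Z ≤ charCenter χ) [DecidablePred (· ∈ Z)] :
    (deg χ : ℝ) ^ 2 * Nat.card Z + ∑ g with g ∉ Z, ‖χ g‖ ^ 2 = Nat.card G := by
  rw [← irr_sum_norm_sq hχ, ← Finset.sum_filter_add_sum_filter_not Finset.univ (· ∈ Z)]
  congr 1
  rw [Finset.sum_congr rfl (g := fun _ => (deg χ : ℝ) ^ 2) fun g hg => by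
    rw [(char_mem_charCenter_iff (irr_isCharacter hχ)).1 (hZ (Finset.mem_filter.1 hg).2),
      ← irr_cast_deg hχ, Complex.norm_natCast]]
  rw [Finset.sum_const, nsmul_eq_mul, mul_comm,
    Nat.subtype_card (Finset.univ.filter (· ∈ Z)) (by simp)]

theorem irr_deg_sq_le_index (hχ : IsIrrCharacter G χ) (Z : Subgroup G)
    (hZ : Z ≤ charCenter χ) : deg χ ^ 2 ≤ Z.index := by
  classical
  have := Fintype.ofFinite G
  have h := irr_deg_sq_mul_card_add hχ Z hZ
  have h0 : 0 ≤ ∑ g with g ∉ Z, ‖χ g‖ ^ 2 := Finset.sum_nonneg fun _ _ => by positivity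
  have h1 : (deg χ : ℝ) ^ 2 * Nat.card Z ≤ Nat.card G := by linarith
  have h2 : deg χ ^ 2 * Nat.card Z ≤ Nat.card G := by exact_mod_cast h1
  rw [← Z.index_mul_card] at h2
  exact Nat.le_of_mul_le_mul_right h2 Nat.card_pos

theorem irr_deg_sq_eq_index_iff (hχ : IsIrrCharacter G χ) (Z : Subgroup G)
    (hZ : Z ≤ charCenter χ) : deg χ ^ 2 = Z.index ↔ ∀ g, g ∉ Z → χ g = 0 := by
  classical
  have := Fintype.ofFinite G
  have h := irr_deg_sq_mul_card_add hχ Z hZ
  have hZ0 : (Nat.card Z : ℝ) ≠ 0 := Nat.cast_ne_zero.2 Nat.card_pos.ne'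
  rw [← Z.index_mul_card] at h
  push_cast at h
  have h1 : deg χ ^ 2 = Z.index ↔ ∑ g with g ∉ Z, ‖χ g‖ ^ 2 = 0 := by
    constructor
    · intro h2
      have h3 : (deg χ : ℝ) ^ 2 = Z.index := by exact_mod_cast h2
      rw [h3] at h; linarith
    · intro h2
      rw [h2, add_zero] at h
      exact_mod_cast mul_right_cancel₀ hZ0 h
  rw [h1, Finset.sum_eq_zero_iff_of_nonneg fun _ _ => by positivity]
  simp

theorem irr_deg_sq_le_index_center (hχ : IsIrrCharacter G χ) :
    deg χ ^ 2 ≤ (Subgroup.center G).index :=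
  irr_deg_sq_le_index hχ _ (irr_center_le_charCenter hχ)

end Fun

end CL.Char
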