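import Cfsg.Agent.Base
import Cfsg.Agent.Char.Ito

/-!
Characters of quotient groups, kernels of irreducible characters, faithful characters.
-/

set_option autoImplicit false

open Module Cfsg
open scoped ComplexConjugate

namespace CL.Char

variable {G : Type*} [Group G]

section Lift

variable {H : Type*} [Group H]

/-- A representation whose kernel contains the kernel of a surjection factors through it. -/
theorem exists_rep_comp_eq {k V : Type*} [CommSemiring k] [AddCommMonoid V] [Module k V]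
    (ρ : Representation k G V) (f : G →* H) (hf : Function.Surjective f)
    (hker : f.ker ≤ MonoidHom.ker ρ) : ∃ σ : Representation k H V, ∀ g, σ (f g) = ρ g := by
  let u : G →* (Module.End k V)ˣ := MonoidHom.toHomUnits ρ
  have hu : f.ker ≤ u.ker := fun x hx => Units.ext (hker hx)
  refine ⟨(Units.coeHom _).comp (f.liftOfSurjective hf ⟨u, hu⟩), fun g => ?_⟩
  rw [MonoidHom.comp_apply, MonoidHom.liftOfRightInverse_comp_apply]
  rfl

variable [Finite G] {χ : G → ℂ}

theorem char_exists_comp_eq (hχ : IsCharacter G χ) (f : G →* H) (hf : Function.Surjective f)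
    (hker : ∀ x ∈ f.ker, χ x = χ 1) : ∃ φ : H → ℂ, IsCharacter H φ ∧ ∀ g, φ (f g) = χ g := by
  have hker' : f.ker ≤ charKer χ := fun x hx => (char_mem_charKer_iff hχ).2 (hker x hx)
  obtain ⟨n, ρ, rfl⟩ := hχ
  rw [charKer_character] at hker'
  obtain ⟨σ, hσ⟩ := exists_rep_comp_eq ρ f hf hker'
  exact ⟨σ.character, ⟨n, σ, rfl⟩, fun g => by simp only [Representation.character, hσ]⟩

theorem irr_exists_comp_eq (hχ : IsIrrCharacter G χ) (f : G →* H) (hf : Function.Surjective f)
    (hker : ∀ x ∈ f.ker, χ x = χ 1) : ∃ φ : H → ℂ, IsIrrCharacter H φ ∧ ∀ g, φ (f g) = χ g := by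
  obtain ⟨φ, hφ, h⟩ := char_exists_comp_eq (irr_isCharacter hχ) f hf hker
  have : Finite H := Finite.of_surjective f hf
  exact ⟨φ, irr_of_irr_comp hφ f (by rw [funext h]; exact hχ), h⟩

theorem char_exists_quotient (hχ : IsCharacter G χ) (N : Subgroup G) [N.Normal]
    (hker : ∀ x ∈ N, χ x = χ 1) :
    ∃ φ : G ⧸ N → ℂ, IsCharacter (G ⧸ N) φ ∧ ∀ g : G, φ g = χ g :=
  char_exists_comp_eq hχ (QuotientGroup.mk' N) (QuotientGroup.mk'_surjective N)
    (by rwa [QuotientGroup.ker_mk'])

theorem irr_exists_quotient (hχ : IsIrrCharacter G χ) (N : Subgroup G) [N.Normal]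
    (hker : ∀ x ∈ N, χ x = χ 1) :
    ∃ φ : G ⧸ N → ℂ, IsIrrCharacter (G ⧸ N) φ ∧ ∀ g : G, φ g = χ g :=
  irr_exists_comp_eq hχ (QuotientGroup.mk' N) (QuotientGroup.mk'_surjective N)
    (by rwa [QuotientGroup.ker_mk'])

omit [Finite G] in
theorem char_inflate (N : Subgroup G) [N.Normal] {φ : G ⧸ N → ℂ} (hφ : IsCharacter (G ⧸ N) φ) :
    IsCharacter G (fun g => φ g) := char_comp hφ (QuotientGroup.mk' N)

omit [Finite G] in
theorem irr_inflate (N : Subgroup G) [N.Normal] {φ : G ⧸ N → ℂ} (hφ : IsIrrCharacter (G ⧸ N) φ) :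
    IsIrrCharacter G (fun g => φ g) :=
  irr_comp_surjective hφ (QuotientGroup.mk' N) (QuotientGroup.mk'_surjective N)

omit [Finite G] in
theorem charKer_comp_of_surjective (f : G →* H) (hf : Function.Surjective f) (φ : H → ℂ) :
    charKer (fun g => φ (f g)) = (charKer φ).comap f := by
  refine le_antisymm (fun x hx y => ?_) (charKer_comp_le f φ)
  obtain ⟨y, rfl⟩ := hf y
  simpa using hx y

omit [Finite G] in
theorem charCenter_comp_of_surjective (f : G →* H) (hf : Function.Surjective f) (φ : H → ℂ) :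
    charCenter (fun g => φ (f g)) = (charCenter φ).comap f := by
  ext x
  constructor
  · rintro ⟨c, hc, hx⟩
    refine ⟨c, hc, fun y => ?_⟩
    obtain ⟨y, rfl⟩ := hf y
    simpa using hx y
  · rintro ⟨c, hc, hx⟩
    exact ⟨c, hc, fun y => by simpa using hx (f y)⟩

theorem char_charKer_comp (hχ : IsCharacter G χ) [Finite H] (f : H →* G) :
    charKer (fun h => χ (f h)) = (charKer χ).comap f := by
  ext x
  rw [char_mem_charKer_iff (char_comp hχ f), Subgroup.mem_comap, char_mem_charKer_iff hχ, map_one]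

theorem char_charKer_restrict (hχ : IsCharacter G χ) (K : Subgroup G) :
    charKer (fun h : K => χ h) = (charKer χ).subgroupOf K :=
  char_charKer_comp hχ K.subtype

/-- Inflation along a surjection `f` is a bijection from the irreducible characters of the target
onto the irreducible characters whose kernel contains `ker f`. -/
noncomputable def irrInflateEquiv (f : G →* H) (hf : Function.Surjective f) :
    IrrCharacter H ≃ {χ : IrrCharacter G // ∀ x ∈ f.ker, (χ : G → ℂ) x = (χ : G → ℂ) 1} :=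
  Equiv.ofBijective
    (fun φ => ⟨⟨fun g => φ.1 (f g), irr_comp_surjective φ.2 f hf⟩, fun x hx => by
      simp only [(MonoidHom.mem_ker).1 hx, map_one]⟩)
    ⟨fun φ ψ h => Subtype.ext (funext fun y => by
        obtain ⟨x, rfl⟩ := hf y
        exact congrFun (congrArg (fun t => t.1.1) h) x),
      fun χ => by
        obtain ⟨φ, hφ, h⟩ := irr_exists_comp_eq χ.1.2 f hf χ.2
        exact ⟨⟨φ, hφ⟩, Subtype.ext (Subtype.ext (funext h))⟩⟩

theorem irrInflateEquiv_apply (f : G →* H) (hf : Function.Surjective f) (φ : IrrCharacter H)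
    (g : G) : ((irrInflateEquiv f hf φ).1 : G → ℂ) g = (φ : H → ℂ) (f g) := rfl

/-- A sum over the irreducible characters with `ker f` in their kernel is a sum over the
irreducible characters of the target. -/
theorem sum_irr_ker_eq_sum_comp [Finite H] (f : G →* H) (hf : Function.Surjective f) {M : Type*}
    [AddCommMonoid M] (F : (G → ℂ) → M)
    [DecidablePred fun χ : IrrCharacter G => ∀ x ∈ f.ker, (χ : G → ℂ) x = (χ : G → ℂ) 1] :
    ∑ χ ∈ Finset.univ.filter
      (fun χ : IrrCharacter G => ∀ x ∈ f.ker, (χ : G → ℂ) x = (χ : G → ℂ) 1), F χ =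
      ∑ φ : IrrCharacter H, F (fun g => (φ : H → ℂ) (f g)) := by
  rw [Finset.sum_subtype (p := fun χ : IrrCharacter G => ∀ x ∈ f.ker,
    (χ : G → ℂ) x = (χ : G → ℂ) 1) _ (by simp)]
  exact (Fintype.sum_equiv (irrInflateEquiv f hf) _ _ fun φ => rfl).symm

theorem sum_irr_ker_eq_sum_quotient (N : Subgroup G) [N.Normal] {M : Type*}
    [AddCommMonoid M] (F : (G → ℂ) → M)
    [DecidablePred fun χ : IrrCharacter G => ∀ x ∈ N, (χ : G → ℂ) x = (χ : G → ℂ) 1] :
    ∑ χ ∈ Finset.univ.filter
      (fun χ : IrrCharacter G => ∀ x ∈ N, (χ : G → ℂ) x = (χ : G → ℂ) 1), F χ =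
      ∑ φ : IrrCharacter (G ⧸ N), F (fun g => (φ : G ⧸ N → ℂ) g) := by
  classical
  have := sum_irr_ker_eq_sum_comp (QuotientGroup.mk' N) (QuotientGroup.mk'_surjective N) F
  simp only [QuotientGroup.ker_mk'] at this
  convert this
  rfl

theorem sum_irr_ker_deg_sq (N : Subgroup G) [N.Normal]
    [DecidablePred fun χ : IrrCharacter G => ∀ x ∈ N, (χ : G → ℂ) x = (χ : G → ℂ) 1] :
    ∑ χ ∈ Finset.univ.filter
      (fun χ : IrrCharacter G => ∀ x ∈ N, (χ : G → ℂ) x = (χ : G → ℂ) 1), deg (χ : G → ℂ) ^ 2 =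
      N.index := by
  rw [sum_irr_ker_eq_sum_quotient N (fun χ => deg χ ^ 2), Subgroup.index, ← sum_deg_sq]
  rfl

theorem sum_irr_ker_apply_one_mul_of_not_mem (N : Subgroup G) [N.Normal]
    [DecidablePred fun χ : IrrCharacter G => ∀ x ∈ N, (χ : G → ℂ) x = (χ : G → ℂ) 1]
    {g : G} (hg : g ∉ N) :
    ∑ χ ∈ Finset.univ.filter
      (fun χ : IrrCharacter G => ∀ x ∈ N, (χ : G → ℂ) x = (χ : G → ℂ) 1),
      (χ : G → ℂ) 1 * (χ : G → ℂ) g = 0 := by
  rw [sum_irr_ker_eq_sum_quotient N (fun χ => χ 1 * χ g)]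
  exact sum_irr_apply_one_mul (g := (g : G ⧸ N)) (by rwa [Ne, QuotientGroup.eq_one_iff])

theorem card_irr_ker_eq (N : Subgroup G) [N.Normal] :
    Nat.card {χ : IrrCharacter G // ∀ x ∈ N, (χ : G → ℂ) x = (χ : G → ℂ) 1} =
      Nat.card (IrrCharacter (G ⧸ N)) := by
  rw [Nat.card_congr (irrInflateEquiv (QuotientGroup.mk' N) (QuotientGroup.mk'_surjective N))]
  simp only [QuotientGroup.ker_mk']

end Lift

section Kernels

variable [Finite G] {χ : G → ℂ}

theorem exists_irr_apply_ne {g : G} (hg : g ≠ 1) : ∃ χ, IsIrrCharacter G χ ∧ χ g ≠ χ 1 := by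
  by_contra h
  push Not at h
  exact hg (eq_one_of_irr_apply_eq fun χ => h χ χ.2)

/-- A normal subgroup is the intersection of the kernels of the irreducible characters containing
it. -/
theorem exists_irr_ker_apply_ne (N : Subgroup G) [N.Normal] {g : G} (hg : g ∉ N) :
    ∃ χ, IsIrrCharacter G χ ∧ (∀ x ∈ N, χ x = χ 1) ∧ χ g ≠ χ 1 := by
  obtain ⟨φ, hφ, h⟩ := exists_irr_apply_ne (g := (g : G ⧸ N)) (by rwa [Ne, QuotientGroup.eq_one_iff])
  refine ⟨fun g => φ g, irr_inflate N hφ, fun x hx => ?_, h⟩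
  simp only [(QuotientGroup.eq_one_iff x).2 hx, QuotientGroup.mk_one]

theorem iInf_charKer_eq_bot : ⨅ χ : IrrCharacter G, charKer (χ : G → ℂ) = ⊥ := by
  rw [eq_bot_iff]
  intro g hg
  rw [Subgroup.mem_iInf] at hg
  exact eq_one_of_irr_apply_eq fun χ => apply_eq_of_mem_charKer (hg χ)

theorem iInf_charCenter_eq_center :
    ⨅ χ : IrrCharacter G, charCenter (χ : G → ℂ) = Subgroup.center G := by
  refine le_antisymm (fun z hz => ?_) (le_iInf fun χ => irr_center_le_charCenter χ.2)
  rw [Subgroup.mem_iInf] at hz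
  rw [Subgroup.mem_center_iff]
  intro g
  have : z * g * z⁻¹ * g⁻¹ = 1 := eq_one_of_irr_apply_eq fun χ =>
    apply_eq_of_mem_charKer (char_commutator_mem_charKer (irr_isCharacter χ.2) (hz χ) g)
  calc g * z = (z * g * z⁻¹ * g⁻¹) * (g * z) := by rw [this, one_mul]
    _ = z * g := by group

theorem char_charKer_add {ψ : G → ℂ} (hχ : IsCharacter G χ) (hψ : IsCharacter G ψ) :
    charKer (χ + ψ) = charKer χ ⊓ charKer ψ := by
  ext x
  rw [char_mem_charKer_iff (char_add hχ hψ), Subgroup.mem_inf, char_mem_charKer_iff hχ,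
    char_mem_charKer_iff hψ]
  exact char_add_apply_eq_iff hχ hψ x

/-- The kernel of a character lies in the kernel of each irreducible constituent. -/
theorem char_charKer_le_of_inner_ne_zero [Fintype G] {ψ : G → ℂ} (hχ : IsCharacter G χ)
    (hψ : IsIrrCharacter G ψ) (h : classInner χ ψ ≠ 0) : charKer χ ≤ charKer ψ := by
  have h1 := char_charKer_add (char_sub_irr hχ hψ h) (irr_isCharacter hψ)
  rw [sub_add_cancel] at h1
  rw [h1]; exact inf_le_right

theorem char_apply_eq_of_inner_ne_zero [Fintype G] {ψ : G → ℂ} (hχ : IsCharacter G χ)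
    (hψ : IsIrrCharacter G ψ) (h : classInner χ ψ ≠ 0) {x : G} (hx : χ x = χ 1) : ψ x = ψ 1 :=
  apply_eq_of_mem_charKer
    (char_charKer_le_of_inner_ne_zero hχ hψ h ((char_mem_charKer_iff hχ).2 hx))

omit [Finite G] in
/-- An element lying in the kernel of every irreducible constituent lies in the kernel. -/
theorem char_apply_eq_of_forall_constituent [Fintype G] (hχ : IsCharacter G χ) {x : G}
    (h : ∀ ψ, IsIrrCharacter G ψ → classInner χ ψ ≠ 0 → ψ x = ψ 1) : χ x = χ 1 := by
  rw [classFun_apply_eq_sum (char_isClassFunction hχ) x,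
    classFun_apply_eq_sum (char_isClassFunction hχ) 1]
  refine Finset.sum_congr rfl fun ψ _ => ?_
  by_cases h0 : classInner χ ψ = 0
  · rw [h0, zero_mul, zero_mul]
  · rw [h ψ ψ.2 h0]

omit [Finite G] in
/-- The commutator subgroup lies in the kernel of a linear character. -/
theorem char_commutator_le_charKer_of_apply_one (hχ : IsCharacter G χ) (h1 : χ 1 = 1) :
    commutator G ≤ charKer χ := by
  obtain ⟨f, rfl⟩ := char_exists_unitsHom hχ h1
  refine (Abelianization.commutator_subset_ker f).trans fun x hx y => ?_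
  simp only [map_mul, MonoidHom.mem_ker.1 hx, one_mul]

/-- An irreducible character is linear iff its kernel contains the commutator subgroup. -/
theorem irr_apply_one_eq_one_iff (hχ : IsIrrCharacter G χ) :
    χ 1 = 1 ↔ commutator G ≤ charKer χ := by
  refine ⟨char_commutator_le_charKer_of_apply_one (irr_isCharacter hχ), fun h => ?_⟩
  obtain ⟨φ, hφ, h1⟩ := irr_exists_quotient hχ (commutator G)
    fun x hx => apply_eq_of_mem_charKer (h hx)
  rw [← h1 1]
  exact irr_apply_one_of_comm (mul_comm (G := Abelianization G)) hφ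

/-- If the degree of a character is smaller than every prime divisor of the group order then its
kernel contains the commutator subgroup. -/
theorem char_commutator_le_charKer_of_deg_lt (hχ : IsCharacter G χ)
    (h : ∀ p : ℕ, p.Prime → p ∣ Nat.card G → deg χ < p) : commutator G ≤ charKer χ := by
  have := Fintype.ofFinite G
  intro x hx
  rw [char_mem_charKer_iff hχ]
  refine char_apply_eq_of_forall_constituent hχ fun ψ hψ h0 => ?_
  have h1 : deg ψ = 1 := by
    by_contra hne
    obtain ⟨p, hp, hdvd⟩ := Nat.exists_prime_and_dvd hne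
    have h2 := h p hp (hdvd.trans (irr_deg_dvd_card hψ))
    have h3 := deg_le_of_inner_ne_zero hχ hψ h0
    have h4 := Nat.le_of_dvd (irr_deg_pos hψ) hdvd
    omega
  exact apply_eq_of_mem_charKer (char_commutator_le_charKer_of_apply_one (irr_isCharacter hψ)
    (by rw [← irr_cast_deg hψ, h1, Nat.cast_one]) hx)

/-- A faithful character of a nonabelian `p`-group has degree at least `p`. -/
theorem char_commutator_le_charKer_of_isPGroup {p : ℕ} [hp : Fact p.Prime] (hG : IsPGroup p G)
    (hχ : IsCharacter G χ) (h : deg χ < p) : commutator G ≤ charKer χ := by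
  obtain ⟨n, hn⟩ := IsPGroup.iff_card.1 hG
  refine char_commutator_le_charKer_of_deg_lt hχ fun q hq hdvd => ?_
  rwa [(Nat.prime_dvd_prime_iff_eq hq hp.out).1 (hq.dvd_of_dvd_pow (hn ▸ hdvd))]

/-- On its centre a nonzero character is a multiple of a linear character with the same kernel. -/
theorem char_exists_hom_charCenter (hχ : IsCharacter G χ) (h0 : χ 1 ≠ 0) :
    ∃ l : charCenter χ →* ℂˣ, (∀ (z : charCenter χ) (y : G), χ (z * y) = l z * χ y) ∧
      l.ker = (charKer χ).subgroupOf (charCenter χ) := by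
  choose c hc0 hc using fun z : charCenter χ => z.2
  let l : charCenter χ →* ℂ :=
    { toFun := c
      map_one' := mul_right_cancel₀ h0 (by simpa using (hc 1 1).symm)
      map_mul' := fun a b => mul_right_cancel₀ h0 (by
        rw [← hc, mul_assoc, ← hc, ← hc, Subgroup.coe_mul, mul_assoc]) }
  refine ⟨l.toHomUnits, hc, ?_⟩
  ext z
  rw [MonoidHom.mem_ker, Subgroup.mem_subgroupOf, char_mem_charKer_iff hχ, Units.ext_iff]
  have := hc z 1
  rw [mul_one] at this
  rw [this]
  exact ⟨fun h => by rw [show c z = 1 from h, one_mul],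
    fun h => mul_right_cancel₀ h0 (h.trans (one_mul _).symm)⟩

/-- The centre of a faithful nonzero character is cyclic. -/
theorem char_isCyclic_charCenter (hχ : IsCharacter G χ) (h0 : χ 1 ≠ 0) (hk : charKer χ = ⊥) :
    IsCyclic (charCenter χ) := by
  obtain ⟨l, -, hl⟩ := char_exists_hom_charCenter hχ h0
  rw [hk, Subgroup.bot_subgroupOf, MonoidHom.ker_eq_bot_iff] at hl
  exact isCyclic_of_injective_ringHom ((Units.coeHom ℂ).comp l) (Units.val_injective.comp hl)

/-- A group with a faithful irreducible character has cyclic centre. -/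
theorem irr_isCyclic_center (hχ : IsIrrCharacter G χ) (hk : charKer χ = ⊥) :
    IsCyclic (Subgroup.center G) := by
  rw [← irr_charCenter_eq_center hχ hk]
  exact char_isCyclic_charCenter (irr_isCharacter hχ) (irr_apply_one_ne_zero hχ) hk

/-- If some element `z ≠ 1` lies in every nontrivial normal subgroup then there is a faithful
irreducible character. -/
theorem exists_irr_faithful_of_mem_normal {z : G} (hz : z ≠ 1)
    (h : ∀ N : Subgroup G, N.Normal → N ≠ ⊥ → z ∈ N) :
    ∃ χ, IsIrrCharacter G χ ∧ charKer χ = ⊥ := by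
  obtain ⟨χ, hχ, hne⟩ := exists_irr_apply_ne hz
  refine ⟨χ, hχ, ?_⟩
  by_contra hk
  exact hne (apply_eq_of_mem_charKer (h _ (charKer_normal (irr_isClassFunction hχ)) hk))

end Kernels

end CL.Char
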