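import Cfsg.Agent.Base
import Cfsg.Agent.Char.Galois

/-!
Congruences between character values at `x * y` and `y` for commuting `x`, `y`; sums and products
of character values over sets closed under coprime powers; Burnside's theorem on zeros.
-/

set_option autoImplicit false

open Module Cfsg
open scoped ComplexConjugate

namespace CL.Char

variable {G : Type*} [Group G]

section OneSub

theorem exists_sub_one_eq_one_sub_mul {ζ z : ℂ} {n : ℕ} (hn : n ≠ 0) (hζ : IsPrimitiveRoot ζ n)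
    (hz : z ^ n = 1) : ∃ ω : ℂ, IsIntegral ℤ ω ∧ z - 1 = (1 - ζ) * ω := by
  have := NeZero.mk hn
  obtain ⟨j, -, rfl⟩ := hζ.eq_pow_of_pow_eq_one hz
  refine ⟨-∑ i ∈ Finset.range j, ζ ^ i, (IsIntegral.sum _ fun i _ =>
    (isIntegral_of_pow_eq_one hn hζ.pow_eq_one).pow i).neg, ?_⟩
  rw [← mul_geom_sum]; ring

/-- If `ζ ^ p ^ a = 1` then a power of `1 - ζ` is `p` times an algebraic integer. -/
theorem exists_one_sub_pow_eq_prime_mul {p a : ℕ} (hp : p.Prime) {ζ : ℂ} (hζ : ζ ^ p ^ a = 1) :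
    ∃ ω : ℂ, IsIntegral ℤ ω ∧ (1 - ζ) ^ p ^ a = p * ω := by
  have hint : IsIntegral ℤ ζ := isIntegral_of_pow_eq_one (pow_ne_zero a hp.ne_zero) hζ
  let A := integralClosure ℤ ℂ
  let z : A := ⟨ζ, hint⟩
  obtain ⟨r, hr⟩ := exists_add_pow_prime_pow_eq hp (1 - z) z a
  have hz : z ^ p ^ a = 1 := Subtype.ext (by simpa [z] using hζ)
  rw [sub_add_cancel, one_pow, hz] at hr
  refine ⟨-(((1 - z) * z * r : A) : ℂ), ((1 - z) * z * r).2.neg, ?_⟩
  have h2 : (1 - z) ^ p ^ a = p * -((1 - z) * z * r) := by linear_combination -hr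
  have := congrArg Subtype.val h2
  simpa [z] using this

/-- If an integer is `(1 - ζ)` times an algebraic integer, `ζ` a `p ^ a`-th root of unity, then it
is divisible by `p`. -/
theorem prime_dvd_of_eq_one_sub_mul {p a : ℕ} (hp : p.Prime) {ζ ω : ℂ} (hζ : ζ ^ p ^ a = 1)
    (hω : IsIntegral ℤ ω) {m : ℤ} (h : (m : ℂ) = (1 - ζ) * ω) : (p : ℤ) ∣ m := by
  obtain ⟨η, hη, h1⟩ := exists_one_sub_pow_eq_prime_mul hp hζ
  have hp' : (p : ℂ) ≠ 0 := Nat.cast_ne_zero.2 hp.ne_zero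
  have h2 : (p : ℤ) ∣ m ^ p ^ a := by
    refine int_dvd_of_isIntegral_div (by exact_mod_cast hp.ne_zero) ?_
    push_cast
    rw [h, mul_pow, h1, mul_assoc, mul_div_cancel_left₀ _ hp']
    exact hη.mul (hω.pow _)
  exact (Nat.prime_iff_prime_int.1 hp).dvd_of_dvd_pow h2

variable [Finite G]

/-- If `x` and `y` commute, `x ^ n = 1` and `ζ` is a primitive `n`-th root of unity then
`χ (x * y) ≡ χ y` modulo `1 - ζ`. -/
theorem char_exists_sub_eq_one_sub_mul {χ : G → ℂ} (hχ : IsCharacter G χ) {x y : G}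
    (hxy : x * y = y * x) {n : ℕ} (hn : n ≠ 0) (hx : x ^ n = 1) {ζ : ℂ}
    (hζ : IsPrimitiveRoot ζ n) :
    ∃ ω : ℂ, IsIntegral ℤ ω ∧ χ (x * y) - χ y = (1 - ζ) * ω := by
  let A := Subgroup.closure ({x, y} : Set G)
  have hA : ∀ a b : A, a * b = b * a := by
    have := Subgroup.isMulCommutative_closure (k := ({x, y} : Set G)) (by
      rintro a (rfl | rfl) b (rfl | rfl) <;> simp [hxy])
    exact fun a b => this.is_comm.comm a b
  let x' : A := ⟨x, Subgroup.subset_closure (by simp)⟩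
  let y' : A := ⟨y, Subgroup.subset_closure (by simp)⟩
  have hx' : x' ^ n = 1 := Subtype.ext hx
  obtain ⟨s, -, hs⟩ := char_exists_multiset_unitsHom_of_comm hA (char_restrict hχ A)
  have h1 := hs (x' * y')
  have h2 := hs y'
  change χ (x * y) = _ at h1
  change χ y = _ at h2
  rw [h1, h2]
  clear h1 h2 hs
  induction s using Multiset.induction_on with
  | empty => exact ⟨0, isIntegral_zero, by simp⟩
  | cons f s ih =>
    obtain ⟨ω, hω, h⟩ := ih
    obtain ⟨η, hη, h'⟩ := exists_sub_one_eq_one_sub_mul hn hζ (z := (f x' : ℂ))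
      (by rw [← Units.val_pow_eq_pow_val, ← map_pow, hx', map_one, Units.val_one])
    refine ⟨η * f y' + ω, (hη.mul (char_isIntegral (char_unitsHom f) y')).add hω, ?_⟩
    simp only [Multiset.map_cons, Multiset.sum_cons, map_mul, Units.val_mul] at h ⊢
    linear_combination h + (f y' : ℂ) * h'

theorem gen_exists_sub_eq_one_sub_mul {χ : G → ℂ} (hχ : IsGeneralizedCharacter G χ) {x y : G}
    (hxy : x * y = y * x) {n : ℕ} (hn : n ≠ 0) (hx : x ^ n = 1) {ζ : ℂ}
    (hζ : IsPrimitiveRoot ζ n) :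
    ∃ ω : ℂ, IsIntegral ℤ ω ∧ χ (x * y) - χ y = (1 - ζ) * ω := by
  obtain ⟨φ, ψ, hφ, hψ, rfl⟩ := hχ
  obtain ⟨ω, hω, h⟩ := char_exists_sub_eq_one_sub_mul hφ hxy hn hx hζ
  obtain ⟨η, hη, h'⟩ := char_exists_sub_eq_one_sub_mul hψ hxy hn hx hζ
  refine ⟨ω - η, hω.sub hη, ?_⟩
  simp only [Pi.sub_apply]
  linear_combination h - h'

/-- If `x` is a `p`-element commuting with `y` then a power of `χ (x * y) - χ y` is `p` times an
algebraic integer, i.e. `χ (x * y) ≡ χ y` modulo every prime ideal above `p`. -/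
theorem gen_exists_sub_pow_eq_prime_mul {χ : G → ℂ} (hχ : IsGeneralizedCharacter G χ) {x y : G}
    (hxy : x * y = y * x) {p a : ℕ} (hp : p.Prime) (hx : x ^ p ^ a = 1) :
    ∃ ω : ℂ, IsIntegral ℤ ω ∧ (χ (x * y) - χ y) ^ p ^ a = p * ω := by
  have hn := pow_ne_zero a hp.ne_zero
  have hζ := Complex.isPrimitiveRoot_exp _ hn
  obtain ⟨ω, hω, h⟩ := gen_exists_sub_eq_one_sub_mul hχ hxy hn hx hζ
  obtain ⟨η, hη, h'⟩ := exists_one_sub_pow_eq_prime_mul hp hζ.pow_eq_one
  exact ⟨η * ω ^ p ^ a, hη.mul (hω.pow _), by rw [h, mul_pow, h', mul_assoc]⟩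

/-- If `x` is a `p`-element commuting with `y` and `χ (x * y) - χ y` is an integer, it is
divisible by `p`. -/
theorem gen_prime_dvd_of_sub_eq_int {χ : G → ℂ} (hχ : IsGeneralizedCharacter G χ) {x y : G}
    (hxy : x * y = y * x) {p a : ℕ} (hp : p.Prime) (hx : x ^ p ^ a = 1) {m : ℤ}
    (hm : χ (x * y) - χ y = m) : (p : ℤ) ∣ m := by
  have hn := pow_ne_zero a hp.ne_zero
  have hζ := Complex.isPrimitiveRoot_exp _ hn
  obtain ⟨ω, hω, h⟩ := gen_exists_sub_eq_one_sub_mul hχ hxy hn hx hζ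
  exact prime_dvd_of_eq_one_sub_mul hp hζ.pow_eq_one hω (hm.symm.trans h)

theorem gen_modEq_of_commute {χ : G → ℂ} (hχ : IsGeneralizedCharacter G χ) {x y : G}
    (hxy : x * y = y * x) {p a : ℕ} (hp : p.Prime) (hx : x ^ p ^ a = 1) {u v : ℤ}
    (hu : χ (x * y) = u) (hv : χ y = v) : u ≡ v [ZMOD p] :=
  (Int.modEq_iff_dvd.2 (gen_prime_dvd_of_sub_eq_int hχ hxy hp hx (m := u - v)
    (by rw [hu, hv]; push_cast; rfl))).symm

/-- An integer value at a `p`-element is congruent to the degree modulo `p`. -/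
theorem gen_modEq_apply_one {χ : G → ℂ} (hχ : IsGeneralizedCharacter G χ) {x : G} {p a : ℕ}
    (hp : p.Prime) (hx : x ^ p ^ a = 1) {u v : ℤ} (hu : χ x = u) (hv : χ 1 = v) :
    u ≡ v [ZMOD p] :=
  gen_modEq_of_commute hχ (y := 1) (by simp) hp hx (by rwa [mul_one]) hv

/-- A character vanishing at a `p`-element has degree divisible by `p`. -/
theorem char_prime_dvd_deg_of_eq_zero {χ : G → ℂ} (hχ : IsCharacter G χ) {x : G} {p a : ℕ}
    (hp : p.Prime) (hx : x ^ p ^ a = 1) (h0 : χ x = 0) : p ∣ deg χ := by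
  have := gen_modEq_apply_one (gen_of_char hχ) hp hx (u := 0) (v := deg χ) (by simpa using h0)
    (by simpa using (char_cast_deg hχ).symm)
  have h2 := this.dvd
  rw [sub_zero] at h2
  exact_mod_cast h2

end OneSub

section PowClosed

variable [Finite G]

omit [Finite G] in
theorem prod_pow_eq_of_pow_mem {M : Type*} [CommMonoid M] (f : G → M) (T : Finset G) {k : ℕ}
    (hk : Nat.Coprime k (Nat.card G)) (hT : ∀ x ∈ T, x ^ k ∈ T) :
    ∏ x ∈ T, f (x ^ k) = ∏ x ∈ T, f x := by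
  classical
  have hinj : Function.Injective (fun x : G => x ^ k) := (powCoprime hk.symm).injective
  have himg : T.image (fun x : G => x ^ k) = T :=
    Finset.eq_of_subset_of_card_le (Finset.image_subset_iff.2 hT)
      (Finset.card_image_of_injective T hinj).ge
  conv_rhs => rw [← himg]
  rw [Finset.prod_image fun x _ y _ h => hinj h]

omit [Finite G] in
theorem sum_pow_eq_of_pow_mem {M : Type*} [AddCommMonoid M] (f : G → M) (T : Finset G) {k : ℕ}
    (hk : Nat.Coprime k (Nat.card G)) (hT : ∀ x ∈ T, x ^ k ∈ T) :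
    ∑ x ∈ T, f (x ^ k) = ∑ x ∈ T, f x :=
  prod_pow_eq_of_pow_mem (M := Multiplicative M) f T hk hT

/-- The product of the values of a generalized character over a set closed under coprime powers is
an integer. -/
theorem gen_prod_exists_int {χ : G → ℂ} (hχ : IsGeneralizedCharacter G χ) (T : Finset G)
    (hT : ∀ k : ℕ, Nat.Coprime k (Nat.card G) → ∀ x ∈ T, x ^ k ∈ T) :
    ∃ z : ℤ, ∏ x ∈ T, χ x = z := by
  refine exists_int_of_forall_ringEquiv (IsIntegral.prod _ fun x _ => gen_isIntegral hχ x)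
    fun τ => ?_
  obtain ⟨k, hk, -, h1⟩ := exists_coprime_gen_map_eq_pow (G := G) τ (Nat.card_pos (α := G)).ne'
  rw [map_prod, ← prod_pow_eq_of_pow_mem χ T hk (hT k hk)]
  exact Finset.prod_congr rfl fun x _ => h1 χ hχ x (orderOf_dvd_natCard x)

/-- The sum of the values of a generalized character over a set closed under coprime powers is an
integer. -/
theorem gen_sum_exists_int {χ : G → ℂ} (hχ : IsGeneralizedCharacter G χ) (T : Finset G)
    (hT : ∀ k : ℕ, Nat.Coprime k (Nat.card G) → ∀ x ∈ T, x ^ k ∈ T) :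
    ∃ z : ℤ, ∑ x ∈ T, χ x = z := by
  refine exists_int_of_forall_ringEquiv (IsIntegral.sum _ fun x _ => gen_isIntegral hχ x)
    fun τ => ?_
  obtain ⟨k, hk, -, h1⟩ := exists_coprime_gen_map_eq_pow (G := G) τ (Nat.card_pos (α := G)).ne'
  rw [map_sum, ← sum_pow_eq_of_pow_mem χ T hk (hT k hk)]
  exact Finset.sum_congr rfl fun x _ => h1 χ hχ x (orderOf_dvd_natCard x)

omit [Group G] [Finite G] in
theorem card_le_sum_of_one_le_prod (T : Finset G) (a : G → ℝ) (ha : ∀ x ∈ T, 0 < a x)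
    (h : 1 ≤ ∏ x ∈ T, a x) : (T.card : ℝ) ≤ ∑ x ∈ T, a x := by
  have h1 : 0 ≤ ∑ x ∈ T, Real.log (a x) := by
    rw [← Real.log_prod fun x hx => (ha x hx).ne']
    exact Real.log_nonneg h
  have h2 : ∑ x ∈ T, Real.log (a x) ≤ ∑ x ∈ T, (a x - 1) :=
    Finset.sum_le_sum fun x hx => Real.log_le_sub_one_of_pos (ha x hx)
  rw [Finset.sum_sub_distrib, Finset.sum_const, nsmul_eq_mul, mul_one] at h2
  linarith

/-- If a generalized character has no zero on a set `T` closed under coprime powers, then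
`|T| ≤ ∑ x ∈ T, ‖χ x‖ ^ 2`. -/
theorem gen_card_le_sum_norm_sq {χ : G → ℂ} (hχ : IsGeneralizedCharacter G χ) (T : Finset G)
    (hT : ∀ k : ℕ, Nat.Coprime k (Nat.card G) → ∀ x ∈ T, x ^ k ∈ T) (h0 : ∀ x ∈ T, χ x ≠ 0) :
    (T.card : ℝ) ≤ ∑ x ∈ T, ‖χ x‖ ^ 2 := by
  obtain ⟨z, hz⟩ := gen_prod_exists_int hχ T hT
  have hz0 : z ≠ 0 := by
    rintro rfl
    exact Finset.prod_ne_zero_iff.2 h0 (by simpa using hz)
  refine card_le_sum_of_one_le_prod T _ (fun x hx => pow_pos (norm_pos_iff.2 (h0 x hx)) 2) ?_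
  rw [Finset.prod_pow, ← norm_prod, hz, Complex.norm_intCast]
  exact one_le_pow₀ (by exact_mod_cast Int.one_le_abs hz0)

/-- The same with first powers of the norms. -/
theorem gen_card_le_sum_norm {χ : G → ℂ} (hχ : IsGeneralizedCharacter G χ) (T : Finset G)
    (hT : ∀ k : ℕ, Nat.Coprime k (Nat.card G) → ∀ x ∈ T, x ^ k ∈ T) (h0 : ∀ x ∈ T, χ x ≠ 0) :
    (T.card : ℝ) ≤ ∑ x ∈ T, ‖χ x‖ := by
  obtain ⟨z, hz⟩ := gen_prod_exists_int hχ T hT
  have hz0 : z ≠ 0 := by
    rintro rfl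
    exact Finset.prod_ne_zero_iff.2 h0 (by simpa using hz)
  refine card_le_sum_of_one_le_prod T _ (fun x hx => norm_pos_iff.2 (h0 x hx)) ?_
  rw [← norm_prod, hz, Complex.norm_intCast]
  exact_mod_cast Int.one_le_abs hz0

theorem zpowers_pow_eq_of_coprime_card {x : G} {k : ℕ} (hk : Nat.Coprime k (Nat.card G)) :
    Subgroup.zpowers (x ^ k) = Subgroup.zpowers x := by
  refine Subgroup.eq_of_le_of_card_ge (Subgroup.zpowers_le.2 (Subgroup.npow_mem_zpowers x k)) ?_
  rw [Nat.card_zpowers, Nat.card_zpowers,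
    (hk.symm.coprime_dvd_left (orderOf_dvd_natCard x)).orderOf_pow]

/-- A generator of `⟨g⟩` is a power of `g` with exponent coprime to the order. -/
theorem exists_coprime_pow_eq_of_zpowers_eq {x g : G}
    (h : Subgroup.zpowers x = Subgroup.zpowers g) :
    ∃ k : ℕ, Nat.Coprime k (orderOf g) ∧ g ^ k = x := by
  obtain ⟨k, hk⟩ := (mem_powers_iff_mem_zpowers (x := g) (y := x)).2
    (h ▸ Subgroup.mem_zpowers x)
  refine ⟨k, ?_, hk⟩
  have h1 : orderOf (g ^ k) = orderOf g := by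
    rw [show g ^ k = x from hk, ← Nat.card_zpowers, h, Nat.card_zpowers]
  rw [orderOf_pow, Nat.div_eq_self] at h1
  exact Nat.Coprime.symm (h1.resolve_left (orderOf_pos g).ne')

/-- If `χ g ≠ 0`, the sum of `‖χ x‖ ^ 2` over the generators `x` of `⟨g⟩` is at least their
number. -/
theorem gen_card_le_sum_norm_sq_generators {χ : G → ℂ} (hχ : IsGeneralizedCharacter G χ) {g : G}
    (hg : χ g ≠ 0) (T : Finset G) (hT : ∀ x, x ∈ T ↔ Subgroup.zpowers x = Subgroup.zpowers g) :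
    (T.card : ℝ) ≤ ∑ x ∈ T, ‖χ x‖ ^ 2 := by
  refine gen_card_le_sum_norm_sq hχ T (fun k hk x hx => ?_) fun x hx => ?_
  · rw [hT, zpowers_pow_eq_of_coprime_card hk, ← hT]; exact hx
  · obtain ⟨k, hk, rfl⟩ := exists_coprime_pow_eq_of_zpowers_eq ((hT x).1 hx)
    exact fun h => hg ((gen_pow_eq_zero_iff hχ hk).1 h)

/-- The set of elements where a generalized character does not vanish is closed under coprime
powers, so its size is at most the sum of the squared norms of the values. -/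
theorem gen_card_ne_zero_le [Fintype G] {χ : G → ℂ} (hχ : IsGeneralizedCharacter G χ)
    (T : Finset G) (hT : ∀ k : ℕ, Nat.Coprime k (Nat.card G) → ∀ x ∈ T, x ^ k ∈ T)
    [DecidablePred fun x => χ x ≠ 0] :
    ((T.filter fun x => χ x ≠ 0).card : ℝ) ≤ ∑ x ∈ T, ‖χ x‖ ^ 2 := by
  refine (gen_card_le_sum_norm_sq hχ _ (fun k hk x hx => ?_)
    fun x hx => (Finset.mem_filter.1 hx).2).trans ?_
  · rw [Finset.mem_filter] at hx ⊢
    exact ⟨hT k hk x hx.1, fun h => hx.2
      ((gen_pow_eq_zero_iff hχ (hk.coprime_dvd_right (orderOf_dvd_natCard x))).1 h)⟩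
  · exact Finset.sum_le_sum_of_subset_of_nonneg (Finset.filter_subset _ _)
      fun _ _ _ => by positivity

/-- Burnside: a nonlinear irreducible character has a zero. -/
theorem irr_exists_eq_zero {χ : G → ℂ} (hχ : IsIrrCharacter G χ) (h1 : χ 1 ≠ 1) :
    ∃ g, χ g = 0 := by
  classical
  have := Fintype.ofFinite G
  by_contra hcon
  push Not at hcon
  have h := gen_card_le_sum_norm_sq (gen_of_irr hχ) (Finset.univ.erase 1)
    (fun k hk x hx => by
      rw [Finset.mem_erase] at hx ⊢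
      exact ⟨fun h => hx.1 ((powCoprime hk.symm).injective (a₂ := 1) (by simpa using h)),
        Finset.mem_univ _⟩)
    fun x _ => hcon x
  have h2 := irr_sum_norm_sq hχ
  rw [← Finset.add_sum_erase _ _ (Finset.mem_univ 1)] at h2
  rw [Finset.card_erase_of_mem (Finset.mem_univ 1), Finset.card_univ,
    Nat.cast_sub Fintype.card_pos, ← Nat.card_eq_fintype_card] at h
  obtain ⟨n, hn, hχn⟩ := irr_apply_one hχ
  rw [hχn, Complex.norm_natCast] at h2
  have h3 : (n : ℝ) ^ 2 ≤ 1 := by push_cast at h; linarith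
  have h4 : n ^ 2 ≤ 1 := by exact_mod_cast h3
  have h5 : n = 1 := by nlinarith
  exact h1 (by rw [hχn, h5, Nat.cast_one])

end PowClosed

end CL.Char
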