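import Cfsg.Agent.Char.Linear
import Cfsg.Agent.Char.Induce

/-!
# Artin's induction theorem
-/

set_option autoImplicit false

namespace CL.Char

open Cfsg Module
open scoped ComplexConjugate

variable {G : Type*} [Group G]

/-- The sum of a generalized character over a subgroup is an integer multiple of its order. -/
theorem gen_sum_subgroup_int [Fintype G] {ψ : G → ℂ} (hψ : IsGeneralizedCharacter G ψ)
    (B : Subgroup G) [DecidablePred (· ∈ B)] :
    ∃ n : ℤ, ∑ x ∈ Finset.univ.filter (· ∈ B), ψ x = Nat.card B * n := by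
  obtain ⟨n, hn⟩ := gen_inner_int (gen_restrict hψ B) gen_one
  refine ⟨n, ?_⟩
  rw [← hn, card_mul_classInner]
  simp only [map_one, mul_one]
  exact (Finset.sum_subtype_eq_sum_filter (s := Finset.univ) ψ (p := (· ∈ B))).symm.trans
    (by simp [Finset.subtype_univ])

open Classical in
/-- The sum of a generalized character over the generators of a cyclic subgroup is an integer. -/
theorem gen_sum_generators_int [Fintype G] {ψ : G → ℂ} (hψ : IsGeneralizedCharacter G ψ)
    (B : Subgroup G) :
    ∃ n : ℤ, ∑ x ∈ Finset.univ.filter (fun x => Subgroup.zpowers x = B), ψ x = n := by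
  induction B using WellFoundedLT.induction with
  | ind B ih =>
    choose! c hc using ih
    obtain ⟨n, hn⟩ := gen_sum_subgroup_int hψ B
    have := Fintype.ofFinite (Subgroup G)
    rw [← Finset.sum_fiberwise_of_maps_to (t := Finset.univ.filter (· ≤ B))
      (g := fun x => Subgroup.zpowers x) (by simp)] at hn
    have h1 : ∀ C ∈ Finset.univ.filter (· ≤ B),
        ∑ x ∈ (Finset.univ.filter (· ∈ B)).filter (fun x => Subgroup.zpowers x = C), ψ x =
          ∑ x ∈ Finset.univ.filter (fun x => Subgroup.zpowers x = C), ψ x := by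
      intro C hC
      refine Finset.sum_congr ?_ fun _ _ => rfl
      ext x
      simp only [Finset.mem_filter, Finset.mem_univ, true_and, and_iff_right_iff_imp] at hC ⊢
      rintro rfl
      exact hC (Subgroup.mem_zpowers x)
    rw [Finset.sum_congr rfl h1, ← Finset.add_sum_erase _ _ (a := B) (by simp)] at hn
    rw [Finset.sum_congr rfl (g := fun C => (c C : ℂ)) (fun C hC => hc C (by
      simp only [Finset.mem_erase, Finset.mem_filter, Finset.mem_univ, true_and] at hC
      exact lt_of_le_of_ne hC.2 hC.1))] at hn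
    refine ⟨Nat.card B * n - ∑ C ∈ (Finset.univ.filter (· ≤ B)).erase B, c C, ?_⟩
    push_cast
    rw [← hn]
    ring

open Classical in
/-- The function on `A` equal to `|A| χ` on generators of `A` and zero elsewhere. -/
noncomputable def artinFun (χ : G → ℂ) (A : Subgroup G) : A → ℂ :=
  fun a => if Subgroup.zpowers (a : G) = A then Nat.card A * χ a else 0

theorem zpowers_coe_eq_iff {A : Subgroup G} (a : A) :
    Subgroup.zpowers (a : G) = A ↔ Subgroup.zpowers a = ⊤ := by
  rw [← (Subgroup.map_injective A.subtype_injective).eq_iff, MonoidHom.map_zpowers,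
    ← MonoidHom.range_eq_map, Subgroup.range_subtype]
  rfl

theorem artinFun_inner_int [Finite G] {χ : G → ℂ} (hχ : IsGeneralizedCharacter G χ)
    (A : Subgroup G) [Fintype A] {lam : A → ℂ} (hlam : IsGeneralizedCharacter A lam) :
    ∃ n : ℤ, classInner (artinFun χ A) lam = n := by
  classical
  obtain ⟨n, hn⟩ := gen_sum_generators_int (gen_mul (gen_restrict hχ A) (gen_conj hlam)) ⊤
  refine ⟨n, ?_⟩
  rw [← hn, classInner_def, Finset.sum_filter, Finset.mul_sum]
  refine Finset.sum_congr rfl fun a _ => ?_
  have := card_ne_zero (G := A)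
  simp only [artinFun, zpowers_coe_eq_iff, Pi.mul_apply]
  split_ifs
  · field_simp
  · simp

theorem artinFun_eq_zero (χ : G → ℂ) {A : Subgroup G} (hA : ¬ IsCyclic A) : artinFun χ A = 0 := by
  funext a
  rw [artinFun, if_neg, Pi.zero_apply]
  intro h
  rw [zpowers_coe_eq_iff] at h
  exact hA ⟨⟨a, fun x => by
    have : x ∈ Subgroup.zpowers a := h ▸ Subgroup.mem_top x
    exact this⟩⟩

theorem sum_indFun_artinFun [Fintype G] [Fintype (Subgroup G)] {χ : G → ℂ}
    (hχ : IsClassFunction G χ) :
    ∑ A : Subgroup G, indFun A (artinFun χ A) = (Nat.card G : ℂ) • χ := by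
  classical
  funext g
  simp only [Finset.sum_apply, indFun_apply, Finset.mul_sum, Pi.smul_apply, smul_eq_mul]
  rw [Finset.sum_comm]
  have : ∀ x : G, ∑ A : Subgroup G,
      (Nat.card A : ℂ)⁻¹ * extendByZero A (artinFun χ A) (x⁻¹ * g * x) = χ g := by
    intro x
    rw [Finset.sum_eq_single (Subgroup.zpowers (x⁻¹ * g * x))]
    · rw [extendByZero_of_mem _ _ (Subgroup.mem_zpowers _), artinFun, if_pos rfl, ← mul_assoc,
        inv_mul_cancel₀ (natCard_cast_ne_zero _), one_mul]
      exact classFun_conj_inv hχ g x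
    · intro A _ hA
      by_cases hm : x⁻¹ * g * x ∈ A
      · rw [extendByZero_of_mem _ _ hm, artinFun, if_neg hA.symm, mul_zero]
      · rw [extendByZero_of_not_mem _ _ hm, mul_zero]
    · simp
  simp only [this]
  rw [Finset.sum_const, Finset.card_univ, nsmul_eq_mul, Nat.card_eq_fintype_card]

/-- **Artin's induction theorem**. -/
theorem artin_induction [Fintype G] [Fintype (Subgroup G)] [∀ A : Subgroup G, Fintype (A →* ℂˣ)]
    {χ : G → ℂ} (hχ : IsGeneralizedCharacter G χ) :
    ∃ c : (A : Subgroup G) → (A →* ℂˣ) → ℤ, (∀ A lam, c A lam ≠ 0 → IsCyclic A) ∧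
      (Nat.card G : ℂ) • χ = ∑ A : Subgroup G, ∑ lam : A →* ℂˣ,
        (c A lam : ℂ) • indFun A (fun a => (lam a : ℂ)) := by
  classical
  have : ∀ A : Subgroup G, Fintype A := fun A => Fintype.ofFinite A
  choose c hc using fun (A : Subgroup G) (lam : A →* ℂˣ) =>
    artinFun_inner_int hχ A (gen_of_char (char_unitsHom lam))
  have hc0 : ∀ A lam, c A lam ≠ 0 → IsCyclic A := by
    intro A lam h
    by_contra hA
    apply h
    have := hc A lam
    rw [artinFun_eq_zero χ hA, classInner_zero_left] at this
    exact_mod_cast this.symm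
  refine ⟨c, hc0, ?_⟩
  rw [← sum_indFun_artinFun (gen_isClassFunction hχ)]
  refine Finset.sum_congr rfl fun A _ => ?_
  by_cases hA : IsCyclic A
  · have hcomm : ∀ a b : A, a * b = b * a := fun a b => (IsCyclic.commGroup (α := A)).mul_comm a b
    conv_lhs => rw [eq_sum_linear_of_comm hcomm (artinFun χ A)]
    rw [indFun_sum]
    simp only [indFun_smul, hc]
  · rw [artinFun_eq_zero χ hA, indFun_zero]
    symm
    refine Finset.sum_eq_zero fun lam _ => ?_
    have : c A lam = 0 := by
      by_contra h
      exact hA (hc0 A lam h)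
    simp [this]

end CL.Char
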