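import Cfsg.Agent.Char.Primitive
import Cfsg.Agent.Transfer.SylowIn

/-!
# Characters induced from a maximal subgroup with solvable quotient by the core (Isaacs 11.34)
-/

set_option autoImplicit false

open Cfsg
open scoped ComplexConjugate commutatorElement

namespace CL.Char

variable {G : Type*} [Group G]

/-- If `G / N` is abelian and `χ_N = c θ` then `c² ∣ [G : N]`. -/
theorem sq_dvd_index_of_commutator_le [Finite G] {N : Subgroup G} [N.Normal] (hab : commutator G ≤ N)
    {χ : G → ℂ} (hχ : IsIrrCharacter G χ) {θ : N → ℂ} (hθ : IsIrrCharacter N θ) {c : ℕ}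
    (hc : (fun n : N => χ n) = (c : ℂ) • θ) : c ^ 2 ∣ N.index := by
  classical
  have := Fintype.ofFinite G
  have hc0 : (c : ℂ) ≠ 0 := by
    intro h
    rw [h, zero_smul] at hc
    exact irr_apply_one_ne_zero hχ (by simpa using congrFun hc 1)
  have hinv := invChar_of_res_eq_smul (irr_isClassFunction hχ) hc0 hc
  obtain ⟨m, hm, -⟩ := char_exists_eq_sum (char_indFun N (irr_isCharacter hθ))
  have h1 : ∑ ψ, m ψ ^ 2 = N.index := by
    have h2 := classInner_self_eq_sum_sq (indFun_isClassFunction N θ) (c := fun ψ => (m ψ : ℤ))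
      (fun ψ => by rw [hm]; simp)
    rw [hinv.classInner_indFun_self hθ] at h2
    exact_mod_cast h2.symm
  rw [← h1]
  refine Finset.dvd_sum fun ψ _ => ?_
  by_cases h0 : m ψ = 0
  · simp [h0]
  have h2 : classInner (indFun N (fun _ => 1) * χ) ψ ≠ 0 := by
    rw [← indFun_res N (irr_isClassFunction hχ), hc, indFun_smul, classInner_smul_left, hm]
    exact mul_ne_zero hc0 (Nat.cast_ne_zero.2 h0)
  rw [classFun_eq_sum (indFun_isClassFunction N (fun _ => 1)), Finset.sum_mul,
    classInner_sum_left] at h2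
  obtain ⟨β, -, hβ⟩ := Finset.exists_ne_zero_of_sum_ne_zero h2
  rw [smul_mul_assoc, classInner_smul_left] at hβ
  have h3 := (inner_indFun_one_ne_zero_iff β.2).1 (left_ne_zero_of_mul hβ)
  have h4 := irr_apply_one_eq_one_of_commutator β.2 fun x hx => h3 x (hab hx)
  have h5 := irr_eq_of_inner_ne_zero (irr_mul_of_apply_one (irr_isCharacter β.2) h4 hχ) ψ.2
    (right_ne_zero_of_mul hβ)
  have h6 : (fun n : N => (ψ : G → ℂ) n) = (c : ℂ) • θ := by
    rw [← hc, ← h5]
    ext n
    simp [h3 n n.2, h4]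
  have h7 : (m ψ : ℂ) = c := by
    rw [← hm, classInner_indFun_left N θ (irr_isClassFunction ψ.2), h6, classInner_smul_right,
      irr_inner_self hθ, Complex.conj_natCast, mul_one]
  rw [show m ψ = c by exact_mod_cast h7]

theorem normal_of_sup_eq_top_of_conj_mem {H K Q : Subgroup G} [Finite G] (h : H ⊔ K = ⊤)
    (hH : ∀ h ∈ H, ∀ q ∈ Q, h * q * h⁻¹ ∈ Q) (hK : ∀ k ∈ K, ∀ q ∈ Q, k * q * k⁻¹ ∈ Q) :
    Q.Normal := by
  have key : ∀ X : Subgroup G, (∀ h ∈ X, ∀ q ∈ Q, h * q * h⁻¹ ∈ Q) → X ≤ Subgroup.normalizer (Q : Set G) :=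
    fun X hX x hx => Subgroup.mem_normalizer_iff.2 fun q => ⟨fun hq => hX x hx q hq, fun hq => by
      simpa [mul_assoc] using hX x⁻¹ (X.inv_mem hx) _ hq⟩
  rw [← Subgroup.normalizer_eq_top_iff, eq_top_iff, ← h]
  exact sup_le (key H hH) (key K hK)

/-- The character-theoretic heart of Isaacs 11.34. -/
theorem conj_mem_of_isHomog [Fintype G] {H C K M : Subgroup G} [C.Normal] [K.Normal] [M.Normal]
    (hCH : C ≤ H) (hCK : C ≤ K) (hKM : K ≤ M) (hHK : H ⊓ K ≤ C) (hsup : K ⊔ H = ⊤)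
    (hMab : ⁅M, M⁆ ≤ K) (hcop : Nat.Coprime (C.relIndex K) (K.relIndex M))
    {θ : H → ℂ} (hθ : IsCharacter H θ)
    (hθC : IsIrrCharacter C (fun x : C => θ ⟨x, hCH x.2⟩))
    (hinv : InvChar C (fun x : C => θ ⟨x, hCH x.2⟩))
    (h1 : IsHomog K (indFun H θ)) (h2 : IsHomog M (indFun H θ)) :
    ∀ y ∈ M, ∀ x ∈ M ⊓ H, y * x * y⁻¹ ∈ M ⊓ H := by
  classical
  obtain ⟨κ, e, hκ, he⟩ := h1
  obtain ⟨ξ, b, hξ, hb⟩ := h2
  have hθ1 : θ 1 ≠ 0 := fun h => irr_apply_one_ne_zero hθC h
  have hi : (H.index : ℂ) ≠ 0 := Nat.cast_ne_zero.2 Subgroup.index_ne_zero_of_finite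
  have hτ1 : indFun H θ 1 ≠ 0 := by rw [indFun_one]; exact mul_ne_zero hi hθ1
  -- restriction to `K`
  have hK : (fun k : K => indFun H θ k) =
      indFun (C.subgroupOf K) (toSubgroupOf C K (fun x : C => θ ⟨x, hCH x.2⟩)) := by
    ext k
    rw [indFun_res_of_mul_eq_top H K (exists_mul_of_sup_eq_top_of_normal_left H K hsup)
      (char_isClassFunction hθ)]
    have h3 : C.subgroupOf K = H.subgroupOf K :=
      le_antisymm (fun x hx => hCH hx) (fun x hx => hHK ⟨hx, x.2⟩)
    exact congrFun (indFun_congr h3 _ _ (fun _ => rfl)) k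
  have hinvK : InvChar (C.subgroupOf K) (toSubgroupOf C K (fun x : C => θ ⟨x, hCH x.2⟩)) :=
    fun g n => hinv g ⟨n, n.2⟩
  have he2 : e ^ 2 = C.relIndex K :=
    hinvK.sq_eq_index_of_indFun_eq_smul (irr_toSubgroupOf hCK hθC) hκ (hK.symm.trans he)
  have hidx : (C.relIndex K : ℂ) = H.index := by
    have := congrFun hK 1
    rw [indFun_one, OneMemClass.coe_one, indFun_one] at this
    exact (mul_right_cancel₀ hθ1 this).symm
  have hb0 : (b : ℂ) ≠ 0 := by
    intro h
    rw [h, zero_smul] at hb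
    exact hτ1 (congrFun hb 1)
  obtain ⟨c, hc, hbc⟩ := char_eq_smul_of_smul_eq_smul
    (char_restrict (irr_isCharacter hξ) (K.subgroupOf M)) (irr_toSubgroupOf hKM hκ) hb0 (e := e) (by
      ext x
      have h3 := congrFun hb x
      have h4 := congrFun he ⟨(x : M), x.2⟩
      simp only [Pi.smul_apply] at h3 h4 ⊢
      exact h3.symm.trans h4)
  have hc2 : c ^ 2 ∣ K.relIndex M :=
    sq_dvd_index_of_commutator_le (commutator_le_subgroupOf hMab) hξ (irr_toSubgroupOf hKM hκ) hc
  have hbc' : b * c = e := by exact_mod_cast hbc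
  have hc1 : c = 1 := by
    have h3 : c ^ 2 ∣ C.relIndex K := by
      rw [← he2, ← hbc', mul_pow]; exact Dvd.intro_left _ rfl
    exact (Nat.pow_eq_one.1 (Nat.eq_one_of_dvd_coprimes hcop h3 hc2)).resolve_right two_ne_zero
  rw [hc1, mul_one] at hbc'
  subst hbc'
  -- restriction to `M`
  have hsupM : M ⊔ H = ⊤ := eq_top_iff.2 (hsup ▸ sup_le_sup_right hKM H)
  set η : H.subgroupOf M → ℂ := toSubgroupOf H M θ with hη
  have hM : indFun (H.subgroupOf M) η = (b : ℂ) • ξ := by
    rw [← hb]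
    ext m
    exact (indFun_res_of_mul_eq_top H M (exists_mul_of_sup_eq_top_of_normal_left H M hsupM)
      (char_isClassFunction hθ) m).symm
  have hηc : IsCharacter (H.subgroupOf M) η :=
    char_comp hθ ((H.subtype.comp (MonoidHom.id H)).codRestrict H (fun x => x.2) |>.comp
      (((M.subtype.comp (H.subgroupOf M).subtype)).codRestrict H fun x => x.2))
  have hηi : IsIrrCharacter (H.subgroupOf M) η :=
    irr_of_irr_comp hηc ((C.subtype.codRestrict M fun x => hKM (hCK x.2)).codRestrict (H.subgroupOf M)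
      fun x => hCH x.2) hθC
  have hξ1 : ξ 1 = b * θ 1 := by
    have h3 := congrFun hb 1
    rw [OneMemClass.coe_one, indFun_one, ← hidx, ← he2] at h3
    simp only [Pi.smul_apply, smul_eq_mul, Nat.cast_pow] at h3
    exact mul_left_cancel₀ hb0 (by rw [← h3]; ring)
  have hin : classInner (fun x : H.subgroupOf M => ξ x) η = b := by
    rw [← classInner_indFun_right _ η (irr_isClassFunction hξ), hM, classInner_smul_right,
      irr_inner_self hξ, Complex.conj_natCast, mul_one]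
  have hξQ : (fun x : H.subgroupOf M => ξ x) = (b : ℂ) • η := by
    have := eq_smul_of_inner_of_apply_one (char_restrict (irr_isCharacter hξ) (H.subgroupOf M)) hηi
      (by rw [hin]; exact hξ1)
    rwa [hin] at this
  have hperm : indFun (H.subgroupOf M) (fun _ => 1) * ξ = ((b : ℂ) * b) • ξ := by
    rw [← indFun_res _ (irr_isClassFunction hξ), hξQ, indFun_smul, hM, smul_smul]
  have hker : ∀ x : M, ξ x ≠ 0 → ∀ y : M, ((y⁻¹ * x * y : M) : G) ∈ H := by
    intro x hx
    have h3 : indFun (H.subgroupOf M) (fun _ => 1) x = b * b := mul_right_cancel₀ hx (congrFun hperm x)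
    have h4 : indFun (H.subgroupOf M) (fun _ => 1) 1 = b * b :=
      mul_right_cancel₀ (irr_apply_one_ne_zero hξ) (congrFun hperm 1)
    have h5 := card_mul_indFun_one (H.subgroupOf M) x
    rw [h3, ← h4, indFun_one, mul_one, ← Nat.cast_mul, Subgroup.card_mul_index, Nat.cast_inj] at h5
    have h6 : {y : M | y⁻¹ * x * y ∈ H.subgroupOf M} = Set.univ :=
      (Set.eq_univ_iff_ncard _).2 h5.symm
    exact fun y => Set.eq_univ_iff_forall.1 h6 y
  intro y hy x hx
  refine ⟨Subgroup.Normal.conj_mem inferInstance x hx.1 y, ?_⟩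
  obtain ⟨n, hn, h3⟩ := exists_coset_ne_zero (N := C.subgroupOf H) hθ (irr_toSubgroupOf hCH hθC)
    ⟨x, hx.2⟩
  have hnM : (n : G) ∈ M := hKM (hCK hn)
  have h4 : ξ ⟨n * x, M.mul_mem hnM hx.1⟩ ≠ 0 := by
    have h5 := congrFun hξQ ⟨⟨n * x, M.mul_mem hnM hx.1⟩, H.mul_mem n.2 hx.2⟩
    simp only [Pi.smul_apply, smul_eq_mul] at h5
    rw [h5]
    exact mul_ne_zero hb0 h3
  have h5 := hker _ h4 ⟨y⁻¹, M.inv_mem hy⟩
  have h6 : y * n * y⁻¹ ∈ H := hCH (Subgroup.Normal.conj_mem (H := C) inferInstance (n : G) hn y)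
  have h7 := H.mul_mem (H.inv_mem h6) h5
  simpa [mul_assoc] using h7

/-- Strong form of Isaacs 11.34. `C` is the core of the maximal subgroup `H`, `K / C` a chief factor. -/
theorem exists_not_isHomog_of_isCoatom [Fintype G] {H C K : Subgroup G} [C.Normal] (hmax : IsCoatom H)
    (hCH : C ≤ H) (hcore : ∀ M : Subgroup G, M.Normal → M ≤ H → M ≤ C) (hch : IsChief C K)
    (hsolv : Group.IsSolvable (G ⧸ C)) {θ : H → ℂ} (hθ : IsCharacter H θ)
    (hθC : IsIrrCharacter C (fun x : C => θ ⟨x, hCH x.2⟩))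
    (hinv : InvChar C (fun x : C => θ ⟨x, hCH x.2⟩)) (hind : IsIrrCharacter G (indFun H θ)) :
    ∃ M : Subgroup G, M.Normal ∧ K ≤ M ∧ ¬ IsHomog M (indFun H θ) := by
  classical
  by_contra hh
  push Not at hh
  have hKn := hch.normal_right
  have hKab := hch.commutator_le C hsolv le_rfl
  have hKH : ¬ K ≤ H := fun h => hch.lt.not_ge (hcore K hKn h)
  have hsup : H ⊔ K = ⊤ := hmax.2 _ (left_lt_sup.2 hKH)
  have hHK : H ⊓ K ≤ C := by
    refine hcore _ (normal_of_sup_eq_top_of_conj_mem hsup ?_ ?_) inf_le_left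
    · exact fun h hh q hq => ⟨H.mul_mem (H.mul_mem hh hq.1) (H.inv_mem hh), hKn.conj_mem q hq.2 h⟩
    · intro k hk q hq
      refine ⟨?_, hKn.conj_mem q hq.2 k⟩
      have := H.mul_mem (hCH (hKab (Subgroup.commutator_mem_commutator hk hq.2))) hq.1
      simpa [commutatorElement_def] using this
  by_cases htop : K = ⊤
  · subst htop
    have hHC : C = H := le_antisymm hCH (by simpa using hHK)
    subst hHC
    exact hmax.1 (hinv.eq_top_of_indFun_irr hθC hind)
  obtain ⟨M, -, hchM⟩ := exists_isChief_above (N := K) (K := ⊤) (lt_top_iff_ne_top.2 htop)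
  have hMn := hchM.normal_right
  have hMab := hchM.commutator_le C hsolv hch.le
  have hHQ : ∀ h ∈ H, ∀ q ∈ M ⊓ H, h * q * h⁻¹ ∈ M ⊓ H :=
    fun h hh q hq => ⟨hMn.conj_mem q hq.1 h, H.mul_mem (H.mul_mem hh hq.2) (H.inv_mem hh)⟩
  suffices hQ : (M ⊓ H).Normal by
    refine hchM.lt.not_ge fun m hm => ?_
    obtain ⟨k, hk, h, hh', rfl⟩ := exists_mul_of_sup_eq_top_of_normal_left H K (by rwa [sup_comm]) m
    exact K.mul_mem hk (hch.le (hcore _ hQ inf_le_right
      ⟨by simpa using M.mul_mem (M.inv_mem (hchM.le hk)) hm, hh'⟩))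
  obtain ⟨p, a, hp, hpK, ha⟩ := hch.exists_relIndex_eq_prime_pow hKab
  obtain ⟨q, b, hq, hqM, hb⟩ := hchM.exists_relIndex_eq_prime_pow hMab
  by_cases hpq : p = q
  · subst hpq
    have := Fact.mk hp
    let π := QuotientGroup.mk' C
    have hMp : IsPGroup p (M.map π) := by
      rintro ⟨_, m, hm, rfl⟩
      refine ⟨2, Subtype.ext ?_⟩
      change π m ^ p ^ 2 = 1
      rw [← map_pow, sq, pow_mul]
      exact (QuotientGroup.eq_one_iff _).2 (hpK _ (hqM m hm))
    have hcomap : ∀ X : Subgroup G, C ≤ X → ∀ g, π g ∈ X.map π → g ∈ X := by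
      intro X hX g hg
      have : (X.map π).comap π = X := Subgroup.comap_map_eq_self (by rwa [QuotientGroup.ker_mk'])
      rw [← this]
      exact hg
    have hCQ : C ≤ M ⊓ H := le_inf (hch.le.trans hchM.le) hCH
    have hlt : (M ⊓ H).map π < M.map π := by
      refine lt_of_le_of_ne (Subgroup.map_mono inf_le_left) fun h => hKH fun k hk => ?_
      exact (hcomap _ hCQ k (h ▸ Subgroup.mem_map_of_mem π (hchM.le hk))).2
    obtain ⟨_, ⟨⟨x, hxM, rfl⟩, hx2⟩, hx3⟩ := SetLike.exists_of_lt (CL.Transfer.lt_inf_normalizer hMp hlt)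
    have hxH : x ∉ H := fun h => hx3 (Subgroup.mem_map_of_mem π ⟨hxM, h⟩)
    have hsup2 : H ⊔ Subgroup.normalizer ((M ⊓ H : Subgroup G) : Set G) = ⊤ := by
      refine hmax.2 _ (left_lt_sup.2 fun h => hxH (h ?_))
      rw [Subgroup.mem_normalizer_iff]
      intro y
      constructor
      · intro hy
        refine hcomap _ hCQ _ ?_
        rw [map_mul, map_mul, map_inv]
        exact (Subgroup.mem_normalizer_iff.1 hx2 _).1 (Subgroup.mem_map_of_mem π hy)
      · intro hy
        refine hcomap _ hCQ _ ((Subgroup.mem_normalizer_iff.1 hx2 _).2 ?_)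
        rw [← map_inv, ← map_mul, ← map_mul]
        exact Subgroup.mem_map_of_mem π hy
    exact normal_of_sup_eq_top_of_conj_mem hsup2 hHQ
      fun k hk y hy => (Subgroup.mem_normalizer_iff.1 hk y).1 hy
  · have hsupM : H ⊔ M = ⊤ := eq_top_iff.2 (hsup ▸ sup_le_sup_left hchM.le H)
    refine normal_of_sup_eq_top_of_conj_mem hsupM hHQ ?_
    exact conj_mem_of_isHomog hCH hch.le hchM.le hHK (by rwa [sup_comm]) hMab
      (by rw [ha, hb]; exact Nat.coprime_pow_primes a b hp hq hpq) hθ hθC hinv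
      (hh K hKn le_rfl) (hh M hMn hchM.le)

/-- If `θ^G` is homogeneous on the normal subgroup `C ≤ H` and `θ_C` is irreducible then `θ_C` is invariant. -/
theorem invChar_of_isHomog_indFun [Fintype G] {H C : Subgroup G} [C.Normal] (hCH : C ≤ H)
    {θ : H → ℂ} (hθ : IsIrrCharacter H θ) (hθC : IsIrrCharacter C (fun x : C => θ ⟨x, hCH x.2⟩))
    (h : IsHomog C (indFun H θ)) : InvChar C (fun x : C => θ ⟨x, hCH x.2⟩) := by
  classical
  obtain ⟨φ, e, hφ, he⟩ := h
  have h1 : classInner (fun u : H => indFun H θ u) θ ≠ 0 := by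
    rw [← classInner_indFun_right H θ (indFun_isClassFunction H θ), Ne, classInner_self_eq_zero]
    exact indFun_ne_zero H (irr_apply_one_ne_zero hθ)
  have hα := char_sub_irr (char_restrict (char_indFun H (irr_isCharacter hθ)) H) hθ h1
  have h2 := char_eq_smul_of_add_eq_smul (irr_isCharacter hθC) (char_res_le hCH hα) hφ (e := e) (by
    rw [← he]; ext; simp)
  have h3 : φ = fun x : C => θ ⟨x, hCH x.2⟩ := by
    refine (irr_eq_of_inner_smul_ne_zero hφ hθC (e := classInner (fun x : C => θ ⟨x, hCH x.2⟩) φ) ?_).symm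
    rw [← h2, irr_inner_self hθC]
    exact one_ne_zero
  rw [← h3]
  refine invChar_of_res_eq_smul (indFun_isClassFunction H θ) ?_ he
  intro h0
  rw [h0, zero_smul] at he
  have := congrFun he 1
  rw [OneMemClass.coe_one, indFun_one] at this
  exact mul_ne_zero (Nat.cast_ne_zero.2 Subgroup.index_ne_zero_of_finite) (irr_apply_one_ne_zero hθ) this

end CL.Char
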