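import Cfsg.Agent.Char.ProjDegree
import Cfsg.Agent.Char.MaxInduced
import Cfsg.Agent.Char.Inflate

/-!
# Berger's theorem: quasi-primitive characters of solvable groups are primitive
-/

set_option autoImplicit false

namespace CL.Char

open Cfsg

universe u

variable {G : Type u} [Group G]

/-- If `G = K H`, `K ∩ H ≤ L` and `ϑ ∈ Irr H` lies over the invariant `φ ∈ Irr L`, then over a
suitable extension `p : Γ → G` the character `ϑ` factors as `β θ`, where `β` is a character of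
`Γ` and `θ` restricts irreducibly to an invariant character of the preimage of `L`. -/
theorem exists_berger_cover [Finite G] {H K L : Subgroup G} [hL : L.Normal] [K.Normal]
    (hLH : L ≤ H) (hLK : L ≤ K) (hKH : K ⊓ H ≤ L) (hsup : K ⊔ H = ⊤) [Fintype L] {φ : L → ℂ}
    (hφ : IsIrrCharacter L φ) (hinv : InvChar L φ) {ϑ : H → ℂ} (hϑ : IsIrrCharacter H ϑ)
    (hover : classInner (fun n : L => ϑ ⟨(n : G), hLH n.2⟩) φ ≠ 0) :
    ∃ (Γ : Type u) (_ : Group Γ) (_ : Finite Γ) (p : Γ →* G) (_ : Function.Surjective p)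
      (β : Γ → ℂ) (θ : H.comap p → ℂ), IsCharacter Γ β ∧ IsCharacter (H.comap p) θ ∧
      (∀ x : H.comap p, ϑ ⟨p x, x.2⟩ = β x * θ x) ∧
      IsIrrCharacter (L.comap p) (fun x : L.comap p => θ ⟨x, hLH x.2⟩) ∧
      InvChar (L.comap p) (fun x : L.comap p => θ ⟨x, hLH x.2⟩) := by
  classical
  have : Fintype (L.subgroupOf H) := Fintype.ofFinite _
  obtain ⟨Γ, _, _, ⟨E⟩⟩ := exists_charCover (L.subgroupOf H) _ (irr_subgroupOf hLH hφ)
    (fun g n => hinv g ⟨(n : H), Subgroup.mem_subgroupOf.mp n.2⟩)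
  have : Fintype Γ := Fintype.ofFinite _
  obtain ⟨β, hβ, hβN, he⟩ := E.exists_factor (irr_subgroupOf hLH hφ) hϑ (by
    rw [← classInner_subgroupOf hLH] at hover
    exact hover)
  have := E.ι_range_normal
  obtain ⟨β', hβ', hββ⟩ := char_exists_quotient (irr_isCharacter hβ) E.ι.range hβN
  let s : Γ ⧸ E.ι.range →* G ⧸ K := QuotientGroup.lift E.ι.range
    ((QuotientGroup.mk' K).comp (H.subtype.comp E.π)) (by
      rintro _ ⟨n, rfl⟩
      simp only [MonoidHom.mem_ker, MonoidHom.comp_apply, E.π_ι, QuotientGroup.mk'_apply,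
        QuotientGroup.eq_one_iff]
      exact hLK (Subgroup.mem_subgroupOf.mp n.2))
  have hs : ∀ γ : Γ, s γ = ((E.π γ : G) : G ⧸ K) := fun γ => rfl
  let P : Subgroup (G × (Γ ⧸ E.ι.range)) :=
    MonoidHom.eqLocus ((QuotientGroup.mk' K).comp (MonoidHom.fst _ _)) (s.comp (MonoidHom.snd _ _))
  have hP : ∀ x : G × (Γ ⧸ E.ι.range), x ∈ P ↔ (x.1 : G ⧸ K) = s x.2 := fun x => Iff.rfl
  let p : P →* G := (MonoidHom.fst _ _).comp P.subtype
  have hp : Function.Surjective p := by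
    intro g
    obtain ⟨k, hk, h, hh, rfl⟩ := exists_mul_of_sup_eq_top_of_normal_left H K hsup g
    obtain ⟨γ, hγ⟩ := E.π_surj ⟨h, hh⟩
    refine ⟨⟨(k * h, (γ : Γ ⧸ E.ι.range)), ?_⟩, rfl⟩
    rw [hP, hs, hγ, QuotientGroup.mk_mul, (QuotientGroup.eq_one_iff k).2 hk, one_mul]
  let j₀ : Γ →* P := ((H.subtype.comp E.π).prod (QuotientGroup.mk' E.ι.range)).codRestrict P
    (fun γ => rfl)
  let j : Γ →* H.comap p := j₀.codRestrict _ (fun γ => (E.π γ).2)
  have hj1 : ∀ γ, ((j γ : P) : G × (Γ ⧸ E.ι.range)) = ((E.π γ : G), (γ : Γ ⧸ E.ι.range)) :=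
    fun γ => rfl
  have hj : Function.Bijective j := by
    constructor
    · rw [injective_iff_map_eq_one]
      intro γ hγ
      have h1 := hj1 γ
      rw [hγ] at h1
      have h2 : γ ∈ E.ι.range ⊓ E.π.ker :=
        ⟨(QuotientGroup.eq_one_iff γ).1 (congrArg Prod.snd h1).symm,
          Subtype.ext (congrArg Prod.fst h1).symm⟩
      rwa [E.range_inf_ker] at h2
    · rintro ⟨⟨⟨h, q⟩, hq⟩, hh⟩
      obtain ⟨γ, rfl⟩ := QuotientGroup.mk_surjective q
      have hh' : h ∈ H := hh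
      rw [hP, hs, eq_comm, QuotientGroup.eq] at hq
      have hl : (E.π γ)⁻¹ * ⟨h, hh'⟩ ∈ L.subgroupOf H :=
        Subgroup.mem_subgroupOf.2 (hKH ⟨hq, ((E.π γ)⁻¹ * ⟨h, hh'⟩).2⟩)
      refine ⟨γ * E.ι ⟨_, hl⟩, Subtype.ext (Subtype.ext ?_)⟩
      rw [hj1]
      refine Prod.ext ?_ ?_
      · simp [E.π_ι]
      · exact QuotientGroup.mk_mul_of_mem γ ⟨_, rfl⟩
  let e := MulEquiv.ofBijective j hj
  have hθ : ∀ γ, E.θ (e.symm (j γ)) = E.θ γ := fun γ => congrArg E.θ (e.symm_apply_apply γ)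
  have hθc : IsCharacter (H.comap p) (fun x => E.θ (e.symm x)) :=
    char_comp (irr_isCharacter E.irr) e.symm.toMonoidHom
  refine ⟨P, inferInstance, inferInstance, p, hp, fun x => β' (x : G × (Γ ⧸ E.ι.range)).2,
    fun x => E.θ (e.symm x), char_comp hβ' ((MonoidHom.snd _ _).comp P.subtype), hθc, ?_, ?_, ?_⟩
  · intro x
    obtain ⟨γ, rfl⟩ := hj.2 x
    beta_reduce
    rw [hθ, hj1, hββ]
    exact congrFun he γ
  · let f : L.subgroupOf H →* L.comap p := (j₀.comp E.ι).codRestrict _ (fun n => by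
      change ((E.π (E.ι n) : H) : G) ∈ L
      rw [E.π_ι]
      exact Subgroup.mem_subgroupOf.mp n.2)
    refine irr_of_irr_comp (char_res_le (Subgroup.comap_mono hLH) hθc) f ?_
    convert irr_subgroupOf hLH hφ using 2 with n
    exact (hθ (E.ι n)).trans (E.θ_ι n)
  · intro g x
    obtain ⟨γ, hγ⟩ := hj.2 ⟨x, hLH x.2⟩
    have hγL : E.π γ ∈ L.subgroupOf H := by
      have h1 : ((E.π γ : H) : G) = p x := congrArg (fun y : H.comap p => p y) hγ
      rw [Subgroup.mem_subgroupOf, h1]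
      exact x.2
    have hz : γ * (E.ι ⟨_, hγL⟩)⁻¹ ∈ E.π.ker := by simp [MonoidHom.mem_ker, E.π_ι]
    have hl' : p g * E.π γ * (p g)⁻¹ ∈ L := hL.conj_mem _ (Subgroup.mem_subgroupOf.mp hγL) _
    let l' : L.subgroupOf H := ⟨⟨_, hLH hl'⟩, Subgroup.mem_subgroupOf.2 hl'⟩
    have h2 : (⟨g * x * g⁻¹, hLH (Subgroup.Normal.conj_mem inferInstance _ x.2 g)⟩ : H.comap p) =
        j (γ * (E.ι ⟨_, hγL⟩)⁻¹ * E.ι l') := by
      have hx : ((x : P) : G × (Γ ⧸ E.ι.range)) = ((E.π γ : G), (γ : Γ ⧸ E.ι.range)) := by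
        rw [← hj1, hγ]
      refine Subtype.ext (Subtype.ext ?_)
      rw [hj1]
      change (g : G × (Γ ⧸ E.ι.range)) * (x : P) * (g : G × (Γ ⧸ E.ι.range))⁻¹ = _
      rw [hx]
      refine Prod.ext ?_ ?_
      · simp only [Prod.fst_mul, Prod.fst_inv, map_mul, map_inv, E.π_ι, mul_inv_cancel, one_mul]
        rfl
      · simp only [Prod.snd_mul, Prod.snd_inv]
        obtain ⟨δ, hδ⟩ := QuotientGroup.mk_surjective (g : G × (Γ ⧸ E.ι.range)).2
        have h3 : ((γ * (E.ι ⟨_, hγL⟩)⁻¹ : Γ) : Γ ⧸ E.ι.range) = γ :=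
          QuotientGroup.mk_mul_of_mem γ (E.ι.range.inv_mem ⟨_, rfl⟩)
        rw [QuotientGroup.mk_mul_of_mem _ (show E.ι l' ∈ E.ι.range from ⟨l', rfl⟩), ← hδ, h3, ← h3, ← QuotientGroup.mk_mul,
          Subgroup.mem_center_iff.1 (E.ker_le_center hz) δ, QuotientGroup.mk_mul,
          mul_inv_cancel_right]
    have h4 : γ = γ * (E.ι ⟨_, hγL⟩)⁻¹ * E.ι ⟨_, hγL⟩ := by group
    change E.θ (e.symm ⟨g * x * g⁻¹, _⟩) = E.θ (e.symm ⟨x, _⟩)
    rw [h2, ← hγ, hθ, hθ]
    conv_rhs => rw [h4]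
    rw [E.θ_mul ⟨_, hz⟩, E.θ_mul ⟨_, hz⟩, E.θ_ι, E.θ_ι]
    congr 1
    exact hinv (p g) ⟨_, Subgroup.mem_subgroupOf.mp hγL⟩

/-- The key step of Berger's theorem. -/
theorem exists_indFun_eq_of_isHomog_normalCore [Fintype G] [Group.IsSolvable G] {H : Subgroup G}
    (hmax : IsCoatom H) {ϑ : H → ℂ} (hϑ : IsCharacter H ϑ) (hχ : IsIrrCharacter G (indFun H ϑ))
    (hhom : IsHomog H.normalCore (indFun H ϑ)) :
    ∃ M T : Subgroup G, M.Normal ∧ H.normalCore < M ∧ M ≤ T ∧ T ≠ ⊤ ∧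
      ∃ ψ : T → ℂ, IsCharacter T ψ ∧ indFun T ψ = indFun H ϑ := by
  classical
  have hϑi := irr_of_irr_indFun H hϑ hχ
  set L := H.normalCore with hLdef
  have hLH : L ≤ H := H.normalCore_le
  have hcore : ∀ M : Subgroup G, M.Normal → M ≤ H → M ≤ L := fun M _ hM =>
    Subgroup.normal_le_normalCore.2 hM
  obtain ⟨K, -, hch⟩ := exists_isChief_above (lt_of_le_of_lt hLH hmax.lt_top)
  have := hch.normal_right
  have hsup : K ⊔ H = ⊤ := by
    refine hmax.2 _ (lt_of_le_of_ne le_sup_right fun h => ?_)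
    exact hch.lt.not_ge (hcore K inferInstance (h ▸ le_sup_left))
  have hab := hch.commutator_le_of_solvable
  have hKH : K ⊓ H ≤ L := by
    refine hcore _ (normal_of_sup_eq_top_of_conj_mem (H := K) (K := H) hsup ?_ ?_) inf_le_right
    · intro k hk q hq
      refine ⟨K.mul_mem (K.mul_mem hk hq.1) (K.inv_mem hk), ?_⟩
      have h1 : k * q * k⁻¹ * q⁻¹ ∈ H := hLH (hab (Subgroup.commutator_mem_commutator hk hq.1))
      simpa using H.mul_mem h1 hq.2
    · intro h hh q hq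
      exact ⟨Subgroup.Normal.conj_mem inferInstance _ hq.1 h,
        H.mul_mem (H.mul_mem hh hq.2) (H.inv_mem hh)⟩
  obtain ⟨φ, e, hφ, he⟩ := hhom
  have he0 : (e : ℂ) ≠ 0 := by
    intro h0
    have h1 := congrFun he 1
    rw [h0, zero_smul] at h1
    exact irr_apply_one_ne_zero hχ h1
  have hinv : InvChar L φ := invChar_of_res_eq_smul (irr_isClassFunction hχ) he0 he
  have : Fintype L := Fintype.ofFinite _
  have : Fintype H := Fintype.ofFinite _
  have hover : classInner (fun n : L => ϑ ⟨(n : G), hLH n.2⟩) φ ≠ 0 := by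
    obtain ⟨φ', hφ', h1⟩ := char_exists_irr_constituent (char_res_le hLH hϑ) (fun h0 =>
      irr_apply_one_ne_zero hϑi (congrFun h0 1))
    have h2 := classInner_res_le_of_constituent L hLH (irr_isCharacter hφ') hϑi
      (irr_isCharacter hχ) (by rw [irr_inner_self hχ]; exact one_ne_zero)
    obtain ⟨n, hn⟩ := char_inner_nat (char_res_le hLH hϑ) (irr_isCharacter hφ')
    have h3 : classInner (fun n : L => indFun H ϑ n) φ' ≠ 0 := by
      intro h0
      rw [h0, hn] at h2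
      rw [hn] at h1
      simp only [Complex.natCast_re, Complex.zero_re] at h2
      exact h1 (by exact_mod_cast le_antisymm h2 (Nat.cast_nonneg n))
    rw [he] at h3
    rwa [← irr_eq_of_inner_smul_ne_zero hφ hφ' h3]
  obtain ⟨Γ, _, _, p, hp, β, θ, hβ, hθ, hfac, hθL, hθinv⟩ :=
    exists_berger_cover hLH hch.le hKH hsup hφ hinv hϑi hover
  have : Fintype Γ := Fintype.ofFinite _
  have hχp : (fun γ => indFun H ϑ (p γ)) = β * indFun (H.comap p) θ := by
    rw [← indFun_res_mul _ _ (char_isClassFunction hβ)]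
    funext γ
    rw [← indFun_comap p hp]
    congr 1
    funext x
    exact hfac x
  have hχpi := irr_comp_surjective hχ p hp
  have hξ : IsIrrCharacter Γ (indFun (H.comap p) θ) := by
    rw [hχp, mul_comm] at hχpi
    exact irr_of_mul_irr (char_indFun _ hθ) hβ hχpi
  have hmax' : IsCoatom (H.comap p) := Subgroup.isCoatom_comap_of_surjective hp hmax
  have hlt : L.comap p < ⊤ := lt_of_le_of_lt (Subgroup.comap_mono hLH) hmax'.lt_top
  obtain ⟨K', -, hch'⟩ := exists_isChief_above hlt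
  have hsolv : Group.IsSolvable (Γ ⧸ L.comap p) := by
    refine Group.isSolvable_of_isSolvable_injective
      (f := QuotientGroup.map (L.comap p) L p le_rfl) ?_
    rw [injective_iff_map_eq_one]
    intro x hx
    obtain ⟨γ, rfl⟩ := QuotientGroup.mk_surjective x
    rw [QuotientGroup.map_mk, QuotientGroup.eq_one_iff] at hx
    exact (QuotientGroup.eq_one_iff γ).2 hx
  obtain ⟨M, hM, hKM, hnh⟩ := exists_not_isHomog_of_isCoatom hmax' (Subgroup.comap_mono hLH)
    (fun M hM hMH => by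
      rw [← Subgroup.map_le_iff_le_comap] at hMH ⊢
      exact hcore _ (hM.map p hp) hMH) hch' hsolv hθ hθL hθinv hξ
  obtain ⟨T, hMT, hT, η, hη, hind⟩ := exists_indFun_eq_of_not_isHomog hξ hnh
  have hLM : L.comap p < M := hch'.lt.trans_le hKM
  have hkT : p.ker ≤ T := (Subgroup.ker_le_comap p L).trans (hLM.le.trans hMT)
  have hTT : (T.map p).comap p = T := Subgroup.comap_map_eq_self hkT
  have hζ : IsCharacter T ((fun t : T => β t) * η) :=
    char_mul (char_restrict hβ T) (irr_isCharacter hη)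
  have hζi : indFun T ((fun t : T => β t) * η) = fun γ => indFun H ϑ (p γ) := by
    rw [indFun_res_mul _ _ (char_isClassFunction hβ), hind, hχp]
  have : Fintype T := Fintype.ofFinite _
  obtain ⟨ψ, hψ, hψp⟩ := char_exists_comp_eq hζ (p.subgroupMap T) (p.subgroupMap_surjective T) (by
    intro x hx
    have hx1 : p x = 1 := congrArg Subtype.val hx
    refine char_apply_eq_of_inner_ne_zero (char_restrict (irr_isCharacter hχpi) T)
      (irr_of_irr_indFun T hζ (hζi ▸ hχpi)) ?_ (by simp [hx1])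
    rw [← classInner_indFun_right T _ (irr_isClassFunction hχpi), hζi, irr_inner_self hχpi]
    exact one_ne_zero)
  refine ⟨M.map p, T.map p, hM.map p hp, ?_, Subgroup.map_mono hMT, ?_, ψ, hψ, ?_⟩
  · refine lt_of_le_of_ne ?_ fun h => hLM.not_ge ?_
    · rw [← Subgroup.map_comap_eq_self_of_surjective hp L]
      exact Subgroup.map_mono hLM.le
    · rw [h]
      exact Subgroup.le_comap_map p M
  · intro h
    rw [h, Subgroup.comap_top] at hTT
    exact hT hTT.symm
  · funext g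
    obtain ⟨γ, rfl⟩ := hp g
    rw [indFun_comp_of_surjective p hp T (T.map p) (fun g => by
      rw [← Subgroup.mem_comap, hTT]) _ ψ (fun t => hψp t), hζi]

/-- Berger's theorem. -/
theorem indFun_ne_of_forall_isHomog [Fintype G] [Group.IsSolvable G] {χ : G → ℂ}
    (hχ : IsIrrCharacter G χ) (hqp : ∀ N : Subgroup G, N.Normal → IsHomog N χ) {K : Subgroup G}
    (hK : K ≠ ⊤) {ψ : K → ℂ} (hψ : IsCharacter K ψ) : indFun K ψ ≠ χ := by
  classical
  intro hind
  obtain ⟨M, -, ⟨hM, T, hMT, hT, ψ, hψ, rfl⟩, hmaxM⟩ := Finite.exists_le_maximal (a := ⊥)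
    (p := fun M : Subgroup G => M.Normal ∧ ∃ T : Subgroup G, M ≤ T ∧ T ≠ ⊤ ∧
      ∃ ψ : T → ℂ, IsCharacter T ψ ∧ indFun T ψ = χ) ⟨inferInstance, K, bot_le, hK, ψ, hψ, hind⟩
  obtain ⟨H, hH, hTH⟩ := (eq_top_or_exists_le_coatom T).resolve_left hT
  have : Fintype H := Fintype.ofFinite _
  have h1 := indFun_indFun T H hTH ψ
  obtain ⟨M', T', hM', hlt, hMT', hT', ψ', hψ', h2⟩ := exists_indFun_eq_of_isHomog_normalCore hH
    (char_indFun _ (char_subgroupOf hTH hψ)) (h1 ▸ hχ) (h1 ▸ hqp _ inferInstance)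
  have h3 : M < M' := (Subgroup.normal_le_normalCore.2 (hMT.trans hTH)).trans_lt hlt
  exact h3.not_ge (hmaxM ⟨hM', T', hMT', hT', ψ', hψ', h2.trans h1⟩ h3.le)

end CL.Char
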