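import Cfsg.Agent.Base
import Cfsg.Agent.Char.BrauerElem

/-!
# Dade's theorem on `p`-elementary subgroups detecting an invariant character
-/

set_option autoImplicit false

namespace CL.Brauer

open Cfsg MulAction CL.Char
open scoped ComplexConjugate

/-- A group acting on a finite set through a `p`-group has a fixed point if `p` does not divide
the size of the set. -/
theorem exists_fixed_of_pow_smul {A X : Type*} [Group A] [MulAction A X] [Finite X] {p k : ℕ}
    (hp : p.Prime) (hA : ∀ (a : A) (x : X), a ^ p ^ k • x = x) (hX : ¬ p ∣ Nat.card X) :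
    ∃ x : X, ∀ a : A, a • x = x := by
  have := Fact.mk hp
  have h1 : IsPGroup p (toPermHom A X).range := by
    rintro ⟨_, a, rfl⟩
    refine ⟨k, Subtype.ext ?_⟩
    change toPermHom A X a ^ p ^ k = 1
    rw [← map_pow]
    ext x
    exact hA a x
  obtain ⟨x, hx⟩ := h1.nonempty_fixed_point_of_prime_not_dvd_card X hX
  exact ⟨x, fun a => hx ⟨_, a, rfl⟩⟩

/-- Weighted version: an invariant weight whose total is prime to `p` is prime to `p` at some
fixed point. -/
theorem exists_fixed_of_not_dvd_sum {A X : Type*} [Group A] [MulAction A X] [Fintype X] {p k : ℕ}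
    (hp : p.Prime) (hA : ∀ (a : A) (x : X), a ^ p ^ k • x = x) (w : X → ℕ)
    (hw : ∀ (a : A) (x : X), w (a • x) = w x) (hX : ¬ p ∣ ∑ x, w x) :
    ∃ x : X, (∀ a : A, a • x = x) ∧ ¬ p ∣ w x := by
  classical
  rw [Finset.sum_comp (fun v : ℕ => v) w] at hX
  obtain ⟨v, -, hv⟩ : ∃ v ∈ Finset.univ.image w,
      ¬ p ∣ (Finset.univ.filter fun x => w x = v).card • v := by
    by_contra h
    push Not at h
    exact hX (Finset.dvd_sum h)
  rw [smul_eq_mul] at hv
  let S : SubMulAction A X :=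
    { carrier := {x | w x = v}
      smul_mem' := fun a x hx => (hw a x).trans hx }
  obtain ⟨x, hx⟩ := exists_fixed_of_pow_smul (A := A) (X := S) (k := k) hp
    (fun a x => Subtype.ext (hA a x)) (by
      intro h
      apply hv
      refine Dvd.dvd.mul_right ?_ v
      rwa [← Fintype.card_subtype, ← Nat.card_eq_fintype_card])
  refine ⟨x, fun a => congrArg Subtype.val (hx a), fun h => hv (Dvd.dvd.mul_left ?_ _)⟩
  have : w x = v := x.2
  rwa [← this]

/-- An action on a group by automorphisms, factoring through a `p`-group modulo inner ones, fixes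
an irreducible character at which a given invariant weight is prime to `p`. -/
theorem exists_fixed_irr {A D : Type*} [Group A] [Group D] [Finite D] (α : A →* MulAut D) {p k : ℕ}
    (hp : p.Prime) (hA : ∀ a : A, ∃ d : D, ∀ x, α (a ^ p ^ k) x = d * x * d⁻¹)
    (w : IrrCharacter D → ℕ)
    (hw : ∀ (a : A) (φ : IrrCharacter D), w ⟨_, irr_comp_mulEquiv φ.2 (α a)⟩ = w φ)
    (hX : ¬ p ∣ ∑ φ, w φ) :
    ∃ φ : IrrCharacter D, (∀ a x, (φ : D → ℂ) (α a x) = (φ : D → ℂ) x) ∧ ¬ p ∣ w φ := by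
  let : MulAction A (IrrCharacter D) :=
    { smul := fun a φ => ⟨_, irr_comp_mulEquiv φ.2 (α a⁻¹)⟩
      one_smul := fun φ => Subtype.ext (funext fun x => by
        change (φ : D → ℂ) (α 1⁻¹ x) = _
        simp)
      mul_smul := fun a b φ => Subtype.ext (funext fun x => by
        change (φ : D → ℂ) (α (a * b)⁻¹ x) = (φ : D → ℂ) (α b⁻¹ (α a⁻¹ x))
        simp) }
  obtain ⟨φ, h1, h2⟩ := exists_fixed_of_not_dvd_sum (A := A) (k := k) hp (fun a φ => by
    apply Subtype.ext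
    funext x
    change (φ : D → ℂ) (α (a ^ p ^ k)⁻¹ x) = _
    obtain ⟨d, hd⟩ := hA a⁻¹
    rw [← inv_pow, hd]
    exact irr_isClassFunction φ.2 x d) w (fun a φ => hw a⁻¹ φ) hX
  refine ⟨φ, fun a x => ?_, h2⟩
  have := congrFun (congrArg Subtype.val (h1 a⁻¹)) x
  change (φ : D → ℂ) (α a⁻¹⁻¹ x) = _ at this
  rwa [inv_inv] at this

variable {G : Type*} [Group G]

/-- conjugation action of `E` on `E ⊓ N` for a normal subgroup `N` -/
def conjInfAut (E N : Subgroup G) [hN : N.Normal] : E →* MulAut ↥(E ⊓ N) where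
  toFun g :=
    { toFun := fun x => ⟨g * x * g⁻¹, E.mul_mem (E.mul_mem g.2 x.2.1) (E.inv_mem g.2),
        hN.conj_mem _ x.2.2 _⟩
      invFun := fun x => ⟨g⁻¹ * x * g, E.mul_mem (E.mul_mem (E.inv_mem g.2) x.2.1) g.2,
        hN.conj_mem' _ x.2.2 _⟩
      left_inv := fun x => Subtype.ext (by simp [mul_assoc])
      right_inv := fun x => Subtype.ext (by simp [mul_assoc])
      map_mul' := fun x y => Subtype.ext (by simp [mul_assoc]) }
  map_one' := by ext x; simp
  map_mul' g h := by ext x; simp [mul_assoc]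

theorem coe_conjInfAut (E N : Subgroup G) [N.Normal] (g : E) (x : ↥(E ⊓ N)) :
    (conjInfAut E N g x : G) = g * x * (g : G)⁻¹ := rfl

theorem index_eq_relIndex_mul (E N : Subgroup G) [N.Normal] :
    N.index = N.relIndex E * (E ⊔ N).index := by
  rw [← Subgroup.relIndex_sup_right, Subgroup.relIndex_mul_index le_sup_right]

/-- The inner product of `(Ind ψ)_N · ϑ` with an invariant `ϑ`. -/
theorem inner_res_indFun_mul [Fintype G] (N E : Subgroup G) [hN : N.Normal] [Fintype N]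
    [Fintype ↥(E ⊓ N)] (ψ : E → ℂ) (η : N → ℂ)
    (hinv : ∀ (g : G) (n : N), η ⟨g * n * g⁻¹, hN.conj_mem (n : G) n.2 g⟩ = η n) :
    classInner (fun n : N => indFun E ψ n) η = ((E ⊔ N).index : ℂ) *
      classInner (fun x : ↥(E ⊓ N) => ψ ⟨x, x.2.1⟩) (fun x => η ⟨x, x.2.2⟩) := by
  classical
  have := Fintype.ofFinite E
  have hcl : IsClassFunction G (extendByZero N η) := by
    intro g h
    by_cases hg : g ∈ N
    · rw [extendByZero_of_mem _ _ hg, extendByZero_of_mem _ _ (hN.conj_mem g hg h)]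
      exact hinv h ⟨g, hg⟩
    · rw [extendByZero_of_not_mem _ _ hg, extendByZero_of_not_mem]
      intro h'
      exact hg (by simpa [mul_assoc] using hN.conj_mem' _ h' h)
  have h1 := classInner_indFun_left E ψ hcl
  rw [classInner_def, classInner_def] at h1
  have h2 : ∑ g : G, indFun E ψ g * conj (extendByZero N η g) =
      ∑ n : N, indFun E ψ n * conj (η n) := by
    simp_rw [← extendByZero_conj, mul_comm (indFun E ψ _)]
    exact sum_extendByZero_mul N _ _
  have h3 : ∑ e : E, ψ e * conj (extendByZero N η e) =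
      ∑ x : ↥(E ⊓ N), ψ ⟨x, x.2.1⟩ * conj (η ⟨x, x.2.2⟩) := by
    symm
    refine Finset.sum_of_injOn (fun x : ↥(E ⊓ N) => (⟨x, x.2.1⟩ : E))
      (fun x _ y _ h => Subtype.ext (congrArg (fun e : E => (e : G)) h)) (fun _ _ => by simp) ?_ ?_
    · intro e _ he
      rw [extendByZero_of_not_mem, map_zero, mul_zero]
      intro h
      exact he ⟨⟨e, e.2, h⟩, by simp, rfl⟩
    · intro x _
      rw [extendByZero_of_mem _ _ x.2.2]
  rw [h2, h3] at h1
  rw [classInner_def, classInner_def]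
  have h4 : Nat.card G = Nat.card N * (N.relIndex E * (E ⊔ N).index) := by
    rw [← index_eq_relIndex_mul, N.card_mul_index]
  have h5 : Nat.card E = Nat.card ↥(E ⊓ N) * N.relIndex E := by
    rw [← Subgroup.inf_relIndex_left, Subgroup.relIndex,
      ← Nat.card_congr (Subgroup.subgroupOfEquivOfLe (inf_le_left : E ⊓ N ≤ E)).toEquiv,
      Subgroup.card_mul_index]
  have h6 : (Nat.card N : ℂ) ≠ 0 := card_ne_zero
  have h7 : (Nat.card ↥(E ⊓ N) : ℂ) ≠ 0 := card_ne_zero
  have h8 : (N.relIndex E : ℂ) ≠ 0 := Nat.cast_ne_zero.mpr Subgroup.FiniteIndex.index_ne_zero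
  have h9 : ((E ⊔ N).index : ℂ) ≠ 0 := Nat.cast_ne_zero.mpr Subgroup.FiniteIndex.index_ne_zero
  rw [h4, h5] at h1
  push_cast at h1
  field_simp at h1 ⊢
  linear_combination h1

/-- Dade's theorem. -/
theorem dade_elementary [Fintype G] {p : ℕ} (hp : p.Prime) (N : Subgroup G) [hN : N.Normal]
    (hind : ∃ k : ℕ, N.index = p ^ k) {ϑ : N → ℂ} (hϑ : IsIrrCharacter N ϑ)
    (hinv : ∀ (g : G) (n : N), ϑ ⟨g * n * g⁻¹, hN.conj_mem (n : G) n.2 g⟩ = ϑ n) :
    ∃ (E : Subgroup G) (_ : Fintype ↥(E ⊓ N)) (φ : ↥(E ⊓ N) → ℂ), IsElementary p E ∧ E ⊔ N = ⊤ ∧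
      IsIrrCharacter ↥(E ⊓ N) φ ∧ (∀ (g : E) (x : ↥(E ⊓ N)), φ (conjInfAut E N g x) = φ x) ∧
      ∃ m : ℕ, ¬ p ∣ m ∧ classInner (fun x : ↥(E ⊓ N) => ϑ ⟨x, x.2.2⟩) φ = m := by
  classical
  have := Fintype.ofFinite N
  obtain ⟨k, hk⟩ := hind
  obtain ⟨m, hm, hmem⟩ := exists_const_mem_span_elemInd (G := G) hp
  let η : N → ℂ := fun n => ϑ n * conj (ϑ n)
  have hηinv : ∀ (g : G) (n : N), η ⟨g * n * g⁻¹, hN.conj_mem (n : G) n.2 g⟩ = η n := by
    intro g n; simp only [η, hinv]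
  obtain ⟨_, ⟨E, ψ, hE, hψ, rfl⟩, hF⟩ : ∃ F ∈ elemInd G p,
      ¬ ∃ j : ℤ, classInner (fun n : N => F n) η = p * j := by
    by_contra hcon
    push Not at hcon
    have key : ∀ F ∈ Submodule.span ℤ (elemInd G p),
        ∃ j : ℤ, classInner (fun n : N => F n) η = p * j := by
      intro F hF
      induction hF using Submodule.span_induction with
      | mem F hF => exact hcon F hF
      | zero => exact ⟨0, (classInner_zero_left η).trans (by simp)⟩
      | add F F' _ _ h h' =>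
        obtain ⟨j, hj⟩ := h
        obtain ⟨j', hj'⟩ := h'
        refine ⟨j + j', ?_⟩
        rw [Int.cast_add, mul_add, ← hj, ← hj', ← classInner_add_left]
        rfl
      | smul c F _ h =>
        obtain ⟨j, hj⟩ := h
        refine ⟨c * j, ?_⟩
        rw [Int.cast_mul, mul_left_comm, ← hj, ← classInner_zsmul_left]
        rfl
    obtain ⟨j, hj⟩ := key _ hmem
    have h1 : classInner (fun _ : N => (m : ℂ)) η = m := by
      have h2 := irr_inner_self hϑ
      rw [classInner_def] at h2 ⊢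
      simp only [η, map_mul, Complex.conj_conj, ← Finset.mul_sum, mul_comm (conj (ϑ _))]
      rw [mul_left_comm, h2, mul_one]
    rw [h1] at hj
    exact hm ⟨j, by exact_mod_cast hj⟩
  have := Fintype.ofFinite ↥(E ⊓ N)
  rw [inner_res_indFun_mul N E ψ η hηinv] at hF
  set ψ' : ↥(E ⊓ N) → ℂ := fun x => ψ ⟨x, x.2.1⟩ with hψ'
  set ϑ' : ↥(E ⊓ N) → ℂ := fun x => ϑ ⟨x, x.2.2⟩ with hϑ'
  have hψc : IsCharacter ↥(E ⊓ N) ψ' := char_comp hψ (Subgroup.inclusion inf_le_left)
  have hϑc : IsCharacter ↥(E ⊓ N) ϑ' :=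
    char_comp (irr_isCharacter hϑ) (Subgroup.inclusion inf_le_right)
  have hψinv : ∀ (g : E) x, ψ' (conjInfAut E N g x) = ψ' x := fun g x =>
    char_isClassFunction hψ ⟨x, x.2.1⟩ g
  have hϑinv : ∀ (g : E) x, ϑ' (conjInfAut E N g x) = ϑ' x := fun g x => hinv g ⟨x, x.2.2⟩
  choose a ha using fun φ : IrrCharacter ↥(E ⊓ N) => char_inner_nat hϑc (irr_isCharacter φ.2)
  choose b hb using fun φ : IrrCharacter ↥(E ⊓ N) =>
    char_inner_nat (char_mul hψc hϑc) (irr_isCharacter φ.2)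
  have h1 : classInner ψ' (fun x : ↥(E ⊓ N) => η ⟨x, x.2.2⟩) = ((∑ φ, a φ * b φ : ℕ) : ℂ) := by
    have h2 : classInner ψ' (fun x : ↥(E ⊓ N) => η ⟨x, x.2.2⟩) = classInner (ψ' * ϑ') ϑ' := by
      rw [classInner_mul_left]
      congr 1
      funext x
      exact mul_comm _ _
    rw [h2, classInner_eq_sum (char_isClassFunction (char_mul hψc hϑc))]
    simp only [ha, hb]
    simp [mul_comm]
  rw [h1] at hF
  have hnd : ¬ p ∣ (E ⊔ N).index * ∑ φ, a φ * b φ := by
    rintro ⟨j, hj⟩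
    exact hF ⟨j, by exact_mod_cast hj⟩
  have htop : E ⊔ N = ⊤ := by
    have h2 : (E ⊔ N).index ∣ p ^ k := hk ▸ Subgroup.index_dvd_of_le le_sup_right
    obtain ⟨i, -, hi⟩ := (Nat.dvd_prime_pow hp).mp h2
    rcases i with _ | i
    · exact Subgroup.index_eq_one.mp hi
    · exact (hnd (Dvd.dvd.mul_right (hi ▸ dvd_pow_self p i.succ_ne_zero) _)).elim
  obtain ⟨φ, hφ, hφp⟩ := exists_fixed_irr (conjInfAut E N) (k := k) hp
    (fun g => ⟨⟨(g : G) ^ p ^ k, E.pow_mem g.2 _, hk ▸ N.pow_index_mem g⟩, fun x => rfl⟩)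
    (fun φ => a φ * b φ) (fun g φ => by
      congr 1
      · apply Nat.cast_injective (R := ℂ)
        rw [← ha, ← ha, ← classInner_comp_mulEquiv (conjInfAut E N g) ϑ' φ]
        simp only [hϑinv]
      · apply Nat.cast_injective (R := ℂ)
        rw [← hb, ← hb, ← classInner_comp_mulEquiv (conjInfAut E N g) (ψ' * ϑ') φ]
        simp only [Pi.mul_apply, hϑinv, hψinv]
        rfl) (fun h => hnd (Dvd.dvd.mul_left h _))
  exact ⟨E, this, φ, hE, htop, φ.2, hφ, a φ, fun h => hφp (Dvd.dvd.mul_right h _), ha φ⟩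

end CL.Brauer
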