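import Cfsg.Agent.Base
import Cfsg.Agent.Char.BrauerElem
import Cfsg.Agent.Char.Values
import Cfsg.Agent.Char.Integral

/-!
# The Brauer-Suzuki normal complement theorem for Hall subgroups
-/

set_option autoImplicit false

namespace CL.Brauer

open Cfsg MulAction CL.Char
open scoped ComplexConjugate

variable {G : Type*} [Group G]

/-- If `σ : G → H` is constant up to conjugacy on classes, fixes the classes of `H`, and pulls
class functions with algebraic-integer Fourier coefficients back to such functions, then it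
preserves averages of class functions. -/
theorem sum_comp_eq_of_integral [Fintype G] {H : Type*} [Group H] [Fintype H] (σ : G → H)
    (hsurj : ∀ h : H, ∃ x : G, IsConj (σ x) h)
    (hint : ∀ θ : H → ℂ, IsClassFunction H θ →
      (∀ ξ, IsIrrCharacter H ξ → IsIntegral ℤ (classInner θ ξ)) →
      IsIntegral ℤ (classInner (fun x => θ (σ x)) (fun _ => 1)))
    {φ : H → ℂ} (hφ : IsClassFunction H φ) :
    (Nat.card G : ℂ)⁻¹ * ∑ x : G, φ (σ x) = (Nat.card H : ℂ)⁻¹ * ∑ h : H, φ h := by
  classical
  let δ : H → H → ℕ := fun h y => ∑ t : H, if t * y * t⁻¹ = h then 1 else 0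
  have hδ1 : ∀ (ψ : H → ℂ), IsClassFunction H ψ → ∀ y,
      ∑ h, (δ h y : ℂ) * ψ h = Nat.card H * ψ y := by
    intro ψ hψ y
    simp only [δ, Nat.cast_sum, Finset.sum_mul]
    rw [Finset.sum_comm]
    simp [hψ y, Nat.card_eq_fintype_card]
  have hδ2 : ∀ h, IsClassFunction H (fun y => (δ h y : ℂ)) := by
    intro h y s
    simp only [δ]
    congr 1
    refine Fintype.sum_equiv (Equiv.mulRight s) _ _ fun t => ?_
    simp [mul_assoc]
  have hδ3 : ∀ h ξ, IsIrrCharacter H ξ → classInner (fun y => (δ h y : ℂ)) ξ = conj (ξ h) := by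
    intro h ξ hξ
    rw [classInner_def]
    simp only [δ, Nat.cast_sum, Finset.sum_mul]
    rw [Finset.sum_comm]
    have : ∀ t : H, ∑ y : H, ((if t * y * t⁻¹ = h then 1 else 0 : ℕ) : ℂ) * conj (ξ y) =
        conj (ξ h) := by
      intro t
      rw [Finset.sum_eq_single (t⁻¹ * h * t)]
      · simp [mul_assoc, ← classFun_conj_inv (irr_isClassFunction hξ) h t]
      · intro y _ hy
        rw [if_neg, Nat.cast_zero, zero_mul]
        rintro rfl
        exact hy (by group)
      · simp
    simp only [this, Finset.sum_const, Finset.card_univ, nsmul_eq_mul, ← Nat.card_eq_fintype_card]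
    rw [← mul_assoc, inv_mul_cancel₀ card_ne_zero, one_mul]
  let A : H → ℕ := fun h => ∑ x : G, δ h (σ x)
  have hA1 : ∀ h, Nat.card G ≤ A h := by
    intro h
    have h1 := hint _ (hδ2 h) fun ξ hξ => by
      rw [hδ3 h ξ hξ]
      exact char_apply_isIntegral (char_conj (irr_isCharacter hξ)) h
    rw [classInner_one_right, ← Nat.cast_sum, mul_comm, ← div_eq_mul_inv] at h1
    refine Nat.le_of_dvd ?_ (nat_dvd_of_isIntegral_div Nat.card_pos.ne' h1)
    obtain ⟨x, hx⟩ := hsurj h
    obtain ⟨t, ht⟩ := isConj_iff.mp hx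
    refine lt_of_lt_of_le ?_ (Finset.single_le_sum (f := fun x => δ h (σ x))
      (fun _ _ => Nat.zero_le _) (Finset.mem_univ x))
    refine lt_of_lt_of_le ?_ (Finset.single_le_sum
      (f := fun t : H => if t * σ x * t⁻¹ = h then 1 else 0)
      (fun _ _ => Nat.zero_le _) (Finset.mem_univ t))
    simp [ht]
  have hA2 : ∑ h, A h = ∑ _h : H, Nat.card G := by
    simp only [A]
    rw [Finset.sum_comm]
    have : ∀ y : H, ∑ h, δ h y = Nat.card H := by
      intro y
      have := hδ1 (fun _ => 1) (isClassFunction_const 1) y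
      simp only [mul_one] at this
      exact_mod_cast this
    simp [this, Nat.card_eq_fintype_card, mul_comm]
  have hA3 : ∀ h, A h = Nat.card G := fun h =>
    ((Finset.sum_eq_sum_iff_of_le fun h _ => hA1 h).mp hA2.symm h (Finset.mem_univ h)).symm
  have h1 : (Nat.card H : ℂ) * ∑ x : G, φ (σ x) = Nat.card G * ∑ h : H, φ h := by
    rw [Finset.mul_sum]
    simp_rw [← hδ1 φ hφ]
    rw [Finset.sum_comm, Finset.mul_sum]
    refine Finset.sum_congr rfl fun h _ => ?_
    rw [← Finset.sum_mul, ← Nat.cast_sum]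
    congr 2
    exact hA3 h
  have h2 : (Nat.card G : ℂ) ≠ 0 := card_ne_zero
  have h3 : (Nat.card H : ℂ) ≠ 0 := card_ne_zero
  field_simp
  linear_combination h1

/-- The Brauer-Suzuki theorem on normal complements of Hall subgroups. -/
theorem exists_normal_complement_of_hall [Finite G] (H : Subgroup G)
    (hHall : Nat.Coprime (Nat.card H) H.index)
    (hfus : ∀ x ∈ H, ∀ y ∈ H, IsConj x y → ∃ h ∈ H, h * x * h⁻¹ = y)
    (helem : ∀ (E : Subgroup G) (p : ℕ), p.Prime → IsElementary p E → Nat.card E ∣ Nat.card H →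
      ∃ g : G, E.map (MulAut.conj g).toMonoidHom ≤ H) :
    ∃ K : Subgroup G, K.Normal ∧ K.IsComplement' H := by
  classical
  have := Fintype.ofFinite G
  have := Fintype.ofFinite H
  obtain ⟨a, b, hab⟩ := Nat.isCoprime_iff_coprime.mpr hHall
  set m := Nat.card H with hm
  set n := H.index with hn
  have hG : Nat.card G = m * n := (H.card_mul_index).symm
  have hex : ∀ x : G, ∃ h : H, IsConj (x ^ (b * n)) h := by
    intro x
    have h1 : Nat.card (Subgroup.zpowers (x ^ (b * n))) ∣ m := by
      rw [Nat.card_zpowers, orderOf_dvd_iff_pow_eq_one, ← zpow_natCast, ← zpow_mul,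
        show b * n * m = ((m * n : ℕ) : ℤ) * b by push_cast; ring, zpow_mul, zpow_natCast, ← hG,
        pow_card_eq_one', one_zpow]
    obtain ⟨g, hg⟩ := helem _ 2 Nat.prime_two (isElementary_of_isCyclic Nat.prime_two) h1
    exact ⟨⟨_, hg ⟨_, Subgroup.mem_zpowers _, rfl⟩⟩, isConj_iff.mpr ⟨g, rfl⟩⟩
  choose σ hσ using hex
  have hconj : ∀ (x : G) (h : H), IsConj (x ^ (b * n)) h → IsConj (σ x) h := by
    intro x h hx
    obtain ⟨t, ht, htt⟩ := hfus _ (σ x).2 _ h.2 ((hσ x).symm.trans hx)
    exact isConj_iff.mpr ⟨⟨t, ht⟩, Subtype.ext htt⟩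
  have hH : ∀ h : H, IsConj (σ h) h := by
    intro h
    apply hconj
    have h1 : (h : G) ^ m = 1 := by
      rw [← Subgroup.coe_pow, hm, pow_card_eq_one', Subgroup.coe_one]
    have := left_eq_zpow_of_coprime (Commute.one_right (h : G)) hab h1 (one_pow n)
    rw [mul_one] at this
    rw [this]
  have hcl : ∀ θ : H → ℂ, IsClassFunction H θ → IsClassFunction G (fun x => θ (σ x)) := by
    intro θ hθ x t
    refine classFun_eq_of_isConj hθ (hconj _ _ ?_)
    rw [conj_zpow]
    exact (isConj_iff.mpr ⟨t, rfl⟩).symm.trans (hσ x)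
  have hR : ∀ (R : AddSubgroup ℂ) (θ : H → ℂ), IsClassFunction H θ →
      (∀ ξ, IsIrrCharacter H ξ → classInner θ ξ ∈ R) →
      ∀ χ, IsCharacter G χ → classInner (fun x => θ (σ x)) χ ∈ R := by
    intro R θ hθ hθR χ hχ
    refine inner_mem_of_elementary R (hcl θ hθ) (fun E _ p hp hE ψ hψ => ?_) hχ
    have := elementary_isNilpotent hp hE
    have hE' : Nat.card E ∣ m * n := hG ▸ Subgroup.card_subgroup_dvd_card E
    let π := partHom hab hE'
    obtain ⟨g, hg⟩ := helem (π.range.map E.subtype) p hp (isElementary_map_subtype hp hE _) (by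
      rw [Subgroup.card_map_of_injective E.subtype_injective]
      exact card_range_partHom_dvd hab hE')
    let f : E →* H := (((MulAut.conj g).toMonoidHom.comp E.subtype).comp π).codRestrict H
      fun e => hg ⟨_, ⟨π e, ⟨e, rfl⟩, rfl⟩, rfl⟩
    have h1 : (fun e : E => θ (σ e)) = fun e => θ (f e) := by
      funext e
      exact classFun_eq_of_isConj hθ (hconj _ _ (isConj_iff.mpr ⟨g, rfl⟩))
    rw [h1]
    exact inner_comp_mem R hθ hθR f (irr_isCharacter hψ)
  have havg : ∀ φ : H → ℂ, IsClassFunction H φ →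
      (Nat.card G : ℂ)⁻¹ * ∑ x : G, φ (σ x) = (Nat.card H : ℂ)⁻¹ * ∑ h : H, φ h :=
    fun φ hφ => sum_comp_eq_of_integral σ (fun h => ⟨h, hH h⟩) (fun θ hθ hθR =>
      hR AlgInt.toSubring.toAddSubgroup θ hθ hθR _ char_one) hφ
  have hσ1 : σ 1 = 1 := by simpa using hH 1
  have hirr : ∀ ξ, IsIrrCharacter H ξ → IsIrrCharacter G (fun x => ξ (σ x)) := by
    intro ξ hξ
    refine irr_of_gen_norm_one (gen_of_inner_int (hcl ξ (irr_isClassFunction hξ)) fun χ hχ => ?_)
      ?_ ?_
    · obtain ⟨k, hk⟩ := hR (Int.castAddHom ℂ).range ξ (irr_isClassFunction hξ) (fun ζ hζ => by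
        obtain ⟨k, hk⟩ := gen_inner_int (gen_of_irr hξ) (gen_of_irr hζ)
        exact ⟨k, hk.symm⟩) χ (irr_isCharacter hχ)
      exact ⟨k, hk.symm⟩
    · rw [← irr_inner_self hξ]
      exact havg (fun h => ξ h * conj (ξ h))
        (classFun_mul (irr_isClassFunction hξ) (classFun_conj (irr_isClassFunction hξ)))
    · obtain ⟨d, -, hd⟩ := irr_apply_one hξ
      simp [hσ1, hd]
  have hΨ : IsCharacter G (fun x => regChar H (σ x)) := by
    have : (fun x => regChar H (σ x)) = ∑ ξ : IrrCharacter H,
        ((deg (ξ : H → ℂ) : ℕ) : ℂ) • fun x => (ξ : H → ℂ) (σ x) := by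
      funext x
      rw [regChar_eq_sum]
      simp [Finset.sum_apply, irr_cast_deg (Subtype.prop _)]
    rw [this]
    exact char_sum _ fun ξ _ => char_natCast_smul _ (irr_isCharacter (hirr ξ ξ.2))
  have hmem : ∀ x, x ∈ charKer (fun x => regChar H (σ x)) ↔ σ x = 1 := by
    intro x
    rw [char_mem_charKer_iff hΨ, hσ1]
    refine ⟨fun h => ?_, fun h => by rw [h]⟩
    by_contra hne
    rw [regChar_of_ne hne, regChar_one] at h
    exact card_ne_zero h.symm
  refine ⟨charKer (fun x => regChar H (σ x)), charKer_normal (char_isClassFunction hΨ),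
    Subgroup.isComplement'_of_card_mul_and_disjoint ?_ ?_⟩
  · have h1 := havg _ (char_isClassFunction char_regChar)
    have h2 : ∑ h : H, regChar H h = Nat.card H := by
      rw [Finset.sum_eq_single 1 (fun g _ hg => regChar_of_ne hg) (by simp), regChar_one]
    have h3 : ∑ x : G, regChar H (σ x) =
        Nat.card (charKer (fun x => regChar H (σ x))) * Nat.card H := by
      rw [Nat.card_congr (Equiv.subtypeEquivRight hmem), Nat.card_eq_fintype_card,
        Fintype.card_subtype]
      rw [Finset.card_filter, Nat.cast_sum, Finset.sum_mul]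
      refine Finset.sum_congr rfl fun x _ => ?_
      by_cases hx : σ x = 1
      · simp [hx, regChar_one]
      · simp [hx, regChar_of_ne hx]
    rw [h2, h3, inv_mul_cancel₀ card_ne_zero, inv_mul_eq_one₀ card_ne_zero] at h1
    exact_mod_cast h1.symm
  · rw [Subgroup.disjoint_def]
    intro x hx hxH
    have h1 := hH ⟨x, hxH⟩
    rw [(hmem x).mp hx, isConj_one_right] at h1
    exact congrArg Subtype.val h1

end CL.Brauer
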