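import Cfsg.Agent.Char.Monomial
import Cfsg.Agent.Char.BrauerChar

/-!
# Brauer's induction theorem in monomial form
-/

set_option autoImplicit false

namespace CL.Char

open Cfsg Module

variable {G : Type*} [Group G]

theorem elementary_of_injective {E L : Type*} [Group E] [Group L] [Finite E] {p : ℕ}
    (hp : p.Prime) (hE : IsElementary p E) (f : L →* E) (hf : Function.Injective f) :
    IsElementary p L := by
  obtain ⟨x, hx, hcop, k, hk⟩ := hE
  have := Finite.of_injective f hf
  let C : Subgroup L := (Subgroup.zpowers x).comap f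
  have hC : IsCyclic C := isCyclic_of_injective (f.subgroupComap (Subgroup.zpowers x))
    fun a b h => Subtype.ext (hf (congrArg Subtype.val h))
  obtain ⟨y, hy⟩ := hC.exists_generator
  have hyC : Subgroup.zpowers (y : L) = C := by
    refine le_antisymm (Subgroup.zpowers_le.mpr y.2) fun c hc => ?_
    obtain ⟨i, hi⟩ := hy ⟨c, hc⟩
    exact ⟨i, congrArg Subtype.val hi⟩
  have hle : Subgroup.zpowers x ≤ Subgroup.center E := Subgroup.zpowers_le.mpr hx
  refine ⟨y, ?_, ?_, ?_⟩
  · rw [Subgroup.mem_center_iff]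
    intro l
    apply hf
    rw [map_mul, map_mul]
    exact Subgroup.mem_center_iff.mp (hle y.2) _
  · refine Nat.Coprime.coprime_dvd_left ?_ hcop
    rw [← orderOf_injective f hf]
    exact orderOf_dvd_of_mem_zpowers y.2
  · have : (Subgroup.zpowers x).Normal := ⟨fun n hn g => by
      rw [Subgroup.mem_center_iff.mp (hle hn) g, mul_inv_cancel_right]; exact hn⟩
    have h1 : C.index ∣ p ^ k := by
      rw [← hk, Subgroup.index_comap]
      exact Subgroup.relIndex_dvd_index_of_normal _ _
    obtain ⟨i, -, hi⟩ := (Nat.dvd_prime_pow hp).mp h1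
    exact ⟨i, by rw [hyC, hi]⟩

/-- The characters induced from linear characters of elementary subgroups. -/
def elemMono (G : Type*) [Group G] [Fintype G] : Set (G → ℂ) :=
  {f | ∃ (E : Subgroup G) (lam : E →* ℂˣ), (∃ p : ℕ, p.Prime ∧ IsElementary p E) ∧
    f = indFun E (fun e => (lam e : ℂ))}

theorem span_elemIndAll_le [Fintype G] :
    Submodule.span ℤ (CL.Brauer.elemIndAll G) ≤ Submodule.span ℤ (elemMono G) := by
  rw [Submodule.span_le]
  rintro _ ⟨p, hp, E, φ, hE, hφ, rfl⟩
  have := Fintype.ofFinite E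
  have := CL.Brauer.elementary_isNilpotent hp hE
  refine char_induction (P := fun φ => indFun E φ ∈ Submodule.span ℤ (elemMono G)) ?_ ?_ ?_ hφ
  · rw [indFun_zero]; exact Submodule.zero_mem _
  · intro χ hχ
    obtain ⟨L, lam, rfl⟩ := isMGroup_of_isNilpotent E χ hχ
    refine Submodule.subset_span ⟨_, _, ⟨p, hp, ?_⟩, indFun_indFun_linear E L lam⟩
    exact elementary_of_injective hp hE
      (L.subtype.comp (L.equivMapOfInjective E.subtype E.subtype_injective).symm.toMonoidHom)
      (L.subtype_injective.comp (MulEquiv.injective _))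
  · intro χ ψ _ _ h1 h2
    rw [indFun_add]; exact Submodule.add_mem _ h1 h2

/-- **Brauer's induction theorem**. -/
theorem gen_mem_span_elemMono [Fintype G] {χ : G → ℂ} (hχ : IsGeneralizedCharacter G χ) :
    χ ∈ Submodule.span ℤ (elemMono G) :=
  span_elemIndAll_le (CL.Brauer.gen_mem_span_elemIndAll hχ)

theorem char_mem_span_elemMono [Fintype G] {χ : G → ℂ} (hχ : IsCharacter G χ) :
    χ ∈ Submodule.span ℤ (elemMono G) :=
  gen_mem_span_elemMono (gen_of_char hχ)

theorem exists_list_of_mem_span_elemMono [Fintype G] {f : G → ℂ}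
    (hf : f ∈ Submodule.span ℤ (elemMono G)) :
    ∃ l : List ((E : Subgroup G) × ((E →* ℂˣ) × ℤ)),
      (∀ t ∈ l, ∃ p : ℕ, p.Prime ∧ IsElementary p t.1) ∧
      f = (l.map fun t => (t.2.2 : ℂ) • indFun t.1 (fun e => (t.2.1 e : ℂ))).sum := by
  induction hf using Submodule.span_induction with
  | mem f hf =>
    obtain ⟨E, lam, hE, rfl⟩ := hf
    exact ⟨[⟨E, lam, 1⟩], by simpa using hE, by simp⟩
  | zero => exact ⟨[], by simp, by simp⟩
  | add f g _ _ hf hg =>
    obtain ⟨l, hl, rfl⟩ := hf
    obtain ⟨l', hl', rfl⟩ := hg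
    refine ⟨l ++ l', fun t ht => ?_, by simp⟩
    rcases List.mem_append.mp ht with h | h
    exacts [hl t h, hl' t h]
  | smul c f _ hf =>
    obtain ⟨l, hl, rfl⟩ := hf
    refine ⟨l.map fun t => ⟨t.1, t.2.1, c * t.2.2⟩, fun t ht => ?_, ?_⟩
    · obtain ⟨s, hs, rfl⟩ := List.mem_map.mp ht
      exact hl s hs
    · rw [List.smul_sum, List.map_map, List.map_map]
      congr 2
      funext t
      simp only [Function.comp_apply, mul_smul, Int.cast_smul_eq_zsmul]

end CL.Char
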