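import Cfsg.Agent.Base
import Cfsg.Agent.Char.BrauerElem
import Cfsg.Agent.Auto.ACL_Brauer_partHom_9195b6

/-!
# Indicator functions of `π'`-sections; congruences of character values on `p`-sections
-/

set_option autoImplicit false

namespace CL.Brauer

open Cfsg MulAction CL.Char
open scoped ComplexConjugate

variable {G : Type*} [Group G]

open Classical in
/-- `n` times the indicator function of the set of `x` whose `k`-th power is conjugate to `g`. -/
noncomputable def sectionFun (n : ℕ) (k : ℤ) (g : G) : G → ℂ :=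
  fun x => if IsConj (x ^ k) g then n else 0

theorem sectionFun_isClassFunction (n : ℕ) (k : ℤ) (g : G) :
    IsClassFunction G (sectionFun n k g) := by
  intro x h
  unfold sectionFun
  rw [conj_zpow]
  congr 1
  exact propext ⟨fun H => (isConj_iff.mpr ⟨h, rfl⟩).trans H,
    fun H => (isConj_iff.mpr ⟨h, rfl⟩).symm.trans H⟩

/-- The Fourier coefficients of the section function are algebraic integers. -/
theorem sectionFun_inner_isIntegral [Fintype G] {m n : ℕ} {a b : ℤ} (hab : a * m + b * n = 1)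
    (hG : Nat.card G ∣ m * n) (g : G) {χ : G → ℂ} (hχ : IsCharacter G χ) :
    IsIntegral ℤ (classInner (sectionFun n (a * m) g) χ) := by
  classical
  refine inner_mem_of_elementary AlgInt.toSubring.toAddSubgroup
    (sectionFun_isClassFunction n (a * m) g) (fun E _ p hp hE ψ hψ => ?_) hχ
  have := elementary_isNilpotent hp hE
  have hab' : b * n + a * m = 1 := by rw [add_comm, hab]
  have hE' : Nat.card E ∣ n * m := mul_comm m n ▸ (Subgroup.card_subgroup_dvd_card E).trans hG
  let π := partHom hab' hE'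
  have := Fintype.ofFinite π.range
  let η : π.range → ℂ := fun v => if IsConj ((v : E) : G) g then n else 0
  have hη : IsClassFunction π.range η := by
    intro x h
    simp only [η, Subgroup.coe_mul, Subgroup.coe_inv]
    congr 1
    exact propext ⟨fun H => (isConj_iff.mpr ⟨_, rfl⟩).trans H,
      fun H => (isConj_iff.mpr ⟨_, rfl⟩).symm.trans H⟩
  have h1 : (fun e : E => sectionFun n (a * m) g e) = fun e => η (π.rangeRestrict e) := by
    funext e
    simp only [sectionFun, η]
    congr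
  rw [h1]
  refine inner_comp_mem _ hη (fun ξ hξ => ?_) _ (irr_isCharacter hψ)
  obtain ⟨d, hd⟩ := card_range_partHom_dvd hab' hE'
  have h2 : classInner η ξ = ∑ v : π.range, if IsConj ((v : E) : G) g then d * conj (ξ v) else 0 := by
    rw [classInner_def, Finset.mul_sum]
    refine Finset.sum_congr rfl fun v _ => ?_
    simp only [η]
    split_ifs
    · have h3 : (Nat.card π.range : ℂ) ≠ 0 := card_ne_zero
      rw [hd]
      push_cast
      field_simp
      rfl
    · simp
  rw [h2]
  refine AddSubgroup.sum_mem _ fun v _ => ?_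
  split_ifs
  · exact AlgInt.mul_mem (natCast_mem _ d) (char_apply_isIntegral (char_conj (irr_isCharacter hξ)) v)
  · exact AddSubgroup.zero_mem _

theorem sub_one_mem_of_pow_eq_one {p : ℕ} {M : Ideal AlgInt} (hM : IsPModular p M) {ω : AlgInt}
    {k : ℕ} (hω : ω ^ p ^ k = 1) : ω - 1 ∈ M := by
  obtain ⟨hp, hmax, hpM⟩ := hM
  obtain ⟨r, hr⟩ := exists_add_pow_prime_pow_eq hp (ω - 1) 1 k
  rw [sub_add_cancel, hω, one_pow] at hr
  have h1 : (ω - 1) ^ p ^ k = -(p * (ω - 1) * 1 * r) := by linear_combination -hr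
  refine hmax.isPrime.mem_of_pow_mem (p ^ k) ?_
  rw [h1]
  exact M.neg_mem (M.mul_mem_right _ (M.mul_mem_right _ (M.mul_mem_right _ hpM)))

/-- Character values on an element and on its `p'`-part are congruent modulo `M`. -/
theorem char_sub_mem_of_p_part [Finite G] {p : ℕ} {M : Ideal AlgInt} (hM : IsPModular p M)
    {χ : G → ℂ} (hχ : IsCharacter G χ) {u v : G} (huv : Commute u v) {k : ℕ}
    (hu : u ^ p ^ k = 1) : ∃ z ∈ M, (z : ℂ) = χ (u * v) - χ v := by
  let A : Subgroup G := Subgroup.closure {u, v}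
  have hA : ∀ x y : A, x * y = y * x := by
    have := Subgroup.isMulCommutative_closure (G := G) (k := {u, v}) (by
      rintro x (rfl | rfl) y (rfl | rfl)
      exacts [rfl, huv.eq, huv.symm.eq, rfl])
    exact fun x y => mul_comm' x y
  let u' : A := ⟨u, Subgroup.subset_closure (by simp)⟩
  let v' : A := ⟨v, Subgroup.subset_closure (by simp)⟩
  obtain ⟨s, -, hs⟩ := char_exists_multiset_unitsHom_of_comm hA (char_restrict hχ A)
  have hint : ∀ (f : A →* ℂˣ) (x : A), IsIntegral ℤ (f x : ℂ) := fun f x =>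
    char_apply_isIntegral (char_unitsHom f) x
  have h1 : χ (u * v) = (s.map fun f => (f (u' * v') : ℂ)).sum := hs (u' * v')
  have h2 : χ v = (s.map fun f => (f v' : ℂ)).sum := hs v'
  refine ⟨(s.map fun f => ((⟨f u', hint f u'⟩ : AlgInt) - 1) * ⟨f v', hint f v'⟩).sum,
    M.toAddSubgroup.multiset_sum_mem _ fun z hz => ?_, ?_⟩
  · obtain ⟨f, -, rfl⟩ := Multiset.mem_map.mp hz
    refine M.mul_mem_right _ (sub_one_mem_of_pow_eq_one hM (k := k) (Subtype.ext ?_))
    have : u' ^ p ^ k = 1 := Subtype.ext hu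
    change (f u' : ℂ) ^ p ^ k = 1
    rw [← Units.val_pow_eq_pow_val, ← map_pow, this, map_one, Units.val_one]
  · rw [h1, h2, ← Multiset.sum_map_sub]
    change AlgInt.val _ = _
    rw [map_multiset_sum, Multiset.map_map]
    congr 2
    funext f
    simp [sub_mul]

theorem memLocalIdeal_iff {p : ℕ} {M : Ideal AlgInt} (hM : IsPModular p M) (z : AlgInt) :
    MemLocalIdeal M z ↔ z ∈ M := by
  obtain ⟨-, hmax, -⟩ := hM
  constructor
  · rintro ⟨a, b, ha, hb, hab⟩
    have hb0 : (b : ℂ) ≠ 0 := fun h => hb (by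
      have : b = 0 := Subtype.ext h
      rw [this]; exact M.zero_mem)
    have : a = z * b := Subtype.ext (by rw [div_eq_iff hb0] at hab; exact hab)
    exact (hmax.isPrime.mem_or_mem (this ▸ ha)).resolve_right hb
  · intro h
    exact ⟨z, 1, h, (Ideal.ne_top_iff_one M).mp hmax.ne_top, by simp⟩

/-- Elements on which all irreducible characters are congruent modulo `M` have conjugate
`p'`-parts. -/
theorem isConj_of_forall_irr_sub_mem [Finite G] {p : ℕ} {M : Ideal AlgInt} (hM : IsPModular p M)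
    {u v u' v' : G} (huv : Commute u v) (huv' : Commute u' v') {k k' : ℕ}
    (hu : u ^ p ^ k = 1) (hu' : u' ^ p ^ k' = 1) (hv : ¬ p ∣ orderOf v) (hv' : ¬ p ∣ orderOf v')
    (h : ∀ χ, IsIrrCharacter G χ → ∃ z ∈ M, (z : ℂ) = χ (u * v) - χ (u' * v')) : IsConj v v' := by
  classical
  have := Fintype.ofFinite G
  have hp := hM.1
  obtain ⟨e, n, hn, hen⟩ := Nat.exists_eq_pow_mul_and_not_dvd (Nat.card_pos (α := G)).ne' p hp.ne_one
  have hcop : Nat.Coprime (p ^ e) n := ((Nat.Prime.coprime_iff_not_dvd hp).mpr hn).pow_left e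
  obtain ⟨a, b, hab⟩ := Nat.isCoprime_iff_coprime.mpr hcop
  have hpe : ∀ {w : G} {j : ℕ}, w ^ p ^ j = 1 → w ^ p ^ e = 1 := by
    intro w j hw
    obtain ⟨i, -, hi⟩ := (Nat.dvd_prime_pow hp).mp (orderOf_dvd_of_pow_eq_one hw)
    apply orderOf_dvd_iff_pow_eq_one.mp
    have h1 : orderOf w ∣ p ^ e * n := hen ▸ orderOf_dvd_natCard w
    rw [hi] at h1 ⊢
    exact (((Nat.Prime.coprime_iff_not_dvd hp).mpr hn).pow_left i).dvd_of_dvd_mul_right h1
  have hpn : ∀ {w : G}, ¬ p ∣ orderOf w → w ^ n = 1 := by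
    intro w hw
    apply orderOf_dvd_iff_pow_eq_one.mp
    have h1 : orderOf w ∣ p ^ e * n := hen ▸ orderOf_dvd_natCard w
    exact ((((Nat.Prime.coprime_iff_not_dvd hp).mpr hw).pow_left e).symm).dvd_of_dvd_mul_left h1
  have h1 := right_eq_zpow_of_coprime huv hab (hpe hu) (hpn hv)
  have h2 := right_eq_zpow_of_coprime huv' hab (hpe hu') (hpn hv')
  by_contra hne
  have hcl := sectionFun_isClassFunction n (a * (p ^ e : ℕ)) v
  have h3 : sectionFun n (a * (p ^ e : ℕ)) v (u * v) = n := by
    unfold sectionFun; rw [h1, if_pos (IsConj.refl v)]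
  have h4 : sectionFun n (a * (p ^ e : ℕ)) v (u' * v') = 0 := by
    unfold sectionFun; rw [h2, if_neg fun H => hne H.symm]
  choose z hzM hz using fun χ : IrrCharacter G => h χ χ.2
  have h5 : (n : AlgInt) = ∑ χ : IrrCharacter G, (⟨_, sectionFun_inner_isIntegral hab hen.dvd v
      (irr_isCharacter χ.2)⟩ : AlgInt) * z χ := by
    apply Subtype.ext
    have h6 : (n : ℂ) = sectionFun n (a * (p ^ e : ℕ)) v (u * v) -
        sectionFun n (a * (p ^ e : ℕ)) v (u' * v') := by rw [h3, h4, sub_zero]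
    rw [classFun_apply_eq_sum hcl, classFun_apply_eq_sum hcl (u' * v'),
      ← Finset.sum_sub_distrib] at h6
    change (n : ℂ) = AlgInt.val _
    rw [map_sum, h6]
    refine Finset.sum_congr rfl fun χ _ => ?_
    rw [← mul_sub, ← hz]
    rfl
  have h6 : (n : AlgInt) ∈ M := h5 ▸ M.sum_mem fun χ _ => M.mul_mem_left _ (hzM χ)
  obtain ⟨c, d, hcd⟩ := Nat.isCoprime_iff_coprime.mpr ((Nat.Prime.coprime_iff_not_dvd hp).mpr hn)
  apply (Ideal.ne_top_iff_one M).mp hM.2.1.ne_top
  have h7 : (1 : AlgInt) = c * p + d * n := by exact_mod_cast congrArg (Int.cast : ℤ → AlgInt) hcd.symm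
  rw [h7]
  exact M.add_mem (M.mul_mem_left _ hM.2.2) (M.mul_mem_left _ h6)

end CL.Brauer
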