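import Cfsg.Agent.Base

/-!
# Chief factors between two normal subgroups (ambient form)

`CL.Char.IsChief L K` : `L < K` are normal subgroups of `G` with no normal subgroup of `G` strictly between.
-/

set_option autoImplicit false

namespace CL.Char

open Subgroup

variable {G : Type*} [Group G]

/-- `K / L` is a chief factor of `G`. -/
structure IsChief (L K : Subgroup G) : Prop where
  normal_left : L.Normal
  normal_right : K.Normal
  lt : L < K
  eq_or_eq : ∀ M : Subgroup G, M.Normal → L ≤ M → M ≤ K → M = L ∨ M = K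

theorem IsChief.le {L K : Subgroup G} (h : IsChief L K) : L ≤ K := h.lt.le

/-- Below a normal subgroup `K > N` there is a chief factor `K / L` with `N ≤ L`. -/
theorem exists_isChief_below [Finite G] {N K : Subgroup G} [hN : N.Normal] [hK : K.Normal]
    (h : N < K) : ∃ L : Subgroup G, N ≤ L ∧ IsChief L K := by
  obtain ⟨L, hL⟩ := (Set.toFinite {M : Subgroup G | M.Normal ∧ N ≤ M ∧ M < K}).exists_maximal
    ⟨N, hN, le_rfl, h⟩
  obtain ⟨⟨h1, h2, h3⟩, h4⟩ := hL
  refine ⟨L, h2, h1, hK, h3, fun M hM hLM hMK => ?_⟩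
  rcases hMK.lt_or_eq with h5 | h5
  · exact Or.inl (le_antisymm (h4 ⟨hM, h2.trans hLM, h5⟩ hLM) hLM)
  · exact Or.inr h5

/-- Above a normal subgroup `N < K` there is a chief factor `L / N` with `L ≤ K`. -/
theorem exists_isChief_above [Finite G] {N K : Subgroup G} [hN : N.Normal] [hK : K.Normal]
    (h : N < K) : ∃ L : Subgroup G, L ≤ K ∧ IsChief N L := by
  obtain ⟨L, hL⟩ := (Set.toFinite {M : Subgroup G | M.Normal ∧ N < M ∧ M ≤ K}).exists_minimal
    ⟨K, hK, h, le_rfl⟩
  obtain ⟨⟨h1, h2, h3⟩, h4⟩ := hL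
  refine ⟨L, h3, hN, h1, h2, fun M hM hNM hML => ?_⟩
  rcases hNM.lt_or_eq with h5 | h5
  · exact Or.inr (le_antisymm hML (h4 ⟨hM, h5, hML.trans h3⟩ hML))
  · exact Or.inl h5.symm

/-- A chief factor above `N` with `G / N` solvable is abelian. -/
theorem IsChief.commutator_le {L K : Subgroup G} (h : IsChief L K) (N : Subgroup G) [N.Normal]
    (hs : Group.IsSolvable (G ⧸ N)) (hNL : N ≤ L) : ⁅K, K⁆ ≤ L := by
  have := h.normal_left
  have := h.normal_right
  have hsL : Group.IsSolvable (G ⧸ L) :=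
    Group.isSolvable_of_surjective (f := QuotientGroup.map N L (MonoidHom.id G) (by simpa using hNL))
      (QuotientGroup.map_surjective_of_surjective _ _ _ (by
        exact QuotientGroup.mk'_surjective L) _)
  rcases h.eq_or_eq (⁅K, K⁆ ⊔ L) inferInstance le_sup_right
    (sup_le (commutator_le_self K) h.le) with h1 | h1
  · exact le_sup_left.trans h1.le
  · exfalso
    have hne : K.map (QuotientGroup.mk' L) ≠ ⊥ := by
      rw [Ne, Subgroup.map_eq_bot_iff, QuotientGroup.ker_mk']
      exact fun hh => h.lt.not_ge hh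
    have hlt := Group.IsSolvable.commutator_lt_of_ne_bot hne
    rw [← Subgroup.map_commutator] at hlt
    have : K.map (QuotientGroup.mk' L) = ⁅K, K⁆.map (QuotientGroup.mk' L) := by
      conv_lhs => rw [← h1]
      rw [Subgroup.map_sup, (Subgroup.map_eq_bot_iff L).2 (by rw [QuotientGroup.ker_mk']), sup_bot_eq]
    exact hlt.ne this.symm

theorem IsChief.commutator_le_of_solvable [Group.IsSolvable G] {L K : Subgroup G} (h : IsChief L K) :
    ⁅K, K⁆ ≤ L :=
  have := h.normal_left
  h.commutator_le L inferInstance le_rfl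

/-- An abelian chief factor of a finite group is an elementary abelian `p`-group. -/
theorem IsChief.exists_prime_pow_mem [Finite G] {L K : Subgroup G} (h : IsChief L K)
    (hab : ⁅K, K⁆ ≤ L) : ∃ p : ℕ, p.Prime ∧ ∀ k ∈ K, k ^ p ∈ L := by
  have := h.normal_left
  have hKn := h.normal_right
  obtain ⟨x, hxK, hxL⟩ := SetLike.exists_of_lt h.lt
  let π := QuotientGroup.mk' L
  have hx1 : π x ≠ 1 := fun hh => hxL ((QuotientGroup.eq_one_iff x).1 hh)
  have ho : orderOf (π x) ≠ 1 := by simpa using hx1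
  obtain ⟨p, hp, m, hm⟩ := Nat.exists_prime_and_dvd ho
  have hcomm : ∀ a ∈ K, ∀ b ∈ K, Commute (π a) (π b) := by
    intro a ha b hb
    rw [← commutatorElement_eq_one_iff_commute, ← map_commutatorElement]
    exact (QuotientGroup.eq_one_iff _).2 (hab (commutator_mem_commutator ha hb))
  let M : Subgroup G :=
    { carrier := {k | k ∈ K ∧ π k ^ p = 1}
      one_mem' := ⟨K.one_mem, by simp⟩
      mul_mem' := by
        rintro a b ⟨ha, ha'⟩ ⟨hb, hb'⟩
        exact ⟨K.mul_mem ha hb, by rw [map_mul, (hcomm a ha b hb).mul_pow, ha', hb', one_mul]⟩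
      inv_mem' := by
        rintro a ⟨ha, ha'⟩
        exact ⟨K.inv_mem ha, by rw [map_inv, inv_pow, ha', inv_one]⟩ }
  have hMn : M.Normal := ⟨by
    rintro a ⟨ha, ha'⟩ g
    refine ⟨hKn.conj_mem a ha g, ?_⟩
    rw [map_mul, map_mul, map_inv, conj_pow, ha', mul_one, mul_inv_cancel]⟩
  have hLM : L ≤ M := fun l hl => ⟨h.le hl, by
    rw [show π l = 1 from (QuotientGroup.eq_one_iff l).2 hl, one_pow]⟩
  rcases h.eq_or_eq M hMn hLM (fun a ha => ha.1) with h1 | h1
  · exfalso
    have hm0 : 0 < m := Nat.pos_of_ne_zero (by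
      rintro rfl
      exact (orderOf_pos (π x)).ne' (by simpa using hm))
    have : x ^ m ∈ M := ⟨K.pow_mem hxK m, by
      rw [map_pow, ← pow_mul, mul_comm, ← hm, pow_orderOf_eq_one]⟩
    rw [h1] at this
    have h2 : π x ^ m = 1 := by rw [← map_pow]; exact (QuotientGroup.eq_one_iff _).2 this
    have h3 := Nat.le_of_dvd hm0 (orderOf_dvd_of_pow_eq_one h2)
    rw [hm] at h3
    have := hp.two_le
    nlinarith
  · refine ⟨p, hp, fun k hk => ?_⟩
    have : k ∈ M := h1 ▸ hk
    exact (QuotientGroup.eq_one_iff _).1 (by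
      have h2 := this.2
      rwa [← map_pow] at h2)

/-- If `k ^ p ∈ L` for all `k ∈ K`, `L` normal, then `[K : L ⊓ K]` is a power of `p`. -/
theorem relIndex_eq_prime_pow_of_pow_mem [Finite G] {L K : Subgroup G} [L.Normal] {p : ℕ}
    (hp : p.Prime) (h : ∀ k ∈ K, ∃ n : ℕ, k ^ p ^ n ∈ L) : ∃ a : ℕ, L.relIndex K = p ^ a := by
  have := Fact.mk hp
  have : IsPGroup p (K ⧸ L.subgroupOf K) := by
    intro q
    obtain ⟨k, rfl⟩ := QuotientGroup.mk_surjective q
    obtain ⟨n, hn⟩ := h k k.2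
    refine ⟨n, ?_⟩
    rw [← QuotientGroup.mk_pow, QuotientGroup.eq_one_iff, mem_subgroupOf]
    simpa using hn
  exact IsPGroup.iff_card.1 this

theorem IsChief.exists_relIndex_eq_prime_pow [Finite G] {L K : Subgroup G} (h : IsChief L K)
    (hab : ⁅K, K⁆ ≤ L) : ∃ p a : ℕ, p.Prime ∧ (∀ k ∈ K, k ^ p ∈ L) ∧ L.relIndex K = p ^ a := by
  have := h.normal_left
  obtain ⟨p, hp, hpk⟩ := h.exists_prime_pow_mem hab
  obtain ⟨a, ha⟩ := relIndex_eq_prime_pow_of_pow_mem (L := L) (K := K) hp
    (fun k hk => ⟨1, by simpa using hpk k hk⟩)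
  exact ⟨p, a, hp, hpk, ha⟩

end CL.Char
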