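import Cfsg.Agent.Base
import Cfsg.Agent.Char.Ito
import Cfsg.Agent.Blocks.LocalRingP
import Cfsg.Agent.S0907
import Cfsg.Agent.S0914

/-!
An irreducible character of `p`-defect zero vanishes on the `p`-singular elements.
-/

set_option autoImplicit false

open Cfsg
open scoped ComplexConjugate

namespace CL.Char

variable {G : Type*} [Group G] [Finite G]

/-- An irreducible character of `p`-defect zero vanishes on `p`-singular elements. -/
theorem irr_eq_zero_of_defect_zero {χ : G → ℂ} (hχ : IsIrrCharacter G χ) {p : ℕ} (hp : p.Prime)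
    (h : ¬ p ∣ Nat.card G / deg χ) {x : G} (hx : p ∣ orderOf x) : χ x = 0 := by
  have := Fact.mk hp
  obtain ⟨M, hM⟩ := CL.Blocks.exists_isPModular hp
  have h1 := (Cfsg.Agent.S0914.result p M hM ⟨χ, hχ⟩).1 h
  have h2 := Cfsg.Agent.S0907.result p M hM _ ⟨⟨χ, hχ⟩, rfl⟩ 1 x
    (by rw [orderOf_one, Nat.dvd_one]; exact hp.one_lt.ne') hx
  rw [h1, finsum_mem_singleton] at h2
  simpa [irr_apply_one_ne_zero hχ] using h2

theorem irr_eq_zero_of_pow_dvd_deg {χ : G → ℂ} (hχ : IsIrrCharacter G χ) {p n : ℕ} (hp : p.Prime)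
    (hn : ¬ p ^ (n + 1) ∣ Nat.card G) (hdeg : p ^ n ∣ deg χ) {x : G} (hx : p ∣ orderOf x) :
    χ x = 0 := by
  refine irr_eq_zero_of_defect_zero hχ hp (fun h => hn ?_) hx
  rw [← Nat.mul_div_cancel' (irr_deg_dvd_card hχ), pow_succ]
  exact mul_dvd_mul hdeg h

end CL.Char
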