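import Cfsg.Agent.Base
import Cfsg.Agent.Char.Ito
import Cfsg.Agent.Char.Inflate
import Cfsg.Agent.Char.Linear

/-! Characters of groups of class two with small derived group (extraspecial groups), and the
count `∑ χ(1)² = |G : G'| + ∑_{χ nonlinear} χ(1)²`. -/

set_option autoImplicit false
open Cfsg

namespace CL.Char

variable {G : Type*} [Group G] [Finite G]

/-- If `G' ≤ Z(G)` and `χ` is irreducible and faithful on `G'`, it vanishes off the centre. -/
theorem irr_eq_zero_of_not_mem_center {χ : G → ℂ} (hχ : IsIrrCharacter G χ)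
    (hc : commutator G ≤ Subgroup.center G) (hk : commutator G ⊓ charKer χ = ⊥) {x : G}
    (hx : x ∉ Subgroup.center G) : χ x = 0 := by
  rw [Subgroup.mem_center_iff] at hx
  push Not at hx
  obtain ⟨y, hy⟩ := hx
  have hmem : y * x * y⁻¹ * x⁻¹ ∈ commutator G :=
    Subgroup.commutator_mem_commutator (Subgroup.mem_top y) (Subgroup.mem_top x)
  obtain ⟨c, -, hcc⟩ := mem_charCenter.1 (irr_center_le_charCenter hχ (hc hmem))
  have h1 : χ x = c * χ x := by
    rw [← hcc x]
    have : y * x * y⁻¹ * x⁻¹ * x = y * x * y⁻¹ := by group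
    rw [this, irr_isClassFunction hχ x y]
  by_contra h0
  have hc1 : c = 1 := by
    have := mul_right_cancel₀ h0 (show 1 * χ x = c * χ x by rw [one_mul]; exact h1)
    exact this.symm
  have hker : y * x * y⁻¹ * x⁻¹ ∈ charKer χ := mem_charKer.2 fun z => by rw [hcc, hc1, one_mul]
  have : y * x * y⁻¹ * x⁻¹ ∈ (⊥ : Subgroup G) := hk ▸ Subgroup.mem_inf.2 ⟨hmem, hker⟩
  rw [Subgroup.mem_bot] at this
  apply hy
  calc y * x = (y * x * y⁻¹ * x⁻¹) * (x * y) := by group
    _ = x * y := by rw [this, one_mul]

/-- If `G' ≤ Z(G)` has prime order, a nonlinear irreducible character is faithful on `G'`. -/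
theorem commutator_inf_charKer_eq_bot {χ : G → ℂ} (hχ : IsIrrCharacter G χ)
    (hp : (Nat.card (commutator G)).Prime) (h1 : χ 1 ≠ 1) : commutator G ⊓ charKer χ = ⊥ := by
  have := Fact.mk hp
  rcases Subgroup.eq_bot_or_eq_top_of_prime_card
    ((commutator G ⊓ charKer χ).subgroupOf (commutator G)) with h | h
  · rw [Subgroup.subgroupOf_eq_bot] at h
    exact h.eq_bot_of_le inf_le_left
  · rw [Subgroup.subgroupOf_eq_top] at h
    exact absurd ((irr_apply_one_eq_one_iff hχ).2 (h.trans inf_le_right)) h1

/-- If `G' ≤ Z(G)` has prime order, a nonlinear irreducible character vanishes off the centre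
and has `χ(1)² = |G : Z(G)|`. -/
theorem irr_nonlinear_of_commutator_prime {χ : G → ℂ} (hχ : IsIrrCharacter G χ)
    (hc : commutator G ≤ Subgroup.center G) (hp : (Nat.card (commutator G)).Prime)
    (h1 : χ 1 ≠ 1) :
    (∀ x, x ∉ Subgroup.center G → χ x = 0) ∧ deg χ ^ 2 = (Subgroup.center G).index := by
  have h : ∀ x, x ∉ Subgroup.center G → χ x = 0 := fun x hx =>
    irr_eq_zero_of_not_mem_center hχ hc (commutator_inf_charKer_eq_bot hχ hp h1) hx
  exact ⟨h, (irr_deg_sq_eq_index_iff hχ _ (irr_center_le_charCenter hχ)).2 h⟩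

open Classical in
theorem card_filter_linear :
    (Finset.univ.filter fun χ : IrrCharacter G => (χ : G → ℂ) 1 = 1).card
      = (commutator G).index := by
  rw [← card_linear G, Nat.card_congr (linIrrEquiv G), Nat.card_eq_fintype_card,
    Fintype.card_subtype]

open Classical in
/-- `|G| = |G : G'| + ∑_{χ nonlinear} χ(1)²`. -/
theorem card_eq_index_commutator_add :
    Nat.card G = (commutator G).index +
      ∑ χ ∈ Finset.univ.filter (fun χ : IrrCharacter G => (χ : G → ℂ) 1 ≠ 1),
        deg (χ : G → ℂ) ^ 2 := by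
  rw [← sum_deg_sq, ← card_filter_linear,
    ← Finset.sum_filter_add_sum_filter_not Finset.univ
      (fun χ : IrrCharacter G => (χ : G → ℂ) 1 = 1)]
  congr 1
  rw [Finset.card_eq_sum_ones]
  refine Finset.sum_congr rfl fun χ hχ => ?_
  rw [deg_eq_of_apply_one (n := 1) (by simpa using (Finset.mem_filter.1 hχ).2)]
  rfl

/-- If all irreducible characters are linear, the group is abelian. -/
theorem commutator_eq_bot_of_forall_linear (h : ∀ χ : G → ℂ, IsIrrCharacter G χ → χ 1 = 1) :
    commutator G = ⊥ := by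
  rw [eq_bot_iff, ← iInf_charKer_eq_bot, le_iInf_iff]
  exact fun χ => (irr_apply_one_eq_one_iff χ.2).1 (h _ χ.2)

/-- If `p` divides `|G|` and every nonlinear degree, then `p` divides `|G : G'|`. -/
theorem dvd_index_commutator_of_forall_dvd_deg {p : ℕ} (hp : p ∣ Nat.card G)
    (h : ∀ χ : G → ℂ, IsIrrCharacter G χ → χ 1 ≠ 1 → p ∣ deg χ) :
    p ∣ (commutator G).index := by
  classical
  rw [card_eq_index_commutator_add] at hp
  refine (Nat.dvd_add_left ?_).1 hp
  exact Finset.dvd_sum fun χ hχ =>
    dvd_pow (h _ χ.2 (Finset.mem_filter.1 hχ).2) two_ne_zero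

section Extraspecial

variable {p n : ℕ} [hp : Fact p.Prime]

omit [Finite G] in
theorem extraspecial_index_center (hP : IsExtraspecial p G) (hcard : Nat.card G = p ^ (2 * n + 1)) :
    (Subgroup.center G).index = p ^ (2 * n) := by
  have h := (Subgroup.center G).card_mul_index
  rw [hP.2, hcard, pow_succ'] at h
  exact Nat.eq_of_mul_eq_mul_left hp.out.pos h

theorem extraspecial_pos (hP : IsExtraspecial p G) (hcard : Nat.card G = p ^ (2 * n + 1)) :
    0 < n := by
  rcases Nat.eq_zero_or_pos n with rfl | h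
  · exfalso
    have h := extraspecial_index_center hP hcard
    simp only [mul_zero, pow_zero, Subgroup.index_eq_one] at h
    have hb : commutator G = ⊥ := commutator_eq_bot_of_comm fun a b =>
      Subgroup.mem_center_iff.1 (h ▸ Subgroup.mem_top b) a
    have h2 := hP.2
    rw [← hP.1.2.2, hb, Subgroup.card_bot] at h2
    exact hp.out.one_lt.ne h2
  · exact h

/-- A nonlinear irreducible character of an extraspecial group of order `p^(2n+1)` has degree
`p^n` and vanishes off the centre. -/
theorem extraspecial_irr_nonlinear (hP : IsExtraspecial p G)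
    (hcard : Nat.card G = p ^ (2 * n + 1)) {χ : G → ℂ} (hχ : IsIrrCharacter G χ) (h1 : χ 1 ≠ 1) :
    (∀ x, x ∉ Subgroup.center G → χ x = 0) ∧ deg χ = p ^ n := by
  obtain ⟨h, h2⟩ := irr_nonlinear_of_commutator_prime hχ hP.1.2.2.le
    (by rw [hP.1.2.2, hP.2]; exact hp.out) h1
  refine ⟨h, ?_⟩
  rw [extraspecial_index_center hP hcard, mul_comm, pow_mul] at h2
  exact Nat.pow_left_injective two_ne_zero h2

open Classical in
/-- An extraspecial group has `p - 1` nonlinear irreducible characters. -/
theorem extraspecial_card_nonlinear (hP : IsExtraspecial p G)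
    (hcard : Nat.card G = p ^ (2 * n + 1)) :
    (Finset.univ.filter fun χ : IrrCharacter G => (χ : G → ℂ) 1 ≠ 1).card = p - 1 := by
  have h := card_eq_index_commutator_add (G := G)
  rw [hP.1.2.2, extraspecial_index_center hP hcard, hcard,
    Finset.sum_congr rfl (g := fun _ => p ^ (2 * n)) (fun χ hχ => by
      rw [(extraspecial_irr_nonlinear hP hcard χ.2 (Finset.mem_filter.1 hχ).2).2, ← pow_mul,
        mul_comm]),
    Finset.sum_const, smul_eq_mul] at h
  have hpos : 0 < p ^ (2 * n) := pow_pos hp.out.pos _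
  have : p * p ^ (2 * n) = (1 + (Finset.univ.filter
      fun χ : IrrCharacter G => (χ : G → ℂ) 1 ≠ 1).card) * p ^ (2 * n) := by
    rw [← pow_succ', h]; ring
  have := Nat.eq_of_mul_eq_mul_right hpos this
  omega

end Extraspecial

end CL.Char
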