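import Cfsg.Agent.Char.Orth

/-!
# Brauer's permutation lemma

The irreducible characters form a basis of the functions on the set of conjugacy classes; a pair
of compatible self-maps of the irreducible characters and of the classes have equally many fixed
points.
-/

set_option autoImplicit false

namespace CL.Char

open Cfsg Module
open scoped ComplexConjugate

section Trace

variable {k : Type*} [Field k] {ι : Type*} [Finite ι]

/-- If an endomorphism maps basis vectors to basis vectors, its trace counts the fixed indices. -/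
theorem trace_of_basis_map {V : Type*} [AddCommGroup V] [Module k V] (b : Basis ι k V)
    (T : V →ₗ[k] V) (σ : ι → ι) (h : ∀ i, T (b i) = b (σ i)) :
    LinearMap.trace k V T = (Nat.card {i // σ i = i} : k) := by
  classical
  have := Fintype.ofFinite ι
  rw [LinearMap.trace_eq_matrix_trace k b, Matrix.trace, Nat.card_eq_fintype_card,
    Fintype.card_subtype, Finset.card_filter]
  simp only [Matrix.diag_apply, LinearMap.toMatrix_apply, h, Basis.repr_self, Finsupp.single_apply]
  push_cast
  rfl

/-- The trace of precomposition with a self-map counts its fixed points. -/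
theorem trace_funLeft (τ : ι → ι) :
    LinearMap.trace k (ι → k) (LinearMap.funLeft k k τ) = (Nat.card {i // τ i = i} : k) := by
  classical
  have := Fintype.ofFinite ι
  rw [LinearMap.trace_eq_matrix_trace k (Pi.basisFun k ι), Matrix.trace, Nat.card_eq_fintype_card,
    Fintype.card_subtype, Finset.card_filter]
  simp only [Matrix.diag_apply, LinearMap.toMatrix_apply, Pi.basisFun_apply, Pi.basisFun_repr,
    LinearMap.funLeft_apply, Pi.single_apply]
  push_cast
  rfl

end Trace

variable {G : Type*} [Group G]

/-- **Brauer's permutation lemma** for arbitrary compatible self-maps `σ` of the irreducible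
characters and `τ` of the conjugacy classes: `σ χ` takes at `C` the value of `χ` at `τ C`. -/
theorem brauer_perm [Finite G] (σ : IrrCharacter G → IrrCharacter G)
    (τ : ConjClasses G → ConjClasses G)
    (h : ∀ (χ : IrrCharacter G) (g g' : G), ConjClasses.mk g' = τ (ConjClasses.mk g) →
      (σ χ : G → ℂ) g = (χ : G → ℂ) g') :
    Nat.card {χ // σ χ = χ} = Nat.card {C // τ C = C} := by
  have h1 := trace_of_basis_map (irrClassBasis G) (LinearMap.funLeft ℂ ℂ τ) σ (fun χ => by
    funext C
    obtain ⟨g, rfl⟩ := ConjClasses.mk_surjective C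
    obtain ⟨g', hg'⟩ := ConjClasses.mk_surjective (τ (ConjClasses.mk g))
    rw [LinearMap.funLeft_apply, ← hg', irrClassBasis_mk, irrClassBasis_mk, h χ g g' hg'])
  rw [trace_funLeft] at h1
  exact_mod_cast h1.symm

/-- Brauer's permutation lemma for a map `t : G → G` that respects conjugacy and maps irreducible
characters to irreducible characters by precomposition. -/
theorem brauer_perm_fun [Finite G] (t : G → G) (ht : ∀ a b, IsConj a b → IsConj (t a) (t b))
    (hirr : ∀ χ : G → ℂ, IsIrrCharacter G χ → IsIrrCharacter G (fun g => χ (t g))) :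
    Nat.card {χ : IrrCharacter G // ∀ g, (χ : G → ℂ) (t g) = (χ : G → ℂ) g} =
      Nat.card {C : ConjClasses G // ∀ g, ConjClasses.mk g = C → IsConj g (t g)} := by
  let σ : IrrCharacter G → IrrCharacter G := fun χ => ⟨fun g => (χ : G → ℂ) (t g), hirr _ χ.2⟩
  let τ : ConjClasses G → ConjClasses G := Quotient.map' t ht
  have hτ : ∀ g, τ (ConjClasses.mk g) = ConjClasses.mk (t g) := fun g => rfl
  have := brauer_perm σ τ fun χ g g' hg => by
    rw [hτ, ConjClasses.mk_eq_mk_iff_isConj] at hg
    exact (classFun_eq_of_isConj (irr_isClassFunction χ.2) hg).symm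
  refine (Nat.card_congr (Equiv.subtypeEquivRight fun χ => ?_)).trans
    (this.trans (Nat.card_congr (Equiv.subtypeEquivRight fun C => ?_)))
  · exact ⟨fun h => Subtype.ext (funext h), fun h g => congrFun (congrArg Subtype.val h) g⟩
  · obtain ⟨g, rfl⟩ := ConjClasses.mk_surjective C
    rw [hτ, ConjClasses.mk_eq_mk_iff_isConj]
    refine ⟨fun h x hx => ?_, fun h => (h g rfl).symm⟩
    rw [ConjClasses.mk_eq_mk_iff_isConj] at hx
    exact hx.trans (h.symm.trans (ht _ _ hx).symm)

/-- Brauer's permutation lemma for an automorphism. -/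
theorem brauer_perm_aut [Finite G] (α : G ≃* G) :
    Nat.card {χ : IrrCharacter G // ∀ g, (χ : G → ℂ) (α g) = (χ : G → ℂ) g} =
      Nat.card {C : ConjClasses G // ∀ g, ConjClasses.mk g = C → IsConj g (α g)} :=
  brauer_perm_fun α (fun _ _ h => α.toMonoidHom.map_isConj h) fun _ hχ => irr_comp_mulEquiv hχ α

theorem card_fixed_class_pos [Finite G] (t : G → G) (h1 : t 1 = 1) :
    0 < Nat.card {C : ConjClasses G // ∀ g, ConjClasses.mk g = C → IsConj g (t g)} := by
  have : Nonempty {C : ConjClasses G // ∀ g, ConjClasses.mk g = C → IsConj g (t g)} :=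
    ⟨⟨ConjClasses.mk 1, fun g hg => by
      rw [ConjClasses.mk_eq_mk_iff_isConj, isConj_one_left] at hg
      rw [hg, h1]⟩⟩
  exact Nat.card_pos

/-- If an automorphism fixes no non-trivial conjugacy class, it fixes no non-principal irreducible
character. -/
theorem irr_eq_one_of_aut_fixed [Finite G] (α : G ≃* G) (hα : ∀ g, IsConj g (α g) → g = 1)
    {χ : G → ℂ} (hχ : IsIrrCharacter G χ) (hfix : ∀ g, χ (α g) = χ g) : χ = fun _ => 1 := by
  have h := brauer_perm_aut α
  have h1 : Nat.card {C : ConjClasses G // ∀ g, ConjClasses.mk g = C → IsConj g (α g)} ≤ 1 := by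
    rw [Finite.card_le_one_iff_subsingleton]
    refine ⟨fun ⟨C, hC⟩ ⟨D, hD⟩ => Subtype.ext ?_⟩
    obtain ⟨g, rfl⟩ := ConjClasses.mk_surjective C
    obtain ⟨g', rfl⟩ := ConjClasses.mk_surjective D
    change ConjClasses.mk g = ConjClasses.mk g'
    rw [hα g (hC g rfl), hα g' (hD g' rfl)]
  rw [← h, Finite.card_le_one_iff_subsingleton] at h1
  have := h1.elim ⟨⟨χ, hχ⟩, hfix⟩ ⟨irrOne G, fun _ => rfl⟩
  exact congrArg (fun x => x.1.1) this

/-- If an automorphism fixes a non-trivial conjugacy class, it fixes a non-principal irreducible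
character. -/
theorem exists_irr_ne_one_aut_fixed [Finite G] (α : G ≃* G) {g : G} (hg : g ≠ 1)
    (hα : IsConj g (α g)) :
    ∃ χ : G → ℂ, IsIrrCharacter G χ ∧ (χ ≠ fun _ => 1) ∧ ∀ x, χ (α x) = χ x := by
  have h := brauer_perm_aut α
  have h1 : 1 < Nat.card {C : ConjClasses G // ∀ g, ConjClasses.mk g = C → IsConj g (α g)} := by
    rw [Finite.one_lt_card_iff_nontrivial]
    refine ⟨⟨⟨ConjClasses.mk 1, fun x hx => ?_⟩, ⟨ConjClasses.mk g, fun x hx => ?_⟩, ?_⟩⟩
    · rw [ConjClasses.mk_eq_mk_iff_isConj, isConj_one_left] at hx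
      rw [hx, map_one]
    · rw [ConjClasses.mk_eq_mk_iff_isConj] at hx
      exact hx.trans (hα.trans (α.toMonoidHom.map_isConj hx).symm)
    · intro hh
      have := congrArg Subtype.val hh
      simp only [ConjClasses.mk_eq_mk_iff_isConj, isConj_one_right] at this
      exact hg this
  rw [← h, Finite.one_lt_card_iff_nontrivial] at h1
  obtain ⟨⟨χ, hχ⟩, hne⟩ := exists_ne
    (⟨irrOne G, fun _ => rfl⟩ : {χ : IrrCharacter G // ∀ g, (χ : G → ℂ) (α g) = (χ : G → ℂ) g})
  exact ⟨χ, χ.2, fun h => hne (Subtype.ext (Subtype.ext h)), hχ⟩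

/-- For compatible actions of a finite group on characters and classes the numbers of orbits
agree. -/
theorem brauer_perm_card_orbits [Finite G] {A : Type*} [Group A] [Finite A]
    [MulAction A (IrrCharacter G)] [MulAction A (ConjClasses G)]
    (hcompat : ∀ (a : A) (χ : IrrCharacter G) (g g' : G),
      ConjClasses.mk g' = a • ConjClasses.mk g →
        ((a • χ : IrrCharacter G) : G → ℂ) g' = (χ : G → ℂ) g) :
    Nat.card (Quotient (MulAction.orbitRel A (IrrCharacter G))) =
      Nat.card (Quotient (MulAction.orbitRel A (ConjClasses G))) := by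
  classical
  have := Fintype.ofFinite A
  have := Fintype.ofFinite (Quotient (MulAction.orbitRel A (IrrCharacter G)))
  have := Fintype.ofFinite (Quotient (MulAction.orbitRel A (ConjClasses G)))
  have : ∀ a : A, Fintype (MulAction.fixedBy (IrrCharacter G) a) := fun a => Fintype.ofFinite _
  have : ∀ a : A, Fintype (MulAction.fixedBy (ConjClasses G) a) := fun a => Fintype.ofFinite _
  have h1 := MulAction.sum_card_fixedBy_eq_card_orbits_mul_card_group A (IrrCharacter G)
  have h2 := MulAction.sum_card_fixedBy_eq_card_orbits_mul_card_group A (ConjClasses G)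
  have h3 : ∀ a : A, Fintype.card (MulAction.fixedBy (IrrCharacter G) a) =
      Fintype.card (MulAction.fixedBy (ConjClasses G) a⁻¹) := by
    intro a
    rw [← Nat.card_eq_fintype_card, ← Nat.card_eq_fintype_card]
    exact brauer_perm (fun χ => a • χ) (fun C => a⁻¹ • C) fun χ g g' hg =>
      hcompat a χ g' g (by rw [hg, smul_inv_smul])
  simp only [h3] at h1
  rw [Fintype.sum_equiv (Equiv.inv A)
    (fun a => Fintype.card (MulAction.fixedBy (ConjClasses G) a⁻¹))
    (fun a => Fintype.card (MulAction.fixedBy (ConjClasses G) a)) (fun _ => rfl), h2] at h1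
  rw [Nat.card_eq_fintype_card, Nat.card_eq_fintype_card]
  exact (Nat.eq_of_mul_eq_mul_right Fintype.card_pos h1).symm

end CL.Char
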