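import Cfsg.Agent.Char.SymAlt
import Cfsg.Agent.Char.Perm

/-!
# The Frobenius-Schur indicator and real characters
-/

set_option autoImplicit false

namespace CL.Char

open Cfsg Module
open scoped ComplexConjugate

variable {G : Type*} [Group G]

/-- The symmetric square of a function on a group. -/
noncomputable def symSq (χ : G → ℂ) : G → ℂ := fun g => (χ g ^ 2 + χ (g * g)) / 2

/-- The alternating square of a function on a group. -/
noncomputable def altSq (χ : G → ℂ) : G → ℂ := fun g => (χ g ^ 2 - χ (g * g)) / 2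

theorem symSq_apply (χ : G → ℂ) (g : G) : symSq χ g = (χ g ^ 2 + χ (g * g)) / 2 := rfl

theorem altSq_apply (χ : G → ℂ) (g : G) : altSq χ g = (χ g ^ 2 - χ (g * g)) / 2 := rfl

theorem symSq_add_altSq (χ : G → ℂ) : symSq χ + altSq χ = χ * χ := by
  funext g; simp only [Pi.add_apply, Pi.mul_apply, symSq_apply, altSq_apply]; ring

theorem symSq_sub_altSq (χ : G → ℂ) : symSq χ - altSq χ = fun g => χ (g * g) := by
  funext g; simp only [Pi.sub_apply, symSq_apply, altSq_apply]; ring

theorem character_symSub_one {n : ℕ} (ρ : Representation ℂ G (Fin n → ℂ)) :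
    (symSub ρ 1).toRepresentation.character = symSq ρ.character := by
  funext g; rw [character_symSub ρ (by norm_num), symSq_apply, one_mul]

theorem character_symSub_neg_one {n : ℕ} (ρ : Representation ℂ G (Fin n → ℂ)) :
    (symSub ρ (-1)).toRepresentation.character = altSq ρ.character := by
  funext g; rw [character_symSub ρ (by norm_num), altSq_apply]; ring

theorem char_symSq {χ : G → ℂ} (hχ : IsCharacter G χ) : IsCharacter G (symSq χ) := by
  obtain ⟨n, ρ, rfl⟩ := hχ
  rw [← character_symSub_one]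
  exact isCharacter_character _

theorem char_altSq {χ : G → ℂ} (hχ : IsCharacter G χ) : IsCharacter G (altSq χ) := by
  obtain ⟨n, ρ, rfl⟩ := hχ
  rw [← character_symSub_neg_one]
  exact isCharacter_character _

/-- `g ↦ χ (g * g)` is a generalized character. -/
theorem gen_sq {θ : G → ℂ} (hθ : IsGeneralizedCharacter G θ) :
    IsGeneralizedCharacter G (fun g => θ (g * g)) := by
  obtain ⟨χ, ψ, hχ, hψ, rfl⟩ := hθ
  have h1 : IsGeneralizedCharacter G (fun g => χ (g * g)) :=
    ⟨_, _, char_symSq hχ, char_altSq hχ, (symSq_sub_altSq χ).symm⟩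
  have h2 : IsGeneralizedCharacter G (fun g => ψ (g * g)) :=
    ⟨_, _, char_symSq hψ, char_altSq hψ, (symSq_sub_altSq ψ).symm⟩
  exact gen_sub h1 h2

omit [Group G] in
theorem real_iff_conj_eq {χ : G → ℂ} : (∀ g, (χ g).im = 0) ↔ (fun g => conj (χ g)) = χ := by
  simp only [funext_iff, Complex.conj_eq_iff_im]

theorem char_real_iff_inv [Finite G] {χ : G → ℂ} (hχ : IsCharacter G χ) :
    (∀ g, (χ g).im = 0) ↔ ∀ g, χ g⁻¹ = χ g := by
  simp only [char_apply_inv hχ, Complex.conj_eq_iff_im]

/-- The number of real irreducible characters is the number of real classes. -/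
theorem card_real_irr [Finite G] :
    Nat.card {χ : IrrCharacter G // ∀ g : G, ((χ : G → ℂ) g).im = 0} =
      Nat.card {C : ConjClasses G // ∀ g : G, ConjClasses.mk g = C → IsConj g g⁻¹} := by
  rw [← brauer_perm_fun (fun g : G => g⁻¹) (fun a b h => by
    obtain ⟨c, rfl⟩ := isConj_iff.mp h
    exact isConj_iff.mpr ⟨c, by group⟩) (fun _ h => irr_inv h)]
  exact Nat.card_congr (Equiv.subtypeEquivRight fun χ => char_real_iff_inv (irr_isCharacter χ.2))

section Indicator

variable [Fintype G]

/-- The Frobenius-Schur indicator. -/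
noncomputable def fsInd (χ : G → ℂ) : ℂ := (Nat.card G : ℂ)⁻¹ * ∑ s : G, χ (s * s)

theorem fsInd_def (χ : G → ℂ) : fsInd χ = (Nat.card G : ℂ)⁻¹ * ∑ s : G, χ (s * s) := rfl

theorem fsInd_eq_inner (χ : G → ℂ) : fsInd χ = classInner (fun s => χ (s * s)) (fun _ => 1) := by
  rw [classInner_one_right, fsInd_def]

theorem fsInd_eq_sub (χ : G → ℂ) :
    fsInd χ = classInner (symSq χ) (fun _ => 1) - classInner (altSq χ) (fun _ => 1) := by
  rw [← classInner_sub_left, symSq_sub_altSq, fsInd_eq_inner]

theorem inner_symSq_add_altSq (χ : G → ℂ) :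
    classInner (symSq χ) (fun _ => 1) + classInner (altSq χ) (fun _ => 1) =
      classInner χ (fun g => conj (χ g)) := by
  rw [← classInner_add_left, symSq_add_altSq, classInner_mul_left]
  simp

theorem fsInd_add (χ ψ : G → ℂ) : fsInd (χ + ψ) = fsInd χ + fsInd ψ := by
  simp [fsInd_def, Finset.sum_add_distrib, mul_add]

theorem fsInd_one : fsInd (fun _ : G => (1 : ℂ)) = 1 := by
  rw [fsInd_eq_inner, classInner_one_one]

theorem fsInd_int {θ : G → ℂ} (hθ : IsGeneralizedCharacter G θ) : ∃ n : ℤ, fsInd θ = n := by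
  rw [fsInd_eq_inner]
  exact gen_inner_int (gen_sq hθ) gen_one

/-- A non-real irreducible character has indicator zero. -/
theorem fsInd_eq_zero_of_not_real {χ : G → ℂ} (hχ : IsIrrCharacter G χ)
    (h : ¬ ∀ g, (χ g).im = 0) : fsInd χ = 0 := by
  obtain ⟨a, ha⟩ := char_inner_nat (char_symSq (irr_isCharacter hχ)) char_one
  obtain ⟨b, hb⟩ := char_inner_nat (char_altSq (irr_isCharacter hχ)) char_one
  have h1 := inner_symSq_add_altSq χ
  rw [ha, hb, irr_inner_of_ne hχ (irr_conj hχ) (fun h' => h (real_iff_conj_eq.mpr h'.symm))] at h1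
  have h2 : a + b = 0 := by exact_mod_cast h1
  rw [fsInd_eq_sub, ha, hb, show a = 0 by omega, show b = 0 by omega, sub_self]

theorem inner_symSq_altSq_of_real {χ : G → ℂ} (hχ : IsIrrCharacter G χ)
    (h : ∀ g, (χ g).im = 0) :
    (classInner (symSq χ) (fun _ => 1) = 1 ∧ classInner (altSq χ) (fun _ => 1) = 0) ∨
    (classInner (symSq χ) (fun _ => 1) = 0 ∧ classInner (altSq χ) (fun _ => 1) = 1) := by
  obtain ⟨a, ha⟩ := char_inner_nat (char_symSq (irr_isCharacter hχ)) char_one
  obtain ⟨b, hb⟩ := char_inner_nat (char_altSq (irr_isCharacter hχ)) char_one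
  have h1 := inner_symSq_add_altSq χ
  rw [ha, hb, real_iff_conj_eq.mp h, irr_inner_self hχ] at h1
  have h2 : a + b = 1 := by exact_mod_cast h1
  rw [ha, hb]
  rcases Nat.eq_zero_or_pos a with h0 | h0
  · right; rw [h0, show b = 1 by omega]; simp
  · left; rw [show a = 1 by omega, show b = 0 by omega]; simp

/-- A real irreducible character has indicator `±1`. -/
theorem fsInd_of_real {χ : G → ℂ} (hχ : IsIrrCharacter G χ) (h : ∀ g, (χ g).im = 0) :
    fsInd χ = 1 ∨ fsInd χ = -1 := by
  rw [fsInd_eq_sub]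
  rcases inner_symSq_altSq_of_real hχ h with ⟨h1, h2⟩ | ⟨h1, h2⟩ <;> simp [h1, h2]

theorem fsInd_trichotomy {χ : G → ℂ} (hχ : IsIrrCharacter G χ) :
    fsInd χ = 0 ∨ fsInd χ = 1 ∨ fsInd χ = -1 := by
  by_cases h : ∀ g, (χ g).im = 0
  · exact Or.inr (fsInd_of_real hχ h)
  · exact Or.inl (fsInd_eq_zero_of_not_real hχ h)

theorem fsInd_eq_zero_iff {χ : G → ℂ} (hχ : IsIrrCharacter G χ) :
    fsInd χ = 0 ↔ ∃ g, (χ g).im ≠ 0 := by
  rw [← not_forall]
  refine ⟨fun h0 h => ?_, fsInd_eq_zero_of_not_real hχ⟩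
  rcases fsInd_of_real hχ h with h1 | h1 <;> simp [h0] at h1

theorem conj_fsInd {χ : G → ℂ} (hχ : IsIrrCharacter G χ) : conj (fsInd χ) = fsInd χ := by
  rcases fsInd_trichotomy hχ with h | h | h <;> simp [h]

/-- An irreducible character of indicator `-1` has even degree. -/
theorem even_of_fsInd_eq_neg_one {χ : G → ℂ} (hχ : IsIrrCharacter G χ) (h : fsInd χ = -1) :
    Even (deg χ) := by
  have hreal : ∀ g, (χ g).im = 0 := by
    by_contra hc
    rw [fsInd_eq_zero_of_not_real hχ hc] at h
    simp at h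
  have h2 : classInner (altSq χ) (fun _ => 1) = 1 := by
    rcases inner_symSq_altSq_of_real hχ hreal with ⟨h1, h2⟩ | ⟨h1, h2⟩
    · rw [fsInd_eq_sub, h1, h2] at h; norm_num at h
    · exact h2
  obtain ⟨n, ρ, hρ, rfl⟩ := hχ
  rw [← character_symSub_neg_one, classInner_character_one] at h2
  rw [deg_character, finrank_fin_fun]
  refine even_of_alt_invariant ρ fun h0 => ?_
  rw [h0] at h2
  simp at h2

/-- A real irreducible character of odd degree has indicator `1`. -/
theorem fsInd_eq_one_of_odd {χ : G → ℂ} (hχ : IsIrrCharacter G χ) (h : ∀ g, (χ g).im = 0)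
    (hodd : Odd (deg χ)) : fsInd χ = 1 :=
  (fsInd_of_real hχ h).resolve_right fun h' =>
    Nat.not_even_iff_odd.mpr hodd (even_of_fsInd_eq_neg_one hχ h')

/-- The number of square roots, as a function on the group. -/
noncomputable def sqrtCount (G : Type*) [Group G] (g : G) : ℂ := Nat.card {s : G // s * s = g}

omit [Fintype G] in
theorem isClassFunction_sqrtCount : IsClassFunction G (sqrtCount G) := by
  intro g h
  unfold sqrtCount
  congr 1
  refine Nat.card_congr (Equiv.subtypeEquiv (MulAut.conj h⁻¹).toEquiv fun s => ?_)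
  simp only [MulEquiv.toEquiv_eq_coe, EquivLike.coe_coe, MulAut.conj_apply, inv_inv]
  constructor
  · intro hs
    calc _ = h⁻¹ * (s * s) * h := by group
      _ = g := by rw [hs]; group
  · intro hs
    rw [← hs]; group

omit [Group G] in
/-- Summation over a finite type, collected along the fibres of a map. -/
theorem sum_card_fiber_mul {X : Type*} [Fintype X] (t : X → G) (f : G → ℂ) :
    ∑ g, (Nat.card {s : X // t s = g} : ℂ) * f g = ∑ s, f (t s) := by
  classical
  rw [← Finset.sum_fiberwise Finset.univ t]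
  refine Finset.sum_congr rfl fun g _ => ?_
  rw [Finset.sum_congr rfl (g := fun _ => f g) (fun s hs => by rw [(Finset.mem_filter.mp hs).2]),
    Finset.sum_const, nsmul_eq_mul, Nat.card_eq_fintype_card, Fintype.card_subtype]

theorem classInner_sqrtCount {χ : G → ℂ} (hχ : IsIrrCharacter G χ) :
    classInner (sqrtCount G) χ = fsInd χ := by
  rw [← conj_fsInd hχ, classInner_def, fsInd_def]
  unfold sqrtCount
  rw [sum_card_fiber_mul (fun s : G => s * s) (fun g => conj (χ g))]
  simp

/-- The Frobenius-Schur count of square roots. -/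
theorem card_sqrt_eq_sum (g : G) :
    (Nat.card {s : G // s * s = g} : ℂ) =
      ∑ χ : IrrCharacter G, fsInd (χ : G → ℂ) * (χ : G → ℂ) g := by
  have := classFun_apply_eq_sum (isClassFunction_sqrtCount (G := G)) g
  simp only [fun χ : IrrCharacter G => classInner_sqrtCount χ.2] at this
  exact this

/-- In a group of odd order the indicator is the multiplicity of the principal character. -/
theorem fsInd_of_odd (hodd : Odd (Nat.card G)) (χ : G → ℂ) :
    fsInd χ = classInner χ (fun _ => 1) := by
  rw [classInner_one_right, fsInd_def]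
  congr 1
  have hc : (Nat.card G).Coprime 2 := (Nat.coprime_two_right).mpr hodd
  exact Fintype.sum_equiv (powCoprime hc) _ _ fun s => by simp [powCoprime, sq]

end Indicator

/-- In a group of odd order a real irreducible character is principal. -/
theorem irr_eq_one_of_real_of_odd [Finite G] (hodd : Odd (Nat.card G)) {χ : G → ℂ}
    (hχ : IsIrrCharacter G χ) (h : ∀ g, (χ g).im = 0) : χ = fun _ => 1 := by
  have := Fintype.ofFinite G
  refine irr_eq_of_inner_ne_zero hχ irr_one ?_
  rw [← fsInd_of_odd hodd]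
  rcases fsInd_of_real hχ h with h1 | h1 <;> simp [h1]

/-- In a group of odd order a non-principal irreducible character differs from its conjugate. -/
theorem irr_conj_ne_of_odd [Finite G] (hodd : Odd (Nat.card G)) {χ : G → ℂ}
    (hχ : IsIrrCharacter G χ) (h : χ ≠ fun _ => 1) : (fun g => conj (χ g)) ≠ χ :=
  fun h' => h (irr_eq_one_of_real_of_odd hodd hχ (real_iff_conj_eq.mpr h'))

theorem irr_inner_conj_of_odd [Fintype G] (hodd : Odd (Nat.card G)) {χ : G → ℂ}
    (hχ : IsIrrCharacter G χ) (h : χ ≠ fun _ => 1) : classInner χ (fun g => conj (χ g)) = 0 :=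
  irr_inner_of_ne hχ (irr_conj hχ) (irr_conj_ne_of_odd hodd hχ h).symm

end CL.Char
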