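import Cfsg.Agent.Base
import Cfsg.Agent.Char.CliffordCorr
import Cfsg.Agent.Char.Perm
import Cfsg.Agent.Char.FS
import Cfsg.Agent.Char.Values

/-!
# Characters of Frobenius groups and related vanishing results
The Frobenius condition is taken in the form `C_G(n) ≤ N` for all `n ∈ N#`.
-/

set_option autoImplicit false
open scoped ComplexConjugate
open Cfsg

namespace CL.Char

variable {G : Type*} [Group G]

/-- If `g` normalises the finite subgroup `H` and `C_H(g) = 1`, every element of the coset `H g`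
is conjugate to `g` under `H`. -/
theorem exists_conj_eq_mul_of_fpf (H : Subgroup G) [Finite H] {g : G}
    (hgH : ∀ x ∈ H, g * x * g⁻¹ ∈ H) (hg : ∀ h ∈ H, h * g = g * h → h = 1) {h : G} (hh : h ∈ H) :
    ∃ x ∈ H, x * g * x⁻¹ = h * g := by
  let f : H → H := fun x => ⟨x * (g * (x : G)⁻¹ * g⁻¹), H.mul_mem x.2 (hgH _ (H.inv_mem x.2))⟩
  have hf : Function.Injective f := by
    intro x y hxy
    have h1 : (x : G) * (g * (x : G)⁻¹ * g⁻¹) = y * (g * (y : G)⁻¹ * g⁻¹) :=
      congrArg Subtype.val hxy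
    have h2 : ((y : G)⁻¹ * x) * g = g * ((y : G)⁻¹ * x) := by
      calc ((y : G)⁻¹ * x) * g = (y : G)⁻¹ * (x * (g * (x : G)⁻¹ * g⁻¹)) * g * x := by group
        _ = (y : G)⁻¹ * (y * (g * (y : G)⁻¹ * g⁻¹)) * g * x := by rw [h1]
        _ = _ := by group
    have := hg _ (H.mul_mem (H.inv_mem y.2) x.2) h2
    exact Subtype.ext (inv_mul_eq_one.1 this).symm
  obtain ⟨x, hx⟩ := Finite.surjective_of_injective hf ⟨h, hh⟩
  refine ⟨x, x.2, ?_⟩
  have h1 : (x : G) * (g * (x : G)⁻¹ * g⁻¹) = h := congrArg Subtype.val hx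
  rw [← h1]; group

/-- In `G = K H` with `H` acting fixed-point-freely on the normal subgroup `K`, centralisers of
non-identity elements of `K` lie in `K`. -/
theorem centralizer_le_of_fpf (K H : Subgroup G) [hK : K.Normal] [Finite K] (hKH : K ⊔ H = ⊤)
    (hfpf : ∀ h ∈ H, h ≠ 1 → ∀ k ∈ K, h * k = k * h → k = 1) :
    ∀ n ∈ K, n ≠ 1 → Subgroup.centralizer ({n} : Set G) ≤ K := by
  intro n hn hn1 g hg
  obtain ⟨k, hk, h, hh, rfl⟩ := exists_mul_of_sup_eq_top_of_normal_left H K hKH g
  by_cases h1 : h = 1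
  · simpa [h1] using hk
  exfalso
  obtain ⟨x, hx, hxe⟩ := exists_conj_eq_mul_of_fpf K (g := h) (fun x hx => hK.conj_mem x hx h)
    (fun y hy e => hfpf h hh h1 y hy e.symm) hk
  rw [Subgroup.mem_centralizer_singleton_iff, ← hxe] at hg
  have := hfpf h hh h1 (x⁻¹ * n * x) (by simpa using hK.conj_mem n hn x⁻¹) (by
    calc h * (x⁻¹ * n * x) = x⁻¹ * (x * h * x⁻¹ * n) * x := by group
      _ = x⁻¹ * (n * (x * h * x⁻¹)) * x := by rw [hg]
      _ = _ := by group)
  apply hn1
  calc n = x * (x⁻¹ * n * x) * x⁻¹ := by group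
    _ = 1 := by rw [this]; group

variable (N : Subgroup G) [hN : N.Normal]

/-- An element fixing a non-principal irreducible character of `N` has a coset representative
centralising a non-identity element of `N`. -/
theorem exists_commute_of_mem_inertia [Finite N] {θ : N → ℂ} (hθ : IsIrrCharacter N θ)
    (hθ1 : θ ≠ fun _ => 1) {g : G} (hg : g ∈ inertia N θ) :
    ∃ n ∈ N, n ≠ 1 ∧ ∃ k ∈ N, (k * g) * n = n * (k * g) := by
  by_contra hc
  push Not at hc
  refine hθ1 (irr_eq_one_of_aut_fixed (MulAut.conjNormal g : MulAut N) (fun n hn => ?_) hθ hg)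
  obtain ⟨k, hk⟩ := isConj_iff.1 hn
  have h1 : (k : G) * n * (k : G)⁻¹ = g * n * g⁻¹ := congrArg Subtype.val hk
  by_contra hn1
  refine hc n n.2 (fun h => hn1 (Subtype.ext h)) (k : G)⁻¹ (N.inv_mem k.2) ?_
  calc (k : G)⁻¹ * g * n = (k : G)⁻¹ * (g * n * g⁻¹) * g := by group
    _ = (k : G)⁻¹ * (k * n * (k : G)⁻¹) * g := by rw [h1]
    _ = _ := by group

/-- In a Frobenius group the inertia group of a non-principal character of the kernel is the
kernel. -/
theorem inertia_le_of_centralizer_le [Finite N]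
    (hC : ∀ n ∈ N, n ≠ 1 → Subgroup.centralizer ({n} : Set G) ≤ N) {θ : N → ℂ}
    (hθ : IsIrrCharacter N θ) (hθ1 : θ ≠ fun _ => 1) : inertia N θ ≤ N := by
  intro g hg
  obtain ⟨n, hn, hn1, k, hk, h⟩ := exists_commute_of_mem_inertia N hθ hθ1 hg
  have := hC n hn hn1 (Subgroup.mem_centralizer_singleton_iff.2 h)
  simpa using N.mul_mem (N.inv_mem hk) this

theorem inertia_eq_of_centralizer_le [Finite N]
    (hC : ∀ n ∈ N, n ≠ 1 → Subgroup.centralizer ({n} : Set G) ≤ N) {θ : N → ℂ}
    (hθ : IsIrrCharacter N θ) (hθ1 : θ ≠ fun _ => 1) : inertia N θ = N :=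
  le_antisymm (inertia_le_of_centralizer_le N hC hθ hθ1) (le_inertia N (irr_isClassFunction hθ))

variable [Fintype G]

/-- Non-principal irreducible characters of a Frobenius kernel induce irreducibly. -/
theorem irr_indFun_of_centralizer_le
    (hC : ∀ n ∈ N, n ≠ 1 → Subgroup.centralizer ({n} : Set G) ≤ N) {θ : N → ℂ}
    (hθ : IsIrrCharacter N θ) (hθ1 : θ ≠ fun _ => 1) : IsIrrCharacter G (indFun N θ) :=
  irr_indFun_of_inertia_le N hθ (inertia_le_of_centralizer_le N hC hθ hθ1)

/-- An irreducible character whose kernel does not contain the normal subgroup `N` lies over a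
non-principal irreducible character of `N`. -/
theorem exists_irr_under_ne_one [Fintype N] {χ : G → ℂ} (hχ : IsIrrCharacter G χ)
    (hker : ∃ n ∈ N, χ n ≠ χ 1) :
    ∃ θ, IsIrrCharacter N θ ∧ (θ ≠ fun _ => 1) ∧ classInner (fun h : N => χ h) θ ≠ 0 := by
  obtain ⟨θ, hθ, h⟩ := exists_irr_under N hχ
  refine ⟨θ, hθ, fun e => h ?_, h⟩
  rw [e]
  exact classInner_res_one_eq_zero N hχ hker

/-- Irreducible characters of a Frobenius group not containing the kernel in their kernel are
induced from the kernel. -/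
theorem exists_eq_indFun_of_centralizer_le
    (hC : ∀ n ∈ N, n ≠ 1 → Subgroup.centralizer ({n} : Set G) ≤ N) {χ : G → ℂ}
    (hχ : IsIrrCharacter G χ) (hker : ∃ n ∈ N, χ n ≠ χ 1) :
    ∃ θ : N → ℂ, IsIrrCharacter N θ ∧ (θ ≠ fun _ => 1) ∧ χ = indFun N θ := by
  have : Fintype N := Fintype.ofFinite N
  obtain ⟨θ, hθ, hθ1, h⟩ := exists_irr_under_ne_one N hχ hker
  exact ⟨θ, hθ, hθ1, eq_indFun_of_inertia_le N hθ (inertia_le_of_centralizer_le N hC hθ hθ1) hχ h⟩

omit hN in
/-- A character induced from a non-principal irreducible character of `N` is not constant on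
`N`. -/
theorem exists_indFun_apply_ne {θ : N → ℂ} (hθ : IsIrrCharacter N θ) (hθ1 : θ ≠ fun _ => 1) :
    ∃ n ∈ N, indFun N θ n ≠ indFun N θ 1 := by
  have : Fintype N := Fintype.ofFinite N
  by_contra hc
  push Not at hc
  have h1 : (fun n : N => indFun N θ n) = indFun N θ 1 • fun _ : N => (1 : ℂ) := by
    funext n; simp [hc n n.2]
  have h2 := classInner_indFun_left N θ (indFun_isClassFunction N θ)
  rw [h1, classInner_smul_right, irr_inner_one hθ hθ1, mul_zero, classInner_self_eq_zero] at h2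
  exact indFun_ne_zero N (irr_apply_one_ne_zero hθ) h2

/-- The sum of an irreducible character over a coset of a normal subgroup not in its kernel
vanishes. -/
theorem irr_sum_coset_eq_zero [Fintype N] {χ : G → ℂ} (hχ : IsIrrCharacter G χ)
    (hker : ∃ n ∈ N, χ n ≠ χ 1) (g : G) : ∑ n : N, χ (n * g) = 0 := by
  have hf : IsClassFunction G (extendByZero N (fun _ => 1)) := by
    intro a b
    rw [← extendByZero_conjChar N b (fun _ => 1) a, conjChar_const]
  have h1 := irr_sum_mul_apply_mul hχ hf g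
  rw [sum_extendByZero_mul N _ (fun x => χ (x * g)), sum_extendByZero_mul] at h1
  have h2 := classInner_res_one_eq_zero N hχ hker
  rw [classInner_one_right, mul_eq_zero] at h2
  have h3 := h2.resolve_left (inv_ne_zero (natCard_cast_ne_zero N))
  simp only [one_mul] at h1
  rw [h1, h3, zero_div, zero_mul]

/-- An irreducible character whose kernel does not contain `N` vanishes at every `g` with
`C_N(g) = 1`. -/
theorem irr_apply_eq_zero_of_fpf {χ : G → ℂ} (hχ : IsIrrCharacter G χ)
    (hker : ∃ n ∈ N, χ n ≠ χ 1) {g : G} (hg : ∀ h ∈ N, h * g = g * h → h = 1) : χ g = 0 := by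
  have : Fintype N := Fintype.ofFinite N
  have h1 := irr_sum_coset_eq_zero N hχ hker g
  have h2 : ∀ n : N, χ (n * g) = χ g := by
    intro n
    obtain ⟨x, -, hx⟩ := exists_conj_eq_mul_of_fpf N (fun x hx => hN.conj_mem x hx g) hg n.2
    rw [← hx, irr_isClassFunction hχ]
  simp only [h2, Finset.sum_const, Finset.card_univ, nsmul_eq_mul, mul_eq_zero] at h1
  exact h1.resolve_left (Nat.cast_ne_zero.2 Fintype.card_ne_zero)

omit [Fintype G] in
/-- In a group of odd order the complex conjugate of a non-principal irreducible character of a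
normal subgroup is not conjugate to it. -/
theorem conj_ne_conjChar_of_odd [Finite G] (hodd : Odd (Nat.card G)) {θ : N → ℂ}
    (hθ : IsIrrCharacter N θ) (hθ1 : θ ≠ fun _ => 1) (g : G) :
    (fun n => conj (θ n)) ≠ conjChar N g θ := by
  intro h
  have h2 : g * g ∈ inertia N θ := by
    rw [mem_inertia_iff, conjChar_mul, ← h, conjChar_conj, ← h]
    funext n; simp
  have hg : g ∈ inertia N θ := by
    obtain ⟨m, hm⟩ := hodd
    have h3 : g ^ Nat.card G = 1 := pow_card_eq_one'
    have h4 : g = ((g * g) ^ m)⁻¹ := by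
      rw [eq_inv_iff_mul_eq_one, ← sq, ← pow_mul, ← pow_succ', ← hm, h3]
    rw [h4]
    exact inv_mem (pow_mem h2 m)
  rw [(mem_inertia_iff N).1 hg] at h
  exact irr_conj_ne_of_odd (hodd.of_dvd_nat (Subgroup.card_subgroup_dvd_card N)) hθ hθ1 h

/-- In a group of odd order a character induced from a non-principal irreducible character of a
normal subgroup is orthogonal to its complex conjugate. -/
theorem classInner_conj_indFun_of_odd (hodd : Odd (Nat.card G)) {θ : N → ℂ}
    (hθ : IsIrrCharacter N θ) (hθ1 : θ ≠ fun _ => 1) :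
    classInner (fun g => conj (indFun N θ g)) (indFun N θ) = 0 := by
  rw [← indFun_conj]
  refine classInner_indFun_eq_zero_of_not_conj N hθ (irr_conj hθ) (fun h => ?_)
  obtain ⟨g, hg⟩ := (mem_conjOrbit N).1 h
  exact conj_ne_conjChar_of_odd N hodd hθ hθ1 g hg

theorem conj_indFun_ne_of_odd (hodd : Odd (Nat.card G)) {θ : N → ℂ}
    (hθ : IsIrrCharacter N θ) (hθ1 : θ ≠ fun _ => 1) :
    (fun g => conj (indFun N θ g)) ≠ indFun N θ := by
  intro h
  have := classInner_conj_indFun_of_odd N hodd hθ hθ1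
  rw [h, classInner_self_eq_zero] at this
  exact indFun_ne_zero N (irr_apply_one_ne_zero hθ) this

end CL.Char
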