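import Cfsg.Agent.Char.Invariant

/-!
# Gallagher's theorem
-/

set_option autoImplicit false

open Cfsg
open scoped ComplexConjugate

namespace CL.Char

variable {G : Type*} [Group G] [Fintype G]

/-- If `∑ nᵢ fᵢ` (with `fᵢ` nonzero characters) has norm `∑ nᵢ²`, then the `fᵢ` that occur are distinct irreducible
characters. -/
theorem irr_of_inner_sum_eq_sum_sq {ι : Type*} [Fintype ι] (n : ι → ℕ) (f : ι → G → ℂ)
    (hf : ∀ i, IsCharacter G (f i)) (hne : ∀ i, f i ≠ 0)
    (h : classInner (∑ i, (n i : ℂ) • f i) (∑ i, (n i : ℂ) • f i) = ((∑ i, n i ^ 2 : ℕ) : ℂ)) :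
    (∀ i, n i ≠ 0 → IsIrrCharacter G (f i)) ∧
      ∀ i j, n i ≠ 0 → n j ≠ 0 → i ≠ j → classInner (f i) (f j) = 0 := by
  classical
  choose m hm using fun i j => char_inner_nat (hf i) (hf j)
  have hm1 : ∀ i, 1 ≤ m i i := fun i => Nat.pos_of_ne_zero fun h0 =>
    hne i (classInner_self_eq_zero.1 (by rw [hm, h0, Nat.cast_zero]))
  have h1 : ∑ i, ∑ j, n i * (n j * m i j) = ∑ i, n i ^ 2 := by
    rw [classInner_sum_left] at h
    simp only [classInner_sum_right, classInner_smul_left,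
      classInner_smul_right, Complex.conj_natCast, hm] at h
    have h' : ∑ i, ∑ j, n j * (n i * m i j) = ∑ i, n i ^ 2 := by exact_mod_cast h
    rw [← h']
    exact Finset.sum_congr rfl fun i _ => Finset.sum_congr rfl fun j _ => by ring
  have h2 : ∀ i, n i ^ 2 ≤ n i * (n i * m i i) := fun i => by
    rw [sq]; exact Nat.mul_le_mul_left _ (Nat.le_mul_of_pos_right _ (hm1 i))
  have h3 : ∀ i, ∑ j, n i * (n j * m i j) =
      n i * (n i * m i i) + ∑ j ∈ Finset.univ.erase i, n i * (n j * m i j) := fun i =>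
    (Finset.add_sum_erase _ _ (Finset.mem_univ i)).symm
  have h4 : ∀ i ∈ Finset.univ, n i ^ 2 ≤ ∑ j, n i * (n j * m i j) := fun i _ => by
    rw [h3]; exact (h2 i).trans (Nat.le_add_right _ _)
  have h5 := (Finset.sum_eq_sum_iff_of_le h4).1 h1.symm
  refine ⟨fun i hi => irr_of_char_norm_one (hf i) ?_, fun i j hi hj hij => ?_⟩
  · have h6 := h5 i (Finset.mem_univ i)
    rw [h3] at h6
    have h7 : n i * (n i * m i i) = n i * (n i * 1) := by
      have := h2 i
      rw [mul_one, ← sq]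
      omega
    have h8 := Nat.eq_of_mul_eq_mul_left (Nat.pos_of_ne_zero hi)
      (Nat.eq_of_mul_eq_mul_left (Nat.pos_of_ne_zero hi) h7)
    rw [hm, h8, Nat.cast_one]
  · have h6 := h5 i (Finset.mem_univ i)
    rw [h3] at h6
    have h7 : ∑ j ∈ Finset.univ.erase i, n i * (n j * m i j) = 0 := by
      have := h2 i
      omega
    have h8 := Finset.sum_eq_zero_iff.1 h7 j (Finset.mem_erase.2 ⟨hij.symm, Finset.mem_univ j⟩)
    rw [hm, (by simpa [hi, hj] using h8 : m i j = 0), Nat.cast_zero]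

/-- Let `A` be a character, `χ` a character with `χ ≠ 0`, and `‖A χ‖ = ‖A‖`. Then `β ↦ β χ` is a bijection from the
irreducible constituents of `A` to those of `A χ`, preserving multiplicities. -/
theorem bijOn_mul_of_inner_eq {A χ : G → ℂ} (hA : IsCharacter G A) (hχ : IsCharacter G χ)
    (hχ0 : χ ≠ 0) (h : classInner (A * χ) (A * χ) = classInner A A) :
    Set.BijOn (fun β : G → ℂ => β * χ) {β | IsIrrCharacter G β ∧ classInner A β ≠ 0}
      {ψ | IsIrrCharacter G ψ ∧ classInner (A * χ) ψ ≠ 0} ∧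
    ∀ β, IsIrrCharacter G β → classInner A β ≠ 0 → classInner (A * χ) (β * χ) = classInner A β := by
  classical
  obtain ⟨c, hc, hAc⟩ := char_exists_eq_sum hA
  have hχ1 : χ 1 ≠ 0 := fun h1 => hχ0 (char_eq_zero_of_apply_one hχ h1)
  have hAχ : A * χ = ∑ β : IrrCharacter G, (c β : ℂ) • ((β : G → ℂ) * χ) := by
    conv_lhs => rw [hAc]
    simp only [Finset.sum_mul, smul_mul_assoc]
  have hAA : classInner A A = ((∑ β, c β ^ 2 : ℕ) : ℂ) := by
    have := classInner_self_eq_sum_sq (char_isClassFunction hA) (c := fun β => (c β : ℤ))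
      (fun β => by rw [hc]; simp)
    rw [this]
    push_cast
    rfl
  obtain ⟨h1, h2⟩ := irr_of_inner_sum_eq_sum_sq c (fun β : IrrCharacter G => (β : G → ℂ) * χ)
    (fun β => char_mul (irr_isCharacter β.2) hχ)
    (fun β hh => mul_ne_zero (irr_apply_one_ne_zero β.2) hχ1 (congrFun hh 1))
    (by rw [← hAχ, h, hAA])
  have hc' : ∀ β (hβ : IsIrrCharacter G β), classInner A β ≠ 0 → c ⟨β, hβ⟩ ≠ 0 := by
    intro β hβ hne h0
    exact hne (by rw [hc ⟨β, hβ⟩, h0, Nat.cast_zero])
  have h3 : ∀ β, IsIrrCharacter G β → classInner A β ≠ 0 →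
      classInner (A * χ) (β * χ) = classInner A β := by
    intro β hβ hne
    rw [hAχ, classInner_sum_left, Finset.sum_eq_single ⟨β, hβ⟩, classInner_smul_left,
      irr_inner_self (h1 _ (hc' β hβ hne)), mul_one, hc ⟨β, hβ⟩]
    · intro γ _ hγ
      rw [classInner_smul_left]
      by_cases h0 : c γ = 0
      · rw [h0, Nat.cast_zero, zero_mul]
      · rw [h2 γ ⟨β, hβ⟩ h0 (hc' β hβ hne) hγ, mul_zero]
    · simp
  refine ⟨⟨?_, ?_, ?_⟩, h3⟩
  · rintro β ⟨hβ, hne⟩
    exact ⟨h1 _ (hc' β hβ hne), by rw [h3 β hβ hne]; exact hne⟩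
  · rintro β ⟨hβ, hne⟩ γ ⟨hγ, hne'⟩ hβγ
    by_contra hh
    have h4 := h2 ⟨β, hβ⟩ ⟨γ, hγ⟩ (hc' β hβ hne) (hc' γ hγ hne') (fun h5 => hh (congrArg Subtype.val h5))
    have h5 : β * χ = γ * χ := hβγ
    simp only [← h5] at h4
    rw [irr_inner_self (h1 _ (hc' β hβ hne))] at h4
    exact one_ne_zero h4
  · rintro ψ ⟨hψ, hne⟩
    rw [hAχ, classInner_sum_left] at hne
    obtain ⟨β, -, hβ⟩ := Finset.exists_ne_zero_of_sum_ne_zero hne
    rw [classInner_smul_left] at hβ
    have h0 : c β ≠ 0 := fun h0 => hβ (by rw [h0, Nat.cast_zero, zero_mul])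
    refine ⟨β, ⟨β.2, by rw [hc]; exact_mod_cast h0⟩, ?_⟩
    exact irr_eq_of_inner_ne_zero (h1 β h0) hψ (right_ne_zero_of_mul hβ)

variable {N : Subgroup G} [hN : N.Normal]

/-- Isaacs 6.16: `β ↦ β χ` from the constituents of `φ^G` to those of `(φ χ_N)^G`. -/
theorem gallagher_bijOn_general {φ ϑ : N → ℂ} (hφ : IsIrrCharacter N φ) (hφinv : InvChar N φ)
    (hprod : IsIrrCharacter N (φ * ϑ)) {χ : G → ℂ} (hχ : IsCharacter G χ) (hext : ∀ n : N, χ n = ϑ n) :
    Set.BijOn (fun β : G → ℂ => β * χ)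
      {β | IsIrrCharacter G β ∧ classInner (indFun N φ) β ≠ 0}
      {ψ | IsIrrCharacter G ψ ∧ classInner (indFun N (φ * ϑ)) ψ ≠ 0} ∧
    ∀ β, IsIrrCharacter G β → classInner (indFun N φ) β ≠ 0 →
      classInner (indFun N (φ * ϑ)) (β * χ) = classInner (indFun N φ) β := by
  have hϑ : ϑ = fun n : N => χ n := (funext hext).symm
  have h1 : indFun N (φ * ϑ) = indFun N φ * χ := by
    rw [hϑ, indFun_mul_res N φ (char_isClassFunction hχ)]
  have hχ0 : χ ≠ 0 := by
    rintro rfl
    exact irr_apply_one_ne_zero hprod (by rw [hϑ]; simp)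
  have hinv : InvChar N (φ * ϑ) := hφinv.mul (hϑ ▸ invChar_res (char_isClassFunction hχ))
  rw [h1]
  refine bijOn_mul_of_inner_eq (char_indFun_aux N (irr_isCharacter hφ)) hχ hχ0 ?_
  rw [← h1, hinv.classInner_indFun_self hprod, hφinv.classInner_indFun_self hφ]

/-- **Gallagher's theorem**: if `χ_N` is irreducible, `β ↦ β χ` is a bijection from the irreducible characters of
`G` with `N` in their kernel onto the irreducible characters of `G` lying over `χ_N`. -/
theorem gallagher_bijOn [Fintype N] {χ : G → ℂ} (hχ : IsCharacter G χ)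
    (hχN : IsIrrCharacter N (fun n : N => χ n)) :
    Set.BijOn (fun β : G → ℂ => β * χ)
      {β | IsIrrCharacter G β ∧ ∀ n ∈ N, β n = β 1}
      {ψ | IsIrrCharacter G ψ ∧ classInner (fun n : N => ψ n) (fun n : N => χ n) ≠ 0} := by
  have h0 : ((fun _ : N => (1 : ℂ)) * fun n : N => χ n) = fun n : N => χ n := by ext; simp
  have h := (gallagher_bijOn_general (φ := fun _ => 1) (ϑ := fun n : N => χ n) irr_one
    (invChar_const 1) (h0.symm ▸ hχN) hχ (fun _ => rfl)).1
  rw [h0] at h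
  convert h using 1
  · ext β
    exact and_congr_right fun hβ => (inner_indFun_one_ne_zero_iff hβ).symm
  · ext ψ
    refine and_congr_right fun hψ => ?_
    rw [classInner_indFun_left N _ (irr_isClassFunction hψ), Ne, Ne, classInner_eq_zero_comm]

theorem gallagher_irr {χ : G → ℂ} (hχ : IsCharacter G χ) (hχN : IsIrrCharacter N (fun n : N => χ n))
    {β : G → ℂ} (hβ : IsIrrCharacter G β) (hβN : ∀ n ∈ N, β n = β 1) :
    IsIrrCharacter G (β * χ) := by
  classical
  exact ((gallagher_bijOn hχ hχN).mapsTo ⟨hβ, hβN⟩).1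

theorem gallagher_inj {χ : G → ℂ} (hχ : IsCharacter G χ) (hχN : IsIrrCharacter N (fun n : N => χ n))
    {β γ : G → ℂ} (hβ : IsIrrCharacter G β) (hβN : ∀ n ∈ N, β n = β 1)
    (hγ : IsIrrCharacter G γ) (hγN : ∀ n ∈ N, γ n = γ 1) (h : β * χ = γ * χ) : β = γ := by
  classical
  exact (gallagher_bijOn hχ hχN).injOn ⟨hβ, hβN⟩ ⟨hγ, hγN⟩ h

theorem gallagher_exists [Fintype N] {χ : G → ℂ} (hχ : IsCharacter G χ)
    (hχN : IsIrrCharacter N (fun n : N => χ n)) {ψ : G → ℂ} (hψ : IsIrrCharacter G ψ)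
    (h : classInner (fun n : N => ψ n) (fun n : N => χ n) ≠ 0) :
    ∃ β, IsIrrCharacter G β ∧ (∀ n ∈ N, β n = β 1) ∧ ψ = β * χ := by
  obtain ⟨β, ⟨h1, h2⟩, h3⟩ := (gallagher_bijOn hχ hχN).surjOn ⟨hψ, h⟩
  exact ⟨β, h1, h2, h3.symm⟩

/-- two extensions of the same irreducible character of `N` differ by a linear character of `G / N` -/
theorem exists_linear_of_res_eq {χ ψ : G → ℂ} (hχ : IsCharacter G χ)
    (hχN : IsIrrCharacter N (fun n : N => χ n)) (hψ : IsCharacter G ψ) (h : ∀ n : N, ψ n = χ n) :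
    ∃ lam : G →* ℂˣ, N ≤ lam.ker ∧ ψ = (fun g => (lam g : ℂ)) * χ := by
  classical
  have h1 : (fun n : N => ψ n) = fun n : N => χ n := funext h
  obtain ⟨β, hβ, hβN, rfl⟩ := gallagher_exists hχ hχN (irr_of_res_irr hψ N (h1 ▸ hχN))
    (by rw [h1, irr_inner_self hχN]; exact one_ne_zero)
  have h2 : β 1 = 1 := by
    have h3 := h 1
    have h4 : χ 1 ≠ 0 := by simpa using irr_apply_one_ne_zero hχN
    simp only [Pi.mul_apply, OneMemClass.coe_one] at h3
    exact mul_right_cancel₀ h4 (by rw [h3, one_mul])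
  obtain ⟨lam, rfl⟩ := char_exists_unitsHom (irr_isCharacter hβ) h2
  refine ⟨lam, fun n hn => ?_, rfl⟩
  have := hβN n hn
  simp only [map_one, Units.val_one] at this
  exact Units.ext this

/-- The inner product of `β χ` and `γ χ` for `β`, `γ` irreducible with `N` in the kernel. -/
theorem gallagher_inner {χ : G → ℂ} (hχ : IsCharacter G χ) (hχN : IsIrrCharacter N (fun n : N => χ n))
    {β γ : G → ℂ} (hβ : IsIrrCharacter G β) (hβN : ∀ n ∈ N, β n = β 1)
    (hγ : IsIrrCharacter G γ) (hγN : ∀ n ∈ N, γ n = γ 1) :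
    classInner (β * χ) (γ * χ) = classInner β γ := by
  by_cases h : β = γ
  · subst h
    rw [irr_inner_self hβ, irr_inner_self (gallagher_irr hχ hχN hβ hβN)]
  · rw [irr_inner_of_ne hβ hγ h, irr_inner_of_ne (gallagher_irr hχ hχN hβ hβN)
      (gallagher_irr hχ hχN hγ hγN) fun hh => h (gallagher_inj hχ hχN hβ hβN hγ hγN hh)]

section Average

variable [Fintype N]

/-- the average of `f` over the cosets of `N` -/
noncomputable def cosetAvg (N : Subgroup G) [Fintype N] (f : G → ℂ) : G → ℂ :=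
  fun g => (Nat.card N : ℂ)⁻¹ * ∑ n : N, f (n * g)

omit [Fintype G] in
theorem cosetAvg_isClassFunction {f : G → ℂ} (hf : IsClassFunction G f) :
    IsClassFunction G (cosetAvg N f) := by
  intro g h
  simp only [cosetAvg]
  congr 1
  refine Fintype.sum_equiv (MulAut.conjNormal h).symm.toEquiv _ _ fun n => ?_
  rw [← hf (_ * g) h]
  simp [mul_assoc]

omit hN in
theorem classInner_cosetAvg_left (f β : G → ℂ) :
    classInner (cosetAvg N f) β = classInner f (cosetAvg N β) := by
  simp only [classInner_def, cosetAvg, map_mul, map_sum, map_inv₀, Complex.conj_natCast]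
  congr 1
  simp only [Finset.mul_sum, Finset.sum_mul]
  rw [Finset.sum_comm, Finset.sum_comm (s := Finset.univ (α := G))]
  refine Fintype.sum_equiv (Equiv.inv N) _ _ fun n => ?_
  refine Fintype.sum_equiv (Equiv.mulLeft (n : G)) _ _ fun g => ?_
  simp only [Equiv.coe_mulLeft, Equiv.inv_apply, InvMemClass.coe_inv, inv_mul_cancel_left]
  ring

theorem cosetAvg_irr_of_forall_eq {β : G → ℂ} (hβ : IsIrrCharacter G β) (h : ∀ n ∈ N, β n = β 1) :
    cosetAvg N β = β := by
  ext g
  rw [cosetAvg, irr_sum_coset hβ, inner_res_one_of_forall_eq h]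
  have := natCard_cast_ne_zero N
  have := irr_apply_one_ne_zero hβ
  field_simp

theorem cosetAvg_irr_of_not_forall_eq {β : G → ℂ} (hβ : IsIrrCharacter G β)
    (h : ¬ ∀ n ∈ N, β n = β 1) : cosetAvg N β = 0 := by
  ext g
  have h1 : classInner (fun n : N => β n) (fun _ => 1) = 0 := by
    by_contra hh
    exact h fun n hn => irr_apply_eq_of_inner_res_one_ne_zero hβ hh hn
  rw [cosetAvg, irr_sum_coset hβ, h1]
  simp

omit hN [Fintype G] in
theorem cosetAvg_of_forall_mul {f : G → ℂ} (h : ∀ n ∈ N, ∀ g, f (n * g) = f g) :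
    cosetAvg N f = f := by
  ext g
  have := natCard_cast_ne_zero N
  simp only [cosetAvg, h _ (Subtype.prop _), Finset.sum_const, Finset.card_univ, nsmul_eq_mul,
    ← Nat.card_eq_fintype_card]
  field_simp

/-- a class function that is constant on the cosets of `N` only involves characters with `N` in their kernel -/
theorem forall_eq_of_inner_ne_zero_of_forall_mul {f : G → ℂ} (h : ∀ n ∈ N, ∀ g, f (n * g) = f g)
    {β : G → ℂ} (hβ : IsIrrCharacter G β) (hne : classInner f β ≠ 0) : ∀ n ∈ N, β n = β 1 := by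
  by_contra hh
  rw [← cosetAvg_of_forall_mul h, classInner_cosetAvg_left, cosetAvg_irr_of_not_forall_eq hβ hh,
    classInner_zero_right] at hne
  exact hne rfl

/-- Isaacs 8.14. -/
theorem cosetAvg_mul_conj {χ : G → ℂ} (hχ : IsCharacter G χ)
    (hχN : IsIrrCharacter N (fun n : N => χ n)) {β : G → ℂ} (hβ : IsIrrCharacter G β)
    (hβN : ∀ n ∈ N, β n = β 1) : cosetAvg N (fun g => (β * χ) g * conj (χ g)) = β := by
  have hcl : IsClassFunction G (fun g => (β * χ) g * conj (χ g)) :=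
    classFun_mul (classFun_mul (irr_isClassFunction hβ) (char_isClassFunction hχ))
      (classFun_conj (char_isClassFunction hχ))
  refine classFun_ext (cosetAvg_isClassFunction hcl) (irr_isClassFunction hβ) fun γ hγ => ?_
  rw [classInner_cosetAvg_left]
  by_cases h : ∀ n ∈ N, γ n = γ 1
  · rw [cosetAvg_irr_of_forall_eq hγ h, ← classInner_mul_right, mul_comm χ γ,
      gallagher_inner hχ hχN hβ hβN hγ h]
  · rw [cosetAvg_irr_of_not_forall_eq hγ h, classInner_zero_right, irr_inner_of_ne hβ hγ]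
    rintro rfl
    exact h hβN

theorem cosetAvg_mul_conj_eq_zero {χ : G → ℂ} (hχ : IsCharacter G χ)
    (hχN : IsIrrCharacter N (fun n : N => χ n)) {ψ : G → ℂ} (hψ : IsIrrCharacter G ψ)
    (h0 : classInner (fun n : N => ψ n) (fun n : N => χ n) = 0) :
    cosetAvg N (fun g => ψ g * conj (χ g)) = 0 := by
  have hcl : IsClassFunction G (fun g => ψ g * conj (χ g)) :=
    classFun_mul (irr_isClassFunction hψ) (classFun_conj (char_isClassFunction hχ))
  refine classFun_eq_zero_of_inner (cosetAvg_isClassFunction hcl) fun γ hγ => ?_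
  rw [classInner_cosetAvg_left]
  by_cases h : ∀ n ∈ N, γ n = γ 1
  · rw [cosetAvg_irr_of_forall_eq hγ h, ← classInner_mul_right, mul_comm χ γ]
    refine irr_inner_of_ne hψ (gallagher_irr hχ hχN hγ h) ?_
    rintro rfl
    exact ((gallagher_bijOn hχ hχN).mapsTo ⟨hγ, h⟩).2 h0
  · rw [cosetAvg_irr_of_not_forall_eq hγ h, classInner_zero_right]

/-- If `χ_N` is irreducible then `∑_{n ∈ N} |χ (n g)|² = |N|` for every `g`. -/
theorem sum_coset_norm_sq {χ : G → ℂ} (hχ : IsCharacter G χ)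
    (hχN : IsIrrCharacter N (fun n : N => χ n)) (g : G) :
    ∑ n : N, ‖χ (n * g)‖ ^ 2 = (Nat.card N : ℝ) := by
  have h := congrFun (cosetAvg_mul_conj hχ hχN irr_one (fun _ _ => rfl)) g
  simp only [cosetAvg, Pi.mul_apply, one_mul, Complex.mul_conj, Complex.normSq_eq_norm_sq] at h
  rw [inv_mul_eq_one₀ (natCard_cast_ne_zero N)] at h
  exact_mod_cast h.symm

end Average

/-- If `χ_N` is irreducible then `χ` does not vanish identically on any coset of `N`. -/
theorem exists_coset_ne_zero {χ : G → ℂ} (hχ : IsCharacter G χ)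
    (hχN : IsIrrCharacter N (fun n : N => χ n)) (g : G) : ∃ n ∈ N, χ (n * g) ≠ 0 := by
  classical
  by_contra hh
  push Not at hh
  have h := sum_coset_norm_sq hχ hχN g
  simp only [hh _ (Subtype.prop _), norm_zero] at h
  have : (0 : ℝ) < Nat.card N := Nat.cast_pos.2 Nat.card_pos
  simp at h
  simp [← h] at this

/-- Cancellation of `χ` (with `χ_N` irreducible) against functions constant on the cosets of `N`. -/
theorem eq_of_mul_eq_mul_of_forall_mul {χ : G → ℂ} (hχ : IsCharacter G χ)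
    (hχN : IsIrrCharacter N (fun n : N => χ n)) {f f' : G → ℂ}
    (hf : ∀ n ∈ N, ∀ g, f (n * g) = f g) (hf' : ∀ n ∈ N, ∀ g, f' (n * g) = f' g)
    (h : f * χ = f' * χ) : f = f' := by
  ext g
  obtain ⟨n, hn, h0⟩ := exists_coset_ne_zero hχ hχN g
  have h1 := congrFun h (n * g)
  simp only [Pi.mul_apply, hf n hn, hf' n hn] at h1
  exact mul_right_cancel₀ h0 h1

end CL.Char
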