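import Cfsg.Agent.Char.Ramified
import Cfsg.Agent.Char.Chief
import Cfsg.Agent.Char.Clifford
import Cfsg.Agent.Char.Values

/-!
# The going-down theorem (Isaacs 6.18)
-/

set_option autoImplicit false

open Cfsg
open scoped ComplexConjugate

namespace CL.Char

/-- An irreducible character whose kernel contains the commutator subgroup is linear. -/
theorem irr_apply_one_eq_one_of_commutator {G : Type*} [Group G] [Finite G] {β : G → ℂ}
    (hβ : IsIrrCharacter G β) (h : ∀ x ∈ commutator G, β x = β 1) : β 1 = 1 := by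
  have := Fintype.ofFinite G
  have h1 : ∀ z, ‖β z‖ = ‖β 1‖ := fun z =>
    (char_mem_charCenter_iff (irr_isCharacter hβ)).1 ((irr_mem_charCenter_iff_commutator hβ).2
      fun g => (char_mem_charKer_iff (irr_isCharacter hβ)).2
        (h _ (Subgroup.commutator_mem_commutator (Subgroup.mem_top z) (Subgroup.mem_top g))))
  have h2 := irr_sum_norm_sq hβ
  obtain ⟨n, hn, hn1⟩ := irr_apply_one hβ
  simp only [h1, hn1, Complex.norm_natCast, Finset.sum_const, Finset.card_univ, nsmul_eq_mul,
    ← Nat.card_eq_fintype_card] at h2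
  have h3 : (0 : ℝ) < Nat.card G := Nat.cast_pos.2 Nat.card_pos
  have h4 : (n : ℝ) ^ 2 = 1 := by
    field_simp at h2
    exact h2
  have h5 : n ^ 2 = 1 := by exact_mod_cast h4
  rw [hn1, (Nat.pow_eq_one.1 h5).resolve_right two_ne_zero, Nat.cast_one]

/-- If `K / L` is abelian and no nontrivial linear character `λ` of `K / L` has `λ θ = θ`, then `θ_L` has norm `1`. -/
theorem irr_res_of_forall_linear {K : Type*} [Group K] [Fintype K] (L : Subgroup K) [L.Normal]
    (hab : commutator K ≤ L) {θ : K → ℂ} (hθ : IsIrrCharacter K θ)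
    (h : ∀ lam : K →* ℂˣ, L ≤ lam.ker → (∀ x, θ x ≠ 0 → lam x = 1) → lam = 1) :
    IsIrrCharacter L (fun x : L => θ x) := by
  classical
  refine irr_of_char_norm_one (char_restrict (irr_isCharacter hθ) L) ?_
  rw [← classInner_indFun_left L _ (irr_isClassFunction hθ), indFun_res L (irr_isClassFunction hθ),
    classFun_eq_sum (indFun_isClassFunction L (fun _ => 1)), Finset.sum_mul, classInner_sum_left,
    Finset.sum_eq_single (irrOne K)]
  · have h1 : ((irrOne K : IrrCharacter K) : K → ℂ) = fun _ => 1 := rfl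
    rw [smul_mul_assoc, classInner_smul_left, h1,
      classInner_indFun_left L _ (isClassFunction_const 1), classInner_one_one,
      show ((fun _ => 1) * θ : K → ℂ) = θ from one_mul θ, irr_inner_self hθ, one_mul]
  · intro β _ hβ
    rw [smul_mul_assoc, classInner_smul_left]
    by_cases h0 : classInner (indFun L fun _ => 1) (β : K → ℂ) = 0
    · rw [h0, zero_mul]
    have h1 := (inner_indFun_one_ne_zero_iff β.2).1 h0
    have h2 := irr_apply_one_eq_one_of_commutator β.2 fun x hx => h1 x (hab hx)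
    obtain ⟨lam, hlam⟩ := char_exists_unitsHom (irr_isCharacter β.2) h2
    rw [irr_inner_of_ne (irr_mul_of_apply_one (irr_isCharacter β.2) h2 hθ) hθ, mul_zero]
    intro hh
    refine hβ (Subtype.ext ?_)
    rw [hlam, h lam (fun x hx => ?_) (fun x hx => ?_)]
    · rfl
    · have := h1 x hx
      rw [h2, hlam] at this
      exact Units.ext this
    · have := congrFun hh x
      rw [hlam] at this
      exact Units.ext (mul_right_cancel₀ hx (by simpa using this))
  · simp

/-- Going down, in a form with a set `A` of automorphisms of `K` acting irreducibly on the abelian group `K / L`. -/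
theorem going_down_aut {K : Type*} [Group K] [Fintype K] (L : Subgroup K) [hL : L.Normal]
    (hab : commutator K ≤ L) (A : Set (K ≃* K)) (hAL : ∀ α ∈ A, ∀ x, α x ∈ L ↔ x ∈ L)
    (hchief : ∀ M : Subgroup K, L ≤ M → (∀ α ∈ A, ∀ x ∈ M, α x ∈ M) → M = L ∨ M = ⊤)
    {θ : K → ℂ} (hθ : IsIrrCharacter K θ) (hinv : ∀ α ∈ A, ∀ x, θ (α x) = θ x) :
    IsIrrCharacter L (fun x : L => θ x) ∨
      (∃ (φ : L → ℂ) (e : ℕ), IsIrrCharacter L φ ∧ (fun x : L => θ x) = (e : ℂ) • φ ∧
        e ^ 2 = L.index) ∨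
      (∃ F : Finset (L → ℂ), (∀ φ ∈ F, IsIrrCharacter L φ) ∧ F.card = L.index ∧
        (fun x : L => θ x) = ∑ φ ∈ F, φ) := by
  classical
  obtain ⟨φ, hφ, hcon⟩ := exists_irr_under L hθ
  have hLI : L ≤ inertia L φ := le_inertia L (irr_isClassFunction hφ)
  have hIn : (inertia L φ).Normal := Subgroup.Normal.of_commutator_le _ (hab.trans hLI)
  have hI : ∀ α ∈ A, ∀ x ∈ inertia L φ, α x ∈ inertia L φ := by
    intro α hα x hx
    let αL : L ≃* L :=
      { toFun := fun l => ⟨α l, (hAL α hα l).2 l.2⟩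
        invFun := fun l => ⟨α.symm l, (hAL α hα _).1 (by simp)⟩
        left_inv := fun l => by simp
        right_inv := fun l => by simp
        map_mul' := fun a b => by simp }
    have h1 : classInner (fun l : L => θ l) (fun l => φ (αL l)) ≠ 0 := by
      have h2 := classInner_comp_mulEquiv αL (fun l : L => θ l) φ
      have h3 : (fun l : L => θ (αL l)) = fun l : L => θ l := funext fun l => hinv α hα l
      rw [← h3, h2]
      exact hcon
    obtain ⟨k, hk⟩ := (mem_conjOrbit L).1
      (mem_conjOrbit_of_constituents L hθ hφ (irr_comp_mulEquiv hφ αL) hcon h1)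
    have h4 : x ∈ inertia L (fun l => φ (αL l)) := by
      rw [hk, mem_inertia_conjChar]
      exact hIn.conj_mem x hx k
    rw [mem_inertia] at h4 ⊢
    intro l
    obtain ⟨m, rfl⟩ := αL.surjective l
    rw [← h4 m]
    congr 1
    ext
    simp [αL]
  rcases hchief _ hLI hI with h1 | h1
  · right; right
    have h2 := irr_indFun_of_inertia_le L hφ h1.le
    have h3 := eq_indFun_of_inner_ne_zero L hθ h2 hcon
    refine ⟨conjOrbit L φ, fun ψ hψ => irr_of_mem_conjOrbit L hφ hψ, by rw [card_conjOrbit, h1], ?_⟩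
    rw [clifford L hθ hφ hcon, ← classInner_indFun_right L φ (irr_isClassFunction hθ), ← h3,
      irr_inner_self hθ, one_smul]
  · have hφinv : InvChar L φ := fun g => (mem_inertia L).1 (h1 ▸ Subgroup.mem_top g)
    obtain ⟨e, -, -, he⟩ := hφinv.exists_res_eq_smul hφ hθ hcon
    let V : Subgroup K := Subgroup.closure ((L : Set K) ∪ {x | θ x ≠ 0})
    have hLV : L ≤ V := fun x hx => Subgroup.subset_closure (Or.inl hx)
    have hV : ∀ α ∈ A, ∀ x ∈ V, α x ∈ V := by
      intro α hα
      have : V ≤ V.comap α.toMonoidHom := by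
        refine (Subgroup.closure_le _).2 ?_
        rintro x (hx | hx)
        · exact hLV ((hAL α hα x).2 hx)
        · refine Subgroup.subset_closure (Or.inr ?_)
          change θ (α x) ≠ 0
          rwa [hinv α hα]
      exact fun x hx => this hx
    rcases hchief V hLV hV with h2 | h2
    · right; left
      refine ⟨φ, e, hφ, he, sq_eq_index_of_vanish hθ hφ he fun g hg => ?_⟩
      by_contra hh
      exact hg (h2 ▸ Subgroup.subset_closure (Or.inr hh))
    · left
      refine irr_res_of_forall_linear L hab hθ fun lam h3 h4 => ?_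
      have : V ≤ lam.ker := (Subgroup.closure_le _).2 (by
        rintro x (hx | hx)
        · exact h3 hx
        · exact h4 x hx)
      rw [h2] at this
      ext x
      rw [(MonoidHom.mem_ker).1 (this (Subgroup.mem_top x))]
      rfl

section Transport

variable {G : Type*} [Group G]

/-- transport a function on `L.subgroupOf K` to `L` -/
def ofSubgroupOf {L K : Subgroup G} (h : L ≤ K) (f : L.subgroupOf K → ℂ) : L → ℂ :=
  fun x => f ⟨⟨x, h x.2⟩, Subgroup.mem_subgroupOf.2 x.2⟩

/-- transport a function on `L` to `L.subgroupOf K` -/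
def toSubgroupOf (L K : Subgroup G) (f : L → ℂ) : L.subgroupOf K → ℂ :=
  fun x => f ⟨(x : K), Subgroup.mem_subgroupOf.1 x.2⟩

theorem ofSubgroupOf_eq {L K : Subgroup G} (h : L ≤ K) (f : L.subgroupOf K → ℂ) :
    ofSubgroupOf h f = fun x => f ((Subgroup.subgroupOfEquivOfLe h).symm x) := rfl

theorem toSubgroupOf_eq {L K : Subgroup G} (h : L ≤ K) (f : L → ℂ) :
    toSubgroupOf L K f = fun x => f (Subgroup.subgroupOfEquivOfLe h x) := rfl

theorem ofSubgroupOf_toSubgroupOf {L K : Subgroup G} (h : L ≤ K) (f : L → ℂ) :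
    ofSubgroupOf h (toSubgroupOf L K f) = f := rfl

theorem toSubgroupOf_ofSubgroupOf {L K : Subgroup G} (h : L ≤ K) (f : L.subgroupOf K → ℂ) :
    toSubgroupOf L K (ofSubgroupOf h f) = f := rfl

theorem ofSubgroupOf_injective {L K : Subgroup G} (h : L ≤ K) :
    Function.Injective (ofSubgroupOf h : (L.subgroupOf K → ℂ) → L → ℂ) := fun f g hfg => by
  rw [← toSubgroupOf_ofSubgroupOf h f, hfg, toSubgroupOf_ofSubgroupOf]

theorem irr_ofSubgroupOf {L K : Subgroup G} (h : L ≤ K) {f : L.subgroupOf K → ℂ}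
    (hf : IsIrrCharacter (L.subgroupOf K) f) : IsIrrCharacter L (ofSubgroupOf h f) :=
  irr_comp_mulEquiv hf (Subgroup.subgroupOfEquivOfLe h).symm

theorem irr_toSubgroupOf {L K : Subgroup G} (h : L ≤ K) {f : L → ℂ}
    (hf : IsIrrCharacter L f) : IsIrrCharacter (L.subgroupOf K) (toSubgroupOf L K f) :=
  irr_comp_mulEquiv hf (Subgroup.subgroupOfEquivOfLe h)

theorem char_ofSubgroupOf {L K : Subgroup G} (h : L ≤ K) {f : L.subgroupOf K → ℂ}
    (hf : IsCharacter (L.subgroupOf K) f) : IsCharacter L (ofSubgroupOf h f) :=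
  char_comp hf (Subgroup.subgroupOfEquivOfLe h).symm.toMonoidHom

theorem char_toSubgroupOf {L K : Subgroup G} (h : L ≤ K) {f : L → ℂ}
    (hf : IsCharacter L f) : IsCharacter (L.subgroupOf K) (toSubgroupOf L K f) :=
  char_comp hf (Subgroup.subgroupOfEquivOfLe h).toMonoidHom

theorem classInner_toSubgroupOf {L K : Subgroup G} (h : L ≤ K) [Fintype L] [Fintype (L.subgroupOf K)]
    (f g : L → ℂ) : classInner (toSubgroupOf L K f) (toSubgroupOf L K g) = classInner f g :=
  classInner_comp_mulEquiv (Subgroup.subgroupOfEquivOfLe h) f g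

theorem classInner_ofSubgroupOf {L K : Subgroup G} (h : L ≤ K) [Fintype L] [Fintype (L.subgroupOf K)]
    (f g : L.subgroupOf K → ℂ) : classInner (ofSubgroupOf h f) (ofSubgroupOf h g) = classInner f g :=
  classInner_comp_mulEquiv (Subgroup.subgroupOfEquivOfLe h).symm f g

theorem commutator_le_subgroupOf {L K : Subgroup G} (hab : ⁅K, K⁆ ≤ L) :
    commutator K ≤ L.subgroupOf K := by
  intro x hx
  rw [Subgroup.mem_subgroupOf]
  apply hab
  rw [← Subgroup.map_subtype_commutator]
  exact Subgroup.mem_map_of_mem _ hx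

end Transport

/-- **Going down** (Isaacs 6.18). -/
theorem going_down {G : Type*} [Group G] [Finite G] {K L : Subgroup G} [hK : K.Normal]
    (hch : IsChief L K) (hab : ⁅K, K⁆ ≤ L) {ϑ : K → ℂ} (hϑ : IsIrrCharacter K ϑ)
    (hinv : InvChar K ϑ) :
    IsIrrCharacter L (fun x : L => ϑ ⟨(x : G), hch.le x.2⟩) ∨
      (∃ (φ : L → ℂ) (e : ℕ), IsIrrCharacter L φ ∧
        (fun x : L => ϑ ⟨(x : G), hch.le x.2⟩) = (e : ℂ) • φ ∧ e ^ 2 = L.relIndex K) ∨
      (∃ F : Finset (L → ℂ), (∀ φ ∈ F, IsIrrCharacter L φ) ∧ F.card = L.relIndex K ∧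
        (fun x : L => ϑ ⟨(x : G), hch.le x.2⟩) = ∑ φ ∈ F, φ) := by
  classical
  have := Fintype.ofFinite K
  have hL := hch.normal_left
  have h := going_down_aut (L.subgroupOf K) (commutator_le_subgroupOf hab)
    (Set.range fun g : G => (MulAut.conjNormal g : K ≃* K)) ?_ ?_ hϑ ?_
  · have h0 : (fun x : L => ϑ ⟨(x : G), hch.le x.2⟩) =
        ofSubgroupOf hch.le (fun x : L.subgroupOf K => ϑ x) := rfl
    rcases h with h | ⟨φ, e, h1, h2, h3⟩ | ⟨F, h1, h2, h3⟩
    · exact Or.inl (irr_ofSubgroupOf hch.le h)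
    · exact Or.inr (Or.inl ⟨ofSubgroupOf hch.le φ, e, irr_ofSubgroupOf hch.le h1,
        by rw [h0, h2]; rfl, h3⟩)
    · refine Or.inr (Or.inr ⟨F.map ⟨_, ofSubgroupOf_injective hch.le⟩, ?_,
        by rw [Finset.card_map, h2]; rfl, ?_⟩)
      · intro φ hφ
        obtain ⟨ψ, hψ, rfl⟩ := Finset.mem_map.1 hφ
        exact irr_ofSubgroupOf hch.le (h1 ψ hψ)
      · rw [h0, h3, Finset.sum_map]
        ext x
        simp [ofSubgroupOf, Finset.sum_apply]
  · rintro _ ⟨g, rfl⟩ x
    simp only [Subgroup.mem_subgroupOf, MulAut.conjNormal_apply]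
    exact ⟨fun h => by simpa [mul_assoc] using hL.conj_mem _ h g⁻¹, fun h => hL.conj_mem _ h g⟩
  · intro M hLM hM
    have hMn : (M.map K.subtype).Normal := ⟨by
      rintro _ ⟨x, hx, rfl⟩ g
      exact ⟨_, hM _ ⟨g, rfl⟩ x hx, by simp⟩⟩
    rcases hch.eq_or_eq _ hMn (fun x hx => ⟨⟨x, hch.le hx⟩, hLM hx, rfl⟩)
      (Subgroup.map_subtype_le M) with h1 | h1
    · left
      rw [← h1, Subgroup.subgroupOf, Subgroup.comap_map_eq_self_of_injective K.subtype_injective]
    · right
      rw [eq_top_iff]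
      intro x _
      have : (x : G) ∈ M.map K.subtype := by rw [h1]; exact x.2
      obtain ⟨y, hy, hyx⟩ := this
      rwa [← Subtype.ext hyx]
  · rintro _ ⟨g, rfl⟩ x
    exact hinv g x

end CL.Char
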