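import Cfsg.Agent.Base

/-!
# Algebra of `classInner` and closure properties of class functions
-/

set_option autoImplicit false

open Cfsg
open scoped ComplexConjugate

namespace CL.Char

section ClassFunction

variable {G : Type*} [Group G]

theorem isClassFunction_const (c : ℂ) : IsClassFunction G (fun _ => c) := fun _ _ => rfl

theorem isClassFunction_zero : IsClassFunction G 0 := fun _ _ => rfl

theorem isClassFunction_one : IsClassFunction G 1 := fun _ _ => rfl

theorem classFun_add {φ ψ : G → ℂ} (hφ : IsClassFunction G φ) (hψ : IsClassFunction G ψ) :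
    IsClassFunction G (φ + ψ) := fun g h => by simp [hφ g h, hψ g h]

theorem classFun_sub {φ ψ : G → ℂ} (hφ : IsClassFunction G φ) (hψ : IsClassFunction G ψ) :
    IsClassFunction G (φ - ψ) := fun g h => by simp [hφ g h, hψ g h]

theorem classFun_neg {φ : G → ℂ} (hφ : IsClassFunction G φ) :
    IsClassFunction G (-φ) := fun g h => by simp [hφ g h]

theorem classFun_mul {φ ψ : G → ℂ} (hφ : IsClassFunction G φ) (hψ : IsClassFunction G ψ) :
    IsClassFunction G (φ * ψ) := fun g h => by simp [hφ g h, hψ g h]

theorem classFun_smul (c : ℂ) {φ : G → ℂ} (hφ : IsClassFunction G φ) :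
    IsClassFunction G (c • φ) := fun g h => by simp [hφ g h]

theorem classFun_zsmul (c : ℤ) {φ : G → ℂ} (hφ : IsClassFunction G φ) :
    IsClassFunction G (c • φ) := fun g h => by simp [hφ g h]

theorem classFun_nsmul (c : ℕ) {φ : G → ℂ} (hφ : IsClassFunction G φ) :
    IsClassFunction G (c • φ) := fun g h => by simp [hφ g h]

theorem classFun_pow {φ : G → ℂ} (hφ : IsClassFunction G φ) (n : ℕ) :
    IsClassFunction G (φ ^ n) := fun g h => by simp [hφ g h]

theorem classFun_sum {ι : Type*} (s : Finset ι) {φ : ι → G → ℂ}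
    (hφ : ∀ i ∈ s, IsClassFunction G (φ i)) : IsClassFunction G (∑ i ∈ s, φ i) := fun g h => by
  simp only [Finset.sum_apply]
  exact Finset.sum_congr rfl fun i hi => hφ i hi g h

/-- any function of the value of a class function is a class function -/
theorem classFun_map {φ : G → ℂ} (hφ : IsClassFunction G φ) (f : ℂ → ℂ) :
    IsClassFunction G (fun g => f (φ g)) := fun g h => by simp only [hφ g h]

theorem classFun_conj {φ : G → ℂ} (hφ : IsClassFunction G φ) :
    IsClassFunction G (fun g => conj (φ g)) := classFun_map hφ _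

theorem classFun_comp {H : Type*} [Group H] {φ : G → ℂ} (hφ : IsClassFunction G φ) (f : H →* G) :
    IsClassFunction H (fun h => φ (f h)) := fun g h => by
  simp only [map_mul, map_inv]; exact hφ _ _

theorem classFun_restrict {φ : G → ℂ} (hφ : IsClassFunction G φ) (H : Subgroup G) :
    IsClassFunction H (fun h : H => φ h) := classFun_comp hφ H.subtype

theorem classFun_inv {φ : G → ℂ} (hφ : IsClassFunction G φ) :
    IsClassFunction G (fun g => φ g⁻¹) := fun g h => by
  have := hφ g⁻¹ h
  simp only [mul_inv_rev, inv_inv, ← mul_assoc] at this ⊢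
  exact this

theorem classFun_zpow {φ : G → ℂ} (hφ : IsClassFunction G φ) (k : ℤ) :
    IsClassFunction G (fun g => φ (g ^ k)) := fun g h => by
  simp only [conj_zpow]; exact hφ _ _

theorem classFun_npow {φ : G → ℂ} (hφ : IsClassFunction G φ) (k : ℕ) :
    IsClassFunction G (fun g => φ (g ^ k)) := fun g h => by
  simp only [conj_pow]; exact hφ _ _

theorem classFun_conj_inv {φ : G → ℂ} (hφ : IsClassFunction G φ) (g h : G) :
    φ (h⁻¹ * g * h) = φ g := by
  simpa using hφ g h⁻¹

theorem classFun_mul_comm {φ : G → ℂ} (hφ : IsClassFunction G φ) (g h : G) :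
    φ (g * h) = φ (h * g) := by
  rw [← hφ (g * h) h]; simp [mul_assoc]

theorem classFun_eq_of_isConj {φ : G → ℂ} (hφ : IsClassFunction G φ) {g h : G} (hc : IsConj g h) :
    φ g = φ h := by
  obtain ⟨c, rfl⟩ := isConj_iff.mp hc
  exact (hφ g c).symm

theorem isClassFunction_iff_isConj {φ : G → ℂ} :
    IsClassFunction G φ ↔ ∀ g h : G, IsConj g h → φ g = φ h :=
  ⟨fun hφ _ _ hc => classFun_eq_of_isConj hφ hc,
   fun H g h => (H g _ (isConj_iff.mpr ⟨h, rfl⟩)).symm⟩

/-- a function pulled back from the set of conjugacy classes is a class function -/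
theorem isClassFunction_conjClasses (f : ConjClasses G → ℂ) :
    IsClassFunction G (fun g => f (ConjClasses.mk g)) :=
  isClassFunction_iff_isConj.mpr fun _ _ hc => by rw [ConjClasses.mk_eq_mk_iff_isConj.mpr hc]

theorem isClassFunction_monoidHom (f : G →* ℂ) : IsClassFunction G f := fun g h => by
  rw [map_mul, map_mul, mul_right_comm, ← map_mul, mul_inv_cancel, map_one, one_mul]

theorem isClassFunction_unitsHom (f : G →* ℂˣ) : IsClassFunction G (fun g => (f g : ℂ)) :=
  isClassFunction_monoidHom ((Units.coeHom ℂ).comp f)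

theorem isClassFunction_of_comm (hG : ∀ a b : G, a * b = b * a) (φ : G → ℂ) :
    IsClassFunction G φ := fun g h => by rw [hG h g, mul_inv_cancel_right]

end ClassFunction

section Inner

variable {G : Type*} [Group G] [Fintype G]

theorem card_ne_zero : (Nat.card G : ℂ) ≠ 0 := Nat.cast_ne_zero.mpr Nat.card_pos.ne'

theorem classInner_def (φ ψ : G → ℂ) :
    classInner φ ψ = (Nat.card G : ℂ)⁻¹ * ∑ g : G, φ g * conj (ψ g) := rfl

theorem card_mul_classInner (φ ψ : G → ℂ) :
    (Nat.card G : ℂ) * classInner φ ψ = ∑ g : G, φ g * conj (ψ g) := by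
  rw [classInner_def, ← mul_assoc, mul_inv_cancel₀ card_ne_zero, one_mul]

omit [Fintype G] in
/-- `classInner` does not depend on the `Fintype` instance. -/
theorem classInner_congr_fintype (i j : Fintype G) (φ ψ : G → ℂ) :
    @classInner G _ i φ ψ = @classInner G _ j φ ψ := by
  rw [Subsingleton.elim i j]

theorem classInner_add_left (φ φ' ψ : G → ℂ) :
    classInner (φ + φ') ψ = classInner φ ψ + classInner φ' ψ := by
  simp [classInner_def, add_mul, Finset.sum_add_distrib, mul_add]

theorem classInner_add_right (φ ψ ψ' : G → ℂ) :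
    classInner φ (ψ + ψ') = classInner φ ψ + classInner φ ψ' := by
  simp [classInner_def, Finset.sum_add_distrib, mul_add]

theorem classInner_neg_left (φ ψ : G → ℂ) : classInner (-φ) ψ = -classInner φ ψ := by
  simp [classInner_def]

theorem classInner_neg_right (φ ψ : G → ℂ) : classInner φ (-ψ) = -classInner φ ψ := by
  simp [classInner_def]

theorem classInner_sub_left (φ φ' ψ : G → ℂ) :
    classInner (φ - φ') ψ = classInner φ ψ - classInner φ' ψ := by
  rw [sub_eq_add_neg, classInner_add_left, classInner_neg_left, ← sub_eq_add_neg]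

theorem classInner_sub_right (φ ψ ψ' : G → ℂ) :
    classInner φ (ψ - ψ') = classInner φ ψ - classInner φ ψ' := by
  rw [sub_eq_add_neg, classInner_add_right, classInner_neg_right, ← sub_eq_add_neg]

theorem classInner_zero_left (ψ : G → ℂ) : classInner 0 ψ = 0 := by simp [classInner_def]

theorem classInner_zero_right (φ : G → ℂ) : classInner φ 0 = 0 := by simp [classInner_def]

theorem classInner_smul_left (c : ℂ) (φ ψ : G → ℂ) :
    classInner (c • φ) ψ = c * classInner φ ψ := by
  simp only [classInner_def, Pi.smul_apply, smul_eq_mul, mul_assoc, ← Finset.mul_sum]; ring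

theorem classInner_smul_right (c : ℂ) (φ ψ : G → ℂ) :
    classInner φ (c • ψ) = conj c * classInner φ ψ := by
  simp only [classInner_def, Pi.smul_apply, smul_eq_mul, map_mul, Finset.mul_sum]
  exact Finset.sum_congr rfl fun g _ => by ring

theorem classInner_zsmul_left (c : ℤ) (φ ψ : G → ℂ) :
    classInner (c • φ) ψ = c * classInner φ ψ := by
  rw [← Int.cast_smul_eq_zsmul ℂ, classInner_smul_left]

theorem classInner_zsmul_right (c : ℤ) (φ ψ : G → ℂ) :
    classInner φ (c • ψ) = c * classInner φ ψ := by
  rw [← Int.cast_smul_eq_zsmul ℂ, classInner_smul_right, map_intCast]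

theorem classInner_nsmul_left (c : ℕ) (φ ψ : G → ℂ) :
    classInner (c • φ) ψ = c * classInner φ ψ := by
  rw [← Nat.cast_smul_eq_nsmul ℂ, classInner_smul_left]

theorem classInner_nsmul_right (c : ℕ) (φ ψ : G → ℂ) :
    classInner φ (c • ψ) = c * classInner φ ψ := by
  rw [← Nat.cast_smul_eq_nsmul ℂ, classInner_smul_right, map_natCast]

theorem classInner_sum_left {ι : Type*} (s : Finset ι) (φ : ι → G → ℂ) (ψ : G → ℂ) :
    classInner (∑ i ∈ s, φ i) ψ = ∑ i ∈ s, classInner (φ i) ψ := by
  classical
  induction s using Finset.induction_on with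
  | empty => simp [classInner_zero_left]
  | insert a s ha ih => rw [Finset.sum_insert ha, Finset.sum_insert ha, classInner_add_left, ih]

theorem classInner_sum_right {ι : Type*} (s : Finset ι) (φ : G → ℂ) (ψ : ι → G → ℂ) :
    classInner φ (∑ i ∈ s, ψ i) = ∑ i ∈ s, classInner φ (ψ i) := by
  classical
  induction s using Finset.induction_on with
  | empty => simp [classInner_zero_right]
  | insert a s ha ih => rw [Finset.sum_insert ha, Finset.sum_insert ha, classInner_add_right, ih]

theorem conj_classInner (φ ψ : G → ℂ) : conj (classInner φ ψ) = classInner ψ φ := by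
  simp [classInner_def, mul_comm]

theorem classInner_eq_zero_comm {φ ψ : G → ℂ} : classInner φ ψ = 0 ↔ classInner ψ φ = 0 := by
  rw [← conj_classInner, map_eq_zero]

theorem classInner_conj_conj (φ ψ : G → ℂ) :
    classInner (fun g => conj (φ g)) (fun g => conj (ψ g)) = classInner ψ φ := by
  simp [classInner_def, mul_comm]

theorem classInner_mul_left (φ θ ψ : G → ℂ) :
    classInner (φ * θ) ψ = classInner φ (fun g => conj (θ g) * ψ g) := by
  simp [classInner_def, mul_assoc]

theorem classInner_mul_right (φ θ ψ : G → ℂ) :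
    classInner φ (θ * ψ) = classInner (fun g => φ g * conj (θ g)) ψ := by
  simp [classInner_def, mul_assoc]

theorem classInner_one_right (φ : G → ℂ) :
    classInner φ (fun _ => 1) = (Nat.card G : ℂ)⁻¹ * ∑ g : G, φ g := by
  simp [classInner_def]

theorem classInner_one_one : classInner (fun _ : G => (1 : ℂ)) (fun _ => 1) = 1 := by
  rw [classInner_one_right]
  simp [← Nat.card_eq_fintype_card]

theorem classInner_self_eq (φ : G → ℂ) :
    classInner φ φ = (((Nat.card G : ℝ)⁻¹ * ∑ g : G, ‖φ g‖ ^ 2 : ℝ) : ℂ) := by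
  simp [classInner_def, Complex.mul_conj, Complex.normSq_eq_norm_sq]

theorem classInner_self_re (φ : G → ℂ) :
    (classInner φ φ).re = (Nat.card G : ℝ)⁻¹ * ∑ g : G, ‖φ g‖ ^ 2 := by
  rw [classInner_self_eq, Complex.ofReal_re]

theorem classInner_self_im (φ : G → ℂ) : (classInner φ φ).im = 0 := by
  rw [classInner_self_eq, Complex.ofReal_im]

theorem classInner_self_re_nonneg (φ : G → ℂ) : 0 ≤ (classInner φ φ).re := by
  rw [classInner_self_re]; positivity

theorem ofReal_classInner_self_re (φ : G → ℂ) :
    (((classInner φ φ).re : ℝ) : ℂ) = classInner φ φ := by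
  rw [classInner_self_re, classInner_self_eq]

theorem classInner_self_eq_zero {φ : G → ℂ} : classInner φ φ = 0 ↔ φ = 0 := by
  refine ⟨fun h => ?_, fun h => by rw [h, classInner_zero_left]⟩
  rw [classInner_self_eq, Complex.ofReal_eq_zero, mul_eq_zero] at h
  rcases h with h | h
  · exact absurd h (inv_ne_zero (Nat.cast_ne_zero.mpr Nat.card_pos.ne'))
  · rw [Finset.sum_eq_zero_iff_of_nonneg (fun g _ => by positivity)] at h
    funext g
    simpa using h g (Finset.mem_univ g)

theorem classInner_self_re_pos {φ : G → ℂ} (h : φ ≠ 0) : 0 < (classInner φ φ).re := by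
  refine lt_of_le_of_ne (classInner_self_re_nonneg φ) fun h0 => h ?_
  rw [← classInner_self_eq_zero, ← ofReal_classInner_self_re, ← h0, Complex.ofReal_zero]

/-- inner products are invariant under a bijection of the underlying groups -/
theorem classInner_comp_equiv {H : Type*} [Group H] [Fintype H] (e : H ≃ G) (φ ψ : G → ℂ) :
    classInner (fun h => φ (e h)) (fun h => ψ (e h)) = classInner φ ψ := by
  rw [classInner_def, classInner_def, Nat.card_congr e]
  congr 1
  exact Equiv.sum_comp e (fun g => φ g * conj (ψ g))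

theorem classInner_comp_mulEquiv {H : Type*} [Group H] [Fintype H] (e : H ≃* G) (φ ψ : G → ℂ) :
    classInner (fun h => φ (e h)) (fun h => ψ (e h)) = classInner φ ψ :=
  classInner_comp_equiv e.toEquiv φ ψ

theorem classInner_inv_inv (φ ψ : G → ℂ) :
    classInner (fun g => φ g⁻¹) (fun g => ψ g⁻¹) = classInner φ ψ :=
  classInner_comp_equiv (Equiv.inv G) φ ψ

/-- inner products are preserved by inflation along a surjective homomorphism -/
theorem classInner_comp_surjective {H : Type*} [Group H] [Fintype H] (f : H →* G)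
    (hf : Function.Surjective f) (φ ψ : G → ℂ) :
    classInner (fun h => φ (f h)) (fun h => ψ (f h)) = classInner φ ψ := by
  classical
  have hcard : Nat.card H = Nat.card G * Nat.card f.ker := by
    rw [← Subgroup.card_mul_index f.ker, Subgroup.index_ker, MonoidHom.range_eq_top.mpr hf,
      Subgroup.card_top, mul_comm]
  have hfib : ∀ g : G, (Finset.univ.filter (fun h => f h = g)).card = Nat.card f.ker := by
    intro g
    obtain ⟨h, rfl⟩ := hf g
    rw [← Fintype.card_subtype, ← Nat.card_eq_fintype_card]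
    refine Nat.card_congr ⟨fun x => ⟨h⁻¹ * x.1, by simp [MonoidHom.mem_ker, x.2]⟩,
      fun x => ⟨h * x.1, by simp [MonoidHom.mem_ker.mp x.2]⟩, fun x => by simp, fun x => by simp⟩
  have hk : (Nat.card f.ker : ℂ) ≠ 0 := Nat.cast_ne_zero.mpr Nat.card_pos.ne'
  rw [classInner_def, classInner_def, ← Finset.sum_fiberwise Finset.univ f]
  have : ∀ g : G, ∑ h ∈ Finset.univ.filter (fun h => f h = g), φ (f h) * conj (ψ (f h)) =
      (Nat.card f.ker : ℂ) * (φ g * conj (ψ g)) := by
    intro g
    rw [Finset.sum_congr rfl (g := fun _ => φ g * conj (ψ g))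
      (fun h hh => by rw [(Finset.mem_filter.mp hh).2]), Finset.sum_const, hfib, nsmul_eq_mul]
  simp only [this, ← Finset.mul_sum, hcard, Nat.cast_mul, mul_inv]
  field_simp

/-- two functions agreeing where it matters have the same inner product -/
theorem classInner_congr_left {φ φ' ψ : G → ℂ} (h : ∀ g, ψ g ≠ 0 → φ g = φ' g) :
    classInner φ ψ = classInner φ' ψ := by
  rw [classInner_def, classInner_def]
  congr 1
  refine Finset.sum_congr rfl fun g _ => ?_
  by_cases hg : ψ g = 0
  · simp [hg]
  · rw [h g hg]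

theorem classInner_congr_right {φ ψ ψ' : G → ℂ} (h : ∀ g, φ g ≠ 0 → ψ g = ψ' g) :
    classInner φ ψ = classInner φ ψ' := by
  rw [← conj_classInner, classInner_congr_left h, conj_classInner]

/-- `classInner · ψ` as a linear map -/
noncomputable def innerLeft (ψ : G → ℂ) : (G → ℂ) →ₗ[ℂ] ℂ where
  toFun φ := classInner φ ψ
  map_add' φ φ' := classInner_add_left φ φ' ψ
  map_smul' c φ := classInner_smul_left c φ ψ

theorem innerLeft_apply (ψ φ : G → ℂ) : innerLeft ψ φ = classInner φ ψ := rfl

/-- Cauchy-Schwarz -/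
theorem normSq_classInner_le (φ ψ : G → ℂ) :
    ‖classInner φ ψ‖ ^ 2 ≤ (classInner φ φ).re * (classInner ψ ψ).re := by
  rw [classInner_self_re, classInner_self_re, classInner_def, norm_mul, norm_inv,
    Complex.norm_natCast, mul_pow]
  have h1 : ‖∑ g : G, φ g * conj (ψ g)‖ ≤ ∑ g : G, ‖φ g‖ * ‖ψ g‖ :=
    (norm_sum_le _ _).trans (le_of_eq (Finset.sum_congr rfl fun g _ => by simp))
  have h2 := Finset.sum_mul_sq_le_sq_mul_sq Finset.univ (fun g => ‖φ g‖) (fun g => ‖ψ g‖)
  have h3 : ‖∑ g : G, φ g * conj (ψ g)‖ ^ 2 ≤ (∑ g : G, ‖φ g‖ ^ 2) * ∑ g : G, ‖ψ g‖ ^ 2 :=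
    (pow_le_pow_left₀ (norm_nonneg _) h1 2).trans h2
  calc _ ≤ ((Nat.card G : ℝ)⁻¹) ^ 2 * ((∑ g : G, ‖φ g‖ ^ 2) * ∑ g : G, ‖ψ g‖ ^ 2) := by gcongr
    _ = _ := by ring

end Inner

end CL.Char
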