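import Cfsg.Agent.Char.Basic
import Cfsg.Agent.Char.InduceMore

/-!
# Invariant characters of normal subgroups (the homogeneous case of Clifford theory)

`InvChar N θ` says that the function `θ` on the normal subgroup `N` is invariant under conjugation by `G`; it is
definitionally the hypothesis `∀ g n, θ ⟨g * n * g⁻¹, _⟩ = θ n` of the statements.
-/

set_option autoImplicit false

open Cfsg
open scoped ComplexConjugate

namespace CL.Char

variable {G : Type*} [Group G]

/-- `θ : N → ℂ` is invariant under conjugation by `G`. -/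
def InvChar (N : Subgroup G) [hN : N.Normal] (θ : N → ℂ) : Prop :=
  ∀ (g : G) (n : N), θ ⟨g * n * g⁻¹, hN.conj_mem (n : G) n.2 g⟩ = θ n

section Inv

variable {N : Subgroup G} [hN : N.Normal]

theorem invChar_res {χ : G → ℂ} (hχ : IsClassFunction G χ) : InvChar N (fun n : N => χ n) :=
  fun g n => hχ n g

theorem invChar_const (c : ℂ) : InvChar N (fun _ : N => c) := fun _ _ => rfl

theorem InvChar.mul {φ θ : N → ℂ} (hφ : InvChar N φ) (hθ : InvChar N θ) : InvChar N (φ * θ) :=
  fun g n => by simp only [Pi.mul_apply, hφ g n, hθ g n]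

theorem InvChar.conj {θ : N → ℂ} (hθ : InvChar N θ) : InvChar N (fun n => conj (θ n)) :=
  fun g n => by simp only [hθ g n]

theorem InvChar.isClassFunction {θ : N → ℂ} (hθ : InvChar N θ) : IsClassFunction N θ :=
  fun n m => hθ m n

theorem invChar_of_res_eq_smul {χ : G → ℂ} (hχ : IsClassFunction G χ) {θ : N → ℂ} {e : ℂ}
    (he : e ≠ 0) (h : (fun n : N => χ n) = e • θ) : InvChar N θ := by
  intro g n
  have h1 := congrFun h n
  have h2 := congrFun h ⟨g * n * g⁻¹, hN.conj_mem (n : G) n.2 g⟩
  simp only [Pi.smul_apply, smul_eq_mul] at h1 h2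
  rw [hχ] at h2
  exact mul_left_cancel₀ he (h2.symm.trans h1)

/-- the extension by zero of an invariant function is a class function of `G` -/
theorem InvChar.extendByZero {θ : N → ℂ} (hθ : InvChar N θ) :
    IsClassFunction G (extendByZero N θ) := by
  intro g h
  by_cases hg : g ∈ N
  · rw [extendByZero_of_mem N θ hg, extendByZero_of_mem N θ (hN.conj_mem g hg h)]
    exact hθ h ⟨g, hg⟩
  · rw [extendByZero_of_not_mem N θ hg, extendByZero_of_not_mem]
    intro hh
    exact hg (by simpa [mul_assoc] using hN.conj_mem _ hh h⁻¹)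

variable [Fintype G]

theorem InvChar.indFun_apply {θ : N → ℂ} (hθ : InvChar N θ) (n : N) :
    indFun N θ n = (N.index : ℂ) * θ n := by
  rw [indFun_apply_of_normal]
  simp only [hθ _ n, Finset.sum_const, Finset.card_univ, nsmul_eq_mul]
  rw [← Nat.card_eq_fintype_card, ← N.card_mul_index, Nat.cast_mul]
  have := natCard_cast_ne_zero N
  field_simp

theorem InvChar.res_indFun {θ : N → ℂ} (hθ : InvChar N θ) :
    (fun n : N => indFun N θ n) = (N.index : ℂ) • θ :=
  funext fun n => hθ.indFun_apply n

theorem InvChar.indFun_eq {θ : N → ℂ} (hθ : InvChar N θ) :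
    indFun N θ = (N.index : ℂ) • Cfsg.extendByZero N θ := by
  funext g
  by_cases hg : g ∈ N
  · rw [Pi.smul_apply, extendByZero_of_mem N θ hg]
    exact hθ.indFun_apply ⟨g, hg⟩
  · rw [Pi.smul_apply, extendByZero_of_not_mem N θ hg, indFun_eq_zero_of_normal N θ hg, smul_zero]

theorem InvChar.classInner_indFun [Fintype N] (φ : N → ℂ) {θ : N → ℂ} (hθ : InvChar N θ) :
    classInner (indFun N φ) (indFun N θ) = (N.index : ℂ) * classInner φ θ := by
  rw [classInner_indFun_left N φ (indFun_isClassFunction N θ), hθ.res_indFun,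
    classInner_smul_right, Complex.conj_natCast]

theorem InvChar.classInner_indFun_self {θ : N → ℂ} (hθ : InvChar N θ)
    (hirr : IsIrrCharacter N θ) : classInner (indFun N θ) (indFun N θ) = (N.index : ℂ) := by
  classical
  rw [hθ.classInner_indFun, irr_inner_self hirr, mul_one]

end Inv

section Ind

variable [Fintype G]

/-- an induced character is a character (local copy) -/
theorem char_indFun_aux (H : Subgroup G) {θ : H → ℂ} (hθ : IsCharacter H θ) :
    IsCharacter G (indFun H θ) := by
  classical
  refine char_of_inner_nat (indFun_isClassFunction H θ) fun χ hχ => ?_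
  rw [classInner_indFun_left H θ (irr_isClassFunction hχ)]
  exact char_inner_nat hθ (char_restrict (irr_isCharacter hχ) H)

/-- a character all of whose irreducible constituents equal `θ` is a multiple of `θ` -/
theorem eq_smul_of_forall_inner_eq_zero {ψ θ : G → ℂ} (hψ : IsClassFunction G ψ)
    (hθ : IsIrrCharacter G θ)
    (h : ∀ φ, IsIrrCharacter G φ → φ ≠ θ → classInner ψ φ = 0) : ψ = classInner ψ θ • θ := by
  refine classFun_ext hψ (classFun_smul _ (irr_isClassFunction hθ)) fun φ hφ => ?_
  rw [classInner_smul_left]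
  by_cases hh : φ = θ
  · rw [hh, irr_inner_self hθ, mul_one]
  · rw [h φ hφ hh, irr_inner_of_ne hθ hφ (Ne.symm hh), mul_zero]

/-- if a sum of two characters is a multiple of an irreducible `θ`, so is each summand -/
theorem char_eq_smul_of_add_eq_smul {α β θ : G → ℂ} (hα : IsCharacter G α) (hβ : IsCharacter G β)
    (hθ : IsIrrCharacter G θ) {e : ℂ} (h : α + β = e • θ) : α = classInner α θ • θ := by
  refine eq_smul_of_forall_inner_eq_zero (char_isClassFunction hα) hθ fun φ hφ hne => ?_
  obtain ⟨a, ha⟩ := char_inner_nat hα (irr_isCharacter hφ)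
  obtain ⟨b, hb⟩ := char_inner_nat hβ (irr_isCharacter hφ)
  have h1 : classInner (α + β) φ = 0 := by
    rw [h, classInner_smul_left, irr_inner_of_ne hθ hφ (Ne.symm hne), mul_zero]
  rw [classInner_add_left, ha, hb] at h1
  have : a + b = 0 := by exact_mod_cast h1
  rw [ha, show a = 0 by omega, Nat.cast_zero]

/-- an irreducible constituent of a multiple of an irreducible character is that character -/
theorem irr_eq_of_inner_smul_ne_zero {θ φ : G → ℂ} (hθ : IsIrrCharacter G θ)
    (hφ : IsIrrCharacter G φ) {e : ℂ} (h : classInner (e • θ) φ ≠ 0) : φ = θ := by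
  rw [classInner_smul_left] at h
  exact (irr_eq_of_inner_ne_zero hθ hφ (right_ne_zero_of_mul h)).symm

/-- if a sum of a character and a nonzero character is irreducible, the first summand is zero -/
theorem char_eq_zero_of_add_irr {α β : G → ℂ} (hα : IsCharacter G α) (hβ : IsCharacter G β)
    (hβ0 : β ≠ 0) (h : IsIrrCharacter G (α + β)) : α = 0 := by
  obtain ⟨a, ha⟩ := char_inner_nat hα hα
  obtain ⟨b, hb⟩ := char_inner_nat hβ hβ
  obtain ⟨c, hc⟩ := char_inner_nat hα hβ
  have h1 := irr_inner_self h
  rw [classInner_add_left, classInner_add_right, classInner_add_right, ha, hb, hc,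
    ← char_inner_comm hα hβ, hc] at h1
  have h2 : a + c + (c + b) = 1 := by exact_mod_cast h1
  have hb0 : b ≠ 0 := by
    rintro rfl
    exact hβ0 (classInner_self_eq_zero.1 (by rw [hb, Nat.cast_zero]))
  have : a = 0 := by omega
  exact classInner_self_eq_zero.1 (by rw [ha, this, Nat.cast_zero])

/-- a character with a multiple (by any complex number) irreducible, in the sense `ψ = e • α` with `α` a character
and `e` a natural number, has `e = 1` -/
theorem eq_one_of_irr_natCast_smul {α : G → ℂ} (hα : IsCharacter G α) {e : ℕ}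
    (h : IsIrrCharacter G ((e : ℂ) • α)) : e = 1 := by
  obtain ⟨a, ha⟩ := char_inner_nat hα hα
  have h1 := irr_inner_self h
  rw [classInner_smul_left, classInner_smul_right, ha, Complex.conj_natCast] at h1
  have h2 : e * (e * a) = 1 := by exact_mod_cast h1
  exact Nat.eq_one_of_mul_eq_one_right h2

/-- if a product of two characters is irreducible then so are the factors -/
theorem irr_of_mul_irr {α β : G → ℂ} (hα : IsCharacter G α) (hβ : IsCharacter G β)
    (h : IsIrrCharacter G (α * β)) : IsIrrCharacter G α := by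
  have hα0 : α ≠ 0 := by
    rintro rfl
    exact irr_ne_zero h (zero_mul β)
  obtain ⟨φ, hφ, hφα⟩ := char_exists_irr_constituent hα hα0
  have hsub := char_sub_irr hα hφ hφα
  have hβ1 : β 1 ≠ 0 := fun h1 => irr_apply_one_ne_zero h (by simp [h1])
  have hφβ : φ * β ≠ 0 := fun hh =>
    mul_ne_zero (irr_apply_one_ne_zero hφ) hβ1 (congrFun hh 1)
  have h2 : (α - φ) * β = 0 :=
    char_eq_zero_of_add_irr (char_mul hsub hβ) (char_mul (irr_isCharacter hφ) hβ) hφβ
      (by rwa [← add_mul, sub_add_cancel])
  have h3 : α - φ = 0 := char_eq_zero_of_apply_one hsub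
    ((mul_eq_zero.1 (congrFun h2 1)).resolve_right hβ1)
  rwa [sub_eq_zero.1 h3]

/-- if the character induced from a character is irreducible, the inducing character is irreducible -/
theorem irr_of_indFun_irr (H : Subgroup G) {θ : H → ℂ} (hθ : IsCharacter H θ)
    (h : IsIrrCharacter G (indFun H θ)) : IsIrrCharacter H θ := by
  classical
  have hθ0 : θ ≠ 0 := by
    rintro rfl
    exact irr_ne_zero h (indFun_zero H)
  obtain ⟨φ, hφ, hφθ⟩ := char_exists_irr_constituent hθ hθ0
  have hsub := char_sub_irr hθ hφ hφθ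
  have hi : (H.index : ℂ) ≠ 0 := Nat.cast_ne_zero.2 Subgroup.index_ne_zero_of_finite
  have hφ0 : indFun H φ ≠ 0 := fun hh => by
    have := congrFun hh 1
    rw [indFun_one] at this
    exact mul_ne_zero hi (irr_apply_one_ne_zero hφ) this
  have h2 : indFun H (θ - φ) = 0 :=
    char_eq_zero_of_add_irr (char_indFun_aux H hsub) (char_indFun_aux H (irr_isCharacter hφ)) hφ0
      (by rwa [← indFun_add, sub_add_cancel])
  have h3 : θ - φ = 0 := char_eq_zero_of_apply_one hsub (by
    have := congrFun h2 1
    rw [indFun_one] at this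
    exact (mul_eq_zero.1 this).resolve_left hi)
  rwa [sub_eq_zero.1 h3]

/-- a character whose restriction along a homomorphism is irreducible is irreducible -/
theorem irr_of_comp_irr {H : Type*} [Group H] [Finite H] {χ : G → ℂ} (hχ : IsCharacter G χ)
    (f : H →* G) (h : IsIrrCharacter H (fun x => χ (f x))) : IsIrrCharacter G χ := by
  classical
  have := Fintype.ofFinite H
  have hχ0 : χ ≠ 0 := by
    rintro rfl
    exact irr_ne_zero h rfl
  obtain ⟨φ, hφ, hφχ⟩ := char_exists_irr_constituent hχ hχ0
  have hsub := char_sub_irr hχ hφ hφχ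
  have hφ0 : (fun x => φ (f x)) ≠ 0 := fun hh =>
    irr_apply_one_ne_zero hφ (by simpa using congrFun hh 1)
  have h2 : (fun x => (χ - φ) (f x)) = 0 :=
    char_eq_zero_of_add_irr (char_comp hsub f) (char_comp (irr_isCharacter hφ) f) hφ0
      (by convert h using 1; ext x; simp)
  have h3 : χ - φ = 0 := char_eq_zero_of_apply_one hsub (by simpa using congrFun h2 1)
  rwa [sub_eq_zero.1 h3]

theorem irr_of_res_irr {χ : G → ℂ} (hχ : IsCharacter G χ) (H : Subgroup G)
    (h : IsIrrCharacter H (fun x : H => χ x)) : IsIrrCharacter G χ :=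
  irr_of_comp_irr hχ H.subtype h

omit [Fintype G] in
/-- if `χ_L` is irreducible and `L ≤ H` then `χ_H` is irreducible -/
theorem irr_res_of_le [Finite G] {χ : G → ℂ} (hχ : IsCharacter G χ) {L H : Subgroup G} (hLH : L ≤ H)
    (h : IsIrrCharacter L (fun x : L => χ x)) : IsIrrCharacter H (fun x : H => χ x) := by
  have := Fintype.ofFinite H
  exact irr_of_comp_irr (char_restrict hχ H) (Subgroup.inclusion hLH) h

end Ind

section Clifford

variable [Fintype G] {N : Subgroup G} [hN : N.Normal] [Fintype N]

/-- Clifford's theorem for an invariant constituent: `χ_N = e θ`. -/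
theorem InvChar.res_eq_smul {θ : N → ℂ} (hinv : InvChar N θ) (hθ : IsIrrCharacter N θ)
    {χ : G → ℂ} (hχ : IsIrrCharacter G χ) (h : classInner (fun n : N => χ n) θ ≠ 0) :
    (fun n : N => χ n) = classInner (fun n : N => χ n) θ • θ := by
  have h1 : classInner (indFun N θ) χ ≠ 0 := by
    rw [classInner_indFun_left N θ (irr_isClassFunction hχ), Ne, classInner_eq_zero_comm]
    exact h
  have h2 := char_sub_irr (char_indFun_aux N (irr_isCharacter hθ)) hχ h1
  refine char_eq_smul_of_add_eq_smul (char_restrict (irr_isCharacter hχ) N) (char_restrict h2 N) hθ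
    (e := N.index) ?_
  rw [← hinv.res_indFun]
  ext n
  simp

theorem InvChar.exists_res_eq_smul {θ : N → ℂ} (hinv : InvChar N θ) (hθ : IsIrrCharacter N θ)
    {χ : G → ℂ} (hχ : IsIrrCharacter G χ) (h : classInner (fun n : N => χ n) θ ≠ 0) :
    ∃ e : ℕ, 0 < e ∧ classInner (fun n : N => χ n) θ = e ∧ (fun n : N => χ n) = (e : ℂ) • θ := by
  obtain ⟨e, he⟩ := char_inner_nat (char_restrict (irr_isCharacter hχ) N) (irr_isCharacter hθ)
  refine ⟨e, Nat.pos_of_ne_zero ?_, he, ?_⟩
  · rintro rfl
    exact h (by rw [he, Nat.cast_zero])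
  · rw [← he]
    exact hinv.res_eq_smul hθ hχ h

omit hN [Fintype G] in
theorem classInner_res_eq_of_eq_smul {θ : N → ℂ} (hθ : IsIrrCharacter N θ) {χ : G → ℂ} {e : ℂ}
    (h : (fun n : N => χ n) = e • θ) : classInner (fun n : N => χ n) θ = e := by
  rw [h, classInner_smul_left, irr_inner_self hθ, mul_one]

/-- `N` lies in the kernel of an irreducible character whose restriction contains the trivial character -/
theorem irr_apply_eq_of_inner_res_one_ne_zero {β : G → ℂ} (hβ : IsIrrCharacter G β)
    (h : classInner (fun n : N => β n) (fun _ => 1) ≠ 0) {n : G} (hn : n ∈ N) : β n = β 1 := by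
  have h1 := (invChar_const (N := N) 1).res_eq_smul irr_one hβ h
  have h2 := congrFun h1 ⟨n, hn⟩
  have h3 := congrFun h1 1
  simp only [Pi.smul_apply, smul_eq_mul, mul_one, OneMemClass.coe_one] at h2 h3
  rw [h2, h3]

omit hN [Fintype G] in
theorem inner_res_one_of_forall_eq {β : G → ℂ} (h : ∀ n ∈ N, β n = β 1) :
    classInner (fun n : N => β n) (fun _ => 1) = β 1 := by
  have : (fun n : N => β n) = β 1 • fun _ : N => (1 : ℂ) := by
    ext n; simp [h n n.2]
  rw [this, classInner_smul_left, classInner_one_one, mul_one]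

theorem inner_indFun_one_ne_zero_iff {β : G → ℂ} (hβ : IsIrrCharacter G β) :
    classInner (indFun N (fun _ => 1)) β ≠ 0 ↔ ∀ n ∈ N, β n = β 1 := by
  rw [classInner_indFun_left N _ (irr_isClassFunction hβ), Ne, classInner_eq_zero_comm]
  constructor
  · exact fun h n hn => irr_apply_eq_of_inner_res_one_ne_zero hβ h hn
  · intro h
    rw [inner_res_one_of_forall_eq h]
    exact irr_apply_one_ne_zero hβ

/-- The sum of an irreducible character over a coset of a normal subgroup. -/
theorem irr_sum_coset {β : G → ℂ} (hβ : IsIrrCharacter G β) (g : G) :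
    ∑ n : N, β (n * g) = (Nat.card N : ℂ) * classInner (fun n : N => β n) (fun _ => 1) / β 1 * β g := by
  have h := irr_sum_mul_apply_mul hβ (invChar_const (N := N) 1).extendByZero g
  rw [sum_extendByZero_mul N (fun _ => 1) (fun x => β (x * g)),
    sum_extendByZero_mul N (fun _ => 1) β] at h
  simp only [one_mul] at h
  rw [h, card_mul_classInner]
  simp

theorem irr_apply_mul_of_forall_eq {β : G → ℂ} (hβ : IsIrrCharacter G β)
    (h : ∀ n ∈ N, β n = β 1) {n : G} (hn : n ∈ N) (g : G) : β (n * g) = β g := by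
  have h1 := irr_sum_coset (N := N) hβ g
  have h2 := irr_sum_coset (N := N) hβ (n * g)
  have h3 : ∑ m : N, β (m * (n * g)) = ∑ m : N, β (m * g) :=
    Fintype.sum_equiv (Equiv.mulRight (⟨n, hn⟩ : N)) _ _ fun m => by simp [mul_assoc]
  rw [h3, h1, inner_res_one_of_forall_eq h] at h2
  have h4 : (Nat.card N : ℂ) * β 1 / β 1 ≠ 0 :=
    div_ne_zero (mul_ne_zero (natCard_cast_ne_zero N) (irr_apply_one_ne_zero hβ))
      (irr_apply_one_ne_zero hβ)
  exact (mul_left_cancel₀ h4 h2).symm

end Clifford

end CL.Char
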