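import Cfsg.Agent.Char.TI
import Cfsg.Agent.Char.InduceChar

/-!
# Counting products of two conjugacy classes against an induced class function

The standard tool in the involution-counting arguments of Brauer and Suzuki.
-/

namespace CL.Char

open Cfsg

variable {G : Type*} [Group G] [Fintype G]

theorem sum_sum_conj_mul_eq {B : G → ℂ} (hB : IsClassFunction G B) (s t : G) :
    ∑ y : G, ∑ z : G, B (y * s * y⁻¹ * (z * t * z⁻¹)) =
      (Nat.card G : ℂ) ^ 2 *
        ∑ χ : IrrCharacter G, classInner B χ * ((χ : G → ℂ) s * (χ : G → ℂ) t / (χ : G → ℂ) 1) := by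
  conv_lhs => rw [classFun_eq_sum hB]
  simp only [Finset.sum_apply, Pi.smul_apply, smul_eq_mul]
  rw [Finset.mul_sum]
  simp_rw [Finset.sum_comm (s := Finset.univ) (t := (Finset.univ : Finset (IrrCharacter G)))]
  refine Finset.sum_congr rfl fun χ _ => ?_
  simp_rw [← Finset.mul_sum, irr_sum_mul_conj χ.2, irr_isClassFunction χ.2 s _]
  rw [Finset.sum_const, Finset.card_univ, ← Nat.card_eq_fintype_card, nsmul_eq_mul]
  ring

theorem sum_sum_indFun_conj_mul (H : Subgroup G) (θ : H → ℂ) (s t : G) :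
    ∑ y : G, ∑ z : G, indFun H θ (y * s * y⁻¹ * (z * t * z⁻¹)) =
      (Nat.card H : ℂ)⁻¹ * (Nat.card G : ℂ) *
        ∑ y : G, ∑ z : G, extendByZero H θ (y * s * y⁻¹ * (z * t * z⁻¹)) := by
  simp_rw [indFun_apply', ← Finset.mul_sum]
  rw [mul_assoc]
  congr 1
  have h : ∀ x : G, ∑ y : G, ∑ z : G, extendByZero H θ (x * (y * s * y⁻¹ * (z * t * z⁻¹)) * x⁻¹) =
      ∑ y : G, ∑ z : G, extendByZero H θ (y * s * y⁻¹ * (z * t * z⁻¹)) := fun x => by
    refine Fintype.sum_equiv (Equiv.mulLeft x) _ _ fun y => ?_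
    refine Fintype.sum_equiv (Equiv.mulLeft x) _ _ fun z => ?_
    congr 1
    simp only [Equiv.coe_mulLeft]
    group
  calc ∑ y : G, ∑ z : G, ∑ x : G, extendByZero H θ (x * (y * s * y⁻¹ * (z * t * z⁻¹)) * x⁻¹)
      = ∑ y : G, ∑ x : G, ∑ z : G, extendByZero H θ (x * (y * s * y⁻¹ * (z * t * z⁻¹)) * x⁻¹) :=
        Finset.sum_congr rfl fun y _ => Finset.sum_comm
    _ = ∑ x : G, ∑ y : G, ∑ z : G, extendByZero H θ (x * (y * s * y⁻¹ * (z * t * z⁻¹)) * x⁻¹) :=
        Finset.sum_comm
    _ = _ := by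
        simp_rw [h]
        rw [Finset.sum_const, Finset.card_univ, ← Nat.card_eq_fintype_card, nsmul_eq_mul]

/-- The class-product counting formula. -/
theorem invol_count (H : Subgroup G) (θ : H → ℂ) (s t : G) [DecidablePred (IsConj s)]
    [DecidablePred (IsConj t)] :
    (Nat.card G : ℂ) * (Nat.card H : ℂ) * ∑ χ : IrrCharacter G,
        classInner (indFun H θ) χ * ((χ : G → ℂ) s * (χ : G → ℂ) t / (χ : G → ℂ) 1) =
      (Nat.card (Subgroup.centralizer ({s} : Set G)) : ℂ) *
        (Nat.card (Subgroup.centralizer ({t} : Set G)) : ℂ) *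
        ∑ u ∈ Finset.univ.filter (IsConj s), ∑ v ∈ Finset.univ.filter (IsConj t),
          extendByZero H θ (u * v) := by
  have h1 := sum_sum_conj_mul_eq (indFun_isClassFunction H θ) s t
  rw [sum_sum_indFun_conj_mul] at h1
  have h2 : ∀ y : G, ∑ z : G, extendByZero H θ (y * s * y⁻¹ * (z * t * z⁻¹)) =
      (Nat.card (Subgroup.centralizer ({t} : Set G)) : ℂ) *
        ∑ v ∈ Finset.univ.filter (IsConj t), extendByZero H θ (y * s * y⁻¹ * v) := fun y => by
    rw [sum_conj_eq_card_centralizer_mul t fun v => extendByZero H θ (y * s * y⁻¹ * v),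
      nsmul_eq_mul]
  simp_rw [h2] at h1
  rw [← Finset.mul_sum, sum_conj_eq_card_centralizer_mul s
    fun u => ∑ v ∈ Finset.univ.filter (IsConj t), extendByZero H θ (u * v), nsmul_eq_mul] at h1
  have hG := natCard_cast_ne_zero G
  have hH := natCard_cast_ne_zero H
  generalize (∑ χ : IrrCharacter G,
    classInner (indFun H θ) χ * ((χ : G → ℂ) s * (χ : G → ℂ) t / (χ : G → ℂ) 1)) = X at h1 ⊢
  field_simp at h1
  linear_combination -h1

/-- If the support of `θ` is only reached by products of elements of `H`, the right-hand side of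
`invol_count` is a sum over `H`. -/
theorem sum_sum_extendByZero_mul (H : Subgroup G) [Fintype H] (θ : H → ℂ) (p q : G → Prop)
    [DecidablePred p] [DecidablePred q]
    (h : ∀ u v : G, p u → q v → ∀ huv : u * v ∈ H, θ ⟨u * v, huv⟩ ≠ 0 → u ∈ H) :
    ∑ u ∈ Finset.univ.filter p, ∑ v ∈ Finset.univ.filter q, extendByZero H θ (u * v) =
      ∑ u : H, ∑ v : H, if p u ∧ q v then θ (u * v) else 0 := by
  classical
  have key : ∀ F : G → ℂ, (∀ g, g ∉ H → F g = 0) → ∑ g : G, F g = ∑ x : H, F x := fun F hF => by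
    rw [← sum_extendByZero H fun x : H => F x]
    refine Finset.sum_congr rfl fun g _ => ?_
    rw [extendByZero_res_apply]
    split_ifs with hg
    · rfl
    · exact hF g hg
  simp_rw [Finset.sum_filter]
  rw [key]
  · refine Finset.sum_congr rfl fun u _ => ?_
    by_cases hu : p u
    · rw [if_pos hu, key]
      · refine Finset.sum_congr rfl fun v _ => ?_
        by_cases hv : q v
        · rw [if_pos hv, if_pos ⟨hu, hv⟩, ← Subgroup.coe_mul, extendByZero_coe]
        · rw [if_neg hv, if_neg fun h => hv h.2]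
      · intro v hv
        split_ifs
        · exact extendByZero_of_not_mem H θ fun h => hv ((H.mul_mem_cancel_left u.2).mp h)
        · rfl
    · simp [hu]
  · intro u hu
    split_ifs with hpu
    · refine Finset.sum_eq_zero fun v _ => ?_
      split_ifs with hqv
      · by_cases huv : u * v ∈ H
        · rw [extendByZero_of_mem H θ huv]
          by_contra hne
          exact hu (h u v hpu hqv huv hne)
        · exact extendByZero_of_not_mem H θ huv
      · rfl
    · rfl

end CL.Char
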