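import Cfsg.Agent.Char.Linear
import Cfsg.Agent.Char.Values
import Cfsg.Agent.Char.CliffordCorr

/-!
# Monomial characters and M-groups
-/

set_option autoImplicit false

namespace CL.Char

open Cfsg Module
open scoped ComplexConjugate

universe u

variable {G : Type*} [Group G]

/-- A function induced from a linear character of a subgroup. -/
def IsMonomial [Fintype G] (χ : G → ℂ) : Prop :=
  ∃ (H : Subgroup G) (lam : H →* ℂˣ), χ = indFun H (fun h => (lam h : ℂ))

/-- An M-group: every irreducible character is monomial. -/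
def IsMGroup (G : Type*) [Group G] [Fintype G] : Prop :=
  ∀ χ : G → ℂ, IsIrrCharacter G χ → IsMonomial χ

/-- An irreducible character that is trivial on all commutators has degree one. -/
theorem irr_apply_one_of_commutator_mem [Finite G] {χ : G → ℂ} (hχ : IsIrrCharacter G χ)
    (h : ∀ a b : G, a * b * a⁻¹ * b⁻¹ ∈ charKer χ) : χ 1 = 1 := by
  have := Fintype.ofFinite G
  obtain ⟨n, hn0, hn⟩ := irr_apply_one hχ
  have h1 : ∀ g, ‖χ g‖ = n := fun g => by
    rw [(char_mem_charCenter_iff (irr_isCharacter hχ)).mp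
      ((irr_mem_charCenter_iff_commutator hχ).mpr (h g)), hn, Complex.norm_natCast]
  have h2 := irr_sum_norm_sq hχ
  simp only [h1, Finset.sum_const, Finset.card_univ, nsmul_eq_mul,
    ← Nat.card_eq_fintype_card] at h2
  have h3 : (0 : ℝ) < Nat.card G := Nat.cast_pos.mpr Nat.card_pos
  have h4 : (n : ℝ) ^ 2 = 1 := by
    apply mul_left_cancel₀ h3.ne'
    rw [h2, mul_one]
  have h5 : n ^ 2 = 1 := by exact_mod_cast h4
  rw [hn, (Nat.pow_eq_one.mp h5).resolve_right two_ne_zero, Nat.cast_one]

theorem irr_apply_one_of_commutator_le [Finite G] {χ : G → ℂ} (hχ : IsIrrCharacter G χ)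
    (h : commutator G ≤ charKer χ) : χ 1 = 1 :=
  irr_apply_one_of_commutator_mem hχ fun a b =>
    h (Subgroup.commutator_mem_commutator (Subgroup.mem_top a) (Subgroup.mem_top b))

theorem commutator_le_charKer_of_apply_one [Finite G] {χ : G → ℂ} (hχ : IsCharacter G χ)
    (h : χ 1 = 1) : commutator G ≤ charKer χ := by
  obtain ⟨lam, rfl⟩ := char_exists_unitsHom hχ h
  intro g hg
  rw [char_mem_charKer_iff hχ, show lam g = 1 from commutator_le_ker_linear lam hg, map_one]

theorem irr_apply_one_eq_one_iff_commutator_le [Finite G] {χ : G → ℂ} (hχ : IsIrrCharacter G χ) :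
    χ 1 = 1 ↔ commutator G ≤ charKer χ :=
  ⟨commutator_le_charKer_of_apply_one (irr_isCharacter hχ), irr_apply_one_of_commutator_le hχ⟩

variable [Fintype G]

theorem IsMonomial.isCharacter {χ : G → ℂ} (h : IsMonomial χ) : IsCharacter G χ := by
  obtain ⟨H, lam, rfl⟩ := h
  exact char_indFun H (char_unitsHom lam)

theorem isMonomial_linear (lam : G →* ℂˣ) : IsMonomial (fun g => (lam g : ℂ)) :=
  ⟨⊤, lam.comp (⊤ : Subgroup G).subtype, by
    funext g
    rw [indFun_top_apply (isClassFunction_unitsHom _)]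
    rfl⟩

theorem isMonomial_of_apply_one {χ : G → ℂ} (hχ : IsCharacter G χ) (h : χ 1 = 1) :
    IsMonomial χ := by
  obtain ⟨lam, rfl⟩ := char_exists_unitsHom hχ h
  exact isMonomial_linear lam

/-- Inducing a linear character of a subgroup of a subgroup. -/
theorem indFun_indFun_linear (K : Subgroup G) [Fintype K] (L : Subgroup K) (lam : L →* ℂˣ) :
    indFun K (indFun L fun x => (lam x : ℂ)) = indFun (L.map K.subtype) fun x =>
      ((lam.comp (L.equivMapOfInjective K.subtype K.subtype_injective).symm.toMonoidHom) x : ℂ) :=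
  indFun_indFun_map K L _

theorem IsMonomial.indFun {K : Subgroup G} [Fintype K] {ψ : K → ℂ} (h : IsMonomial ψ) :
    IsMonomial (indFun K ψ) := by
  obtain ⟨L, lam, rfl⟩ := h
  exact ⟨_, _, indFun_indFun_linear K L lam⟩

/-- Inflation of a monomial character. -/
theorem IsMonomial.comp_surjective {Q : Type*} [Group Q] [Fintype Q] {χ : Q → ℂ}
    (h : IsMonomial χ) (f : G →* Q) (hf : Function.Surjective f) :
    IsMonomial (fun g => χ (f g)) := by
  obtain ⟨H, lam, rfl⟩ := h
  refine ⟨H.comap f, lam.comp (f.subgroupComap H), ?_⟩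
  funext g
  rw [← indFun_comap f hf H]
  rfl

theorem IsMonomial.mul_linear {χ : G → ℂ} (h : IsMonomial χ) (mu : G →* ℂˣ) :
    IsMonomial (χ * fun g => (mu g : ℂ)) := by
  obtain ⟨H, lam, rfl⟩ := h
  refine ⟨H, lam * mu.comp H.subtype, ?_⟩
  rw [← indFun_mul_res H _ (isClassFunction_unitsHom mu)]
  rfl

theorem isMGroup_of_comm (h : ∀ a b : G, a * b = b * a) : IsMGroup G :=
  fun _ hχ => isMonomial_of_apply_one (irr_isCharacter hχ) (irr_apply_one_of_comm h hχ)

/-- An element of the kernel of a monomial character lies in the kernel of the inducing linear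
character. -/
theorem mem_of_indFun_linear_apply_eq (H : Subgroup G) (lam : H →* ℂˣ) {k : G}
    (h1 : indFun H (fun h => (lam h : ℂ)) k = indFun H (fun h => (lam h : ℂ)) 1) :
    ∃ hk : k ∈ H, lam ⟨k, hk⟩ = 1 := by
  classical
  rw [indFun_apply, indFun_apply] at h1
  have h2 := mul_left_cancel₀ (inv_ne_zero (natCard_cast_ne_zero H)) h1
  have h3 : ∀ x : G, extendByZero H (fun h => (lam h : ℂ)) (x⁻¹ * 1 * x) = 1 := by
    intro x
    rw [mul_one, inv_mul_cancel, extendByZero_of_mem _ _ H.one_mem]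
    exact congrArg Units.val (map_one lam)
  simp only [h3] at h2
  have h4 : ∀ x : G, (extendByZero H (fun h => (lam h : ℂ)) (x⁻¹ * k * x)).re ≤ 1 := by
    intro x
    rw [extendByZero_apply]
    split_ifs with hx
    · exact (Complex.re_le_norm _).trans (norm_linear lam _).le
    · simp
  have h5 := congrArg Complex.re h2
  rw [Complex.re_sum, Complex.re_sum] at h5
  have h6 := (Finset.sum_eq_sum_iff_of_le (fun x _ => h4 x)).mp h5 1 (Finset.mem_univ _)
  rw [inv_one, one_mul, mul_one, extendByZero_apply] at h6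
  split_ifs at h6 with hx
  · refine ⟨hx, Units.ext ?_⟩
    have h7 := norm_linear lam ⟨k, hx⟩
    have h8 := Complex.sq_norm_sub_sq_re (lam ⟨k, hx⟩ : ℂ)
    rw [h7, h6] at h8
    apply Complex.ext h6
    simpa using h8.symm
  · simp at h6

/-- The kernel of a permutation character on cosets of `H` lies in `H`. -/
theorem mem_of_indFun_one_apply_eq (H : Subgroup G) {k : G}
    (h1 : indFun H (fun _ => 1) k = indFun H (fun _ => 1) 1) : k ∈ H :=
  (mem_of_indFun_linear_apply_eq H 1 h1).1

/-- A normal subgroup contained in the kernel of `lam` lies in the kernel of the induced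
character. -/
theorem indFun_linear_apply_eq_of_normal (H : Subgroup G) (lam : H →* ℂˣ) (N : Subgroup G)
    [hN : N.Normal] (h : ∀ k ∈ N, ∃ hk : k ∈ H, lam ⟨k, hk⟩ = 1) {k : G} (hk : k ∈ N) :
    indFun H (fun h => (lam h : ℂ)) k = indFun H (fun h => (lam h : ℂ)) 1 := by
  rw [indFun_apply', indFun_apply']
  congr 1
  refine Finset.sum_congr rfl fun x _ => ?_
  obtain ⟨h1, h2⟩ := h _ (hN.conj_mem k hk x)
  obtain ⟨h3, h4⟩ := h _ (hN.conj_mem 1 N.one_mem x)
  rw [extendByZero_of_mem _ _ h1, extendByZero_of_mem _ _ h3, h2, h4]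

/-- Quotients of M-groups are M-groups. -/
theorem IsMGroup.of_surjective {Q : Type*} [Group Q] [Fintype Q] (hG : IsMGroup G) (f : G →* Q)
    (hf : Function.Surjective f) : IsMGroup Q := by
  intro χ hχ
  have hχ' := irr_comp_surjective hχ f hf
  obtain ⟨H, lam, h⟩ := hG _ hχ'
  have hker : ∀ k ∈ f.ker, ∃ hk : k ∈ H, lam ⟨k, hk⟩ = 1 := by
    intro k hk
    refine mem_of_indFun_linear_apply_eq H lam ?_
    rw [← h]
    simp [MonoidHom.mem_ker.mp hk]
  have hmem : ∀ g : G, g ∈ H ↔ f g ∈ H.map f := by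
    intro g
    refine ⟨fun hg => ⟨g, hg, rfl⟩, ?_⟩
    rintro ⟨x, hx, hxg⟩
    obtain ⟨hk, -⟩ := hker (x⁻¹ * g) (by rw [MonoidHom.mem_ker, map_mul, map_inv, hxg, inv_mul_cancel])
    simpa using H.mul_mem hx hk
  have hsurj : Function.Surjective (f.subgroupMap H) := MonoidHom.subgroupMap_surjective _ _
  let lam' : H.map f →* ℂˣ := (f.subgroupMap H).liftOfSurjective hsurj ⟨lam, fun x hx => by
    obtain ⟨_, h1⟩ := hker x (congrArg Subtype.val hx)
    exact h1⟩
  refine ⟨H.map f, lam', ?_⟩
  funext q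
  obtain ⟨g, rfl⟩ := hf q
  rw [indFun_comp_of_surjective f hf H (H.map f) hmem (fun h => (lam h : ℂ)), ← h]
  intro x
  exact congrArg Units.val (MonoidHom.liftOfRightInverse_comp_apply _ _ _ _ x)

/-- If a normal subgroup `A` is abelian modulo the kernel of the irreducible character `χ` and is
not contained in the centre of `χ`, then `χ` is induced from a proper subgroup containing `A`. -/
theorem exists_indFun_of_abelian_mod_ker {χ : G → ℂ} (hχ : IsIrrCharacter G χ) (A : Subgroup G)
    [A.Normal] (hab : ∀ a ∈ A, ∀ b ∈ A, a * b * a⁻¹ * b⁻¹ ∈ charKer χ)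
    (hA : ¬ A ≤ charCenter χ) :
    ∃ (T : Subgroup G) (ψ : T → ℂ), T ≠ ⊤ ∧ A ≤ T ∧ IsIrrCharacter T ψ ∧ indFun T ψ = χ := by
  classical
  have := Fintype.ofFinite A
  obtain ⟨θ, hθ, hin⟩ := exists_irr_under A hχ
  have hAT := le_inertia A (irr_isClassFunction hθ)
  obtain ⟨ψ, hψ, hind, -⟩ := exists_indFun_eq_of_over A hAT hθ le_rfl hχ hin
  refine ⟨_, ψ, fun hT => hA ?_, hAT, hψ, hind⟩
  have h1 := clifford_of_invariant A hχ hθ hin hT
  set e := classInner (fun h : A => χ h) θ
  have h2 : ∀ a : A, χ a = e * θ a := fun a => congrFun h1 a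
  have h3 : θ 1 = 1 := irr_apply_one_of_commutator_mem hθ fun a b => by
    rw [char_mem_charKer_iff (irr_isCharacter hθ)]
    apply mul_left_cancel₀ hin
    rw [← h2, ← h2]
    exact apply_eq_of_mem_charKer (hab a a.2 b b.2)
  obtain ⟨lam, hlam⟩ := char_exists_unitsHom (irr_isCharacter hθ) h3
  intro a ha
  rw [char_mem_charCenter_iff (irr_isCharacter hχ)]
  have h4 := h2 1
  rw [OneMemClass.coe_one] at h4
  rw [h2 ⟨a, ha⟩, h4, norm_mul, norm_mul, hlam]
  simp only [norm_linear]

omit [Fintype G] in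
/-- A criterion for a class of groups to consist of M-groups. -/
theorem isMGroup_of_class (P : ∀ (G : Type u) [Group G], Prop)
    (hsub : ∀ (G : Type u) [Group G] [Finite G] (H : Subgroup G), P G → P H)
    (hab : ∀ (G : Type u) [Group G] [Finite G] (K : Subgroup G) [K.Normal], P G →
      ¬ commutator G ≤ K → ∃ A : Subgroup G, A.Normal ∧
        (∀ a ∈ A, ∀ b ∈ A, a * b * a⁻¹ * b⁻¹ ∈ K) ∧ ∃ a ∈ A, ∃ g : G, a * g * a⁻¹ * g⁻¹ ∉ K)
    (G : Type u) [Group G] [Fintype G] (hG : P G) : IsMGroup G := by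
  classical
  induction hn : Nat.card G using Nat.strong_induction_on generalizing G with
  | _ n ih =>
    intro χ hχ
    by_cases h1 : commutator G ≤ charKer χ
    · exact isMonomial_of_apply_one (irr_isCharacter hχ) (irr_apply_one_of_commutator_le hχ h1)
    · have := charKer_normal (irr_isClassFunction hχ)
      obtain ⟨A, hAn, hA1, a, ha, g, hag⟩ := hab G (charKer χ) hG h1
      obtain ⟨T, ψ, hT, -, hψ, rfl⟩ := exists_indFun_of_abelian_mod_ker hχ A hA1 fun h =>
        hag (char_commutator_mem_charKer (irr_isCharacter hχ) (h ha) g)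
      have := Fintype.ofFinite T
      refine (ih (Nat.card T) ?_ T (hsub G T hG) rfl ψ hψ).indFun
      rw [← hn]
      exact lt_of_le_of_ne (Subgroup.card_le_card_group T)
        fun h => hT (Subgroup.eq_top_of_card_eq T h)

omit [Fintype G] in
/-- If `x` generates a normal subgroup modulo the normal subgroup `Z`, and `Z` is central modulo
`K`, then `Z ⊔ ⟨x⟩` is abelian modulo `K`. -/
theorem commutator_mem_of_mem_sup_zpowers {K Z : Subgroup G} [K.Normal] [Z.Normal]
    (hZ : ∀ z ∈ Z, ∀ g : G, z * g * z⁻¹ * g⁻¹ ∈ K) (x : G) {a b : G}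
    (ha : a ∈ Z ⊔ Subgroup.zpowers x) (hb : b ∈ Z ⊔ Subgroup.zpowers x) :
    a * b * a⁻¹ * b⁻¹ ∈ K := by
  rw [← QuotientGroup.eq_one_iff]
  have hZ' : ∀ z ∈ Z, ∀ q : G ⧸ K, Commute (z : G ⧸ K) q := by
    intro z hz q
    obtain ⟨g, rfl⟩ := QuotientGroup.mk_surjective q
    rw [← commutatorElement_eq_one_iff_commute]
    exact (QuotientGroup.eq_one_iff _).mpr (hZ z hz g)
  rw [← SetLike.mem_coe, Subgroup.normal_mul] at ha hb
  obtain ⟨z, hz, _, ⟨i, rfl⟩, rfl⟩ := ha
  obtain ⟨w, hw, _, ⟨j, rfl⟩, rfl⟩ := hb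
  have : Commute (((z * x ^ i : G)) : G ⧸ K) ((w * x ^ j : G) : G ⧸ K) := by
    rw [QuotientGroup.mk_mul, QuotientGroup.mk_mul]
    refine (hZ' z hz _).mul_left (Commute.mul_right (hZ' w hw _).symm ?_)
    rw [QuotientGroup.mk_zpow, QuotientGroup.mk_zpow]
    exact Commute.zpow_zpow_self _ _ _
  rw [← commutatorElement_eq_one_iff_commute] at this
  exact this

/-- Finite nilpotent groups are M-groups. -/
theorem isMGroup_of_isNilpotent (G : Type u) [Group G] [Fintype G] [h : Group.IsNilpotent G] :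
    IsMGroup G := by
  refine isMGroup_of_class (fun G _ => Group.IsNilpotent G) (fun G _ _ H hG => inferInstance)
    ?_ G h
  intro G _ _ K _ hG hK
  let Q := G ⧸ K
  let Z : Subgroup G := (Subgroup.center Q).comap (QuotientGroup.mk' K)
  have hZ : ∀ z ∈ Z, ∀ g : G, z * g * z⁻¹ * g⁻¹ ∈ K := by
    intro z hz g
    rw [← QuotientGroup.eq_one_iff]
    have := Subgroup.mem_center_iff.mp hz (g : Q)
    simp only [QuotientGroup.mk'_apply] at this
    simp only [QuotientGroup.mk_mul, QuotientGroup.mk_inv]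
    rw [← this]
    group
  have hZtop : Z ≠ ⊤ := by
    intro h
    apply hK
    rw [commutator_def, Subgroup.commutator_le]
    exact fun a _ b _ => hZ a (h ▸ Subgroup.mem_top a) b
  have : Nontrivial (G ⧸ Z) := QuotientGroup.nontrivial_iff.mpr hZtop
  obtain ⟨⟨q, hq⟩, hq1⟩ := (Subgroup.ne_bot_iff_exists_ne_one).mp
    (Group.IsNilpotent.center_ne_bot (G := G ⧸ Z))
  obtain ⟨x, rfl⟩ := QuotientGroup.mk_surjective q
  have hx : x ∉ Z := fun hx => hq1 (Subtype.ext ((QuotientGroup.eq_one_iff x).mpr hx))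
  refine ⟨Z ⊔ Subgroup.zpowers x, ?_, fun a ha b hb => commutator_mem_of_mem_sup_zpowers hZ x ha hb,
    x, Subgroup.mem_sup_right (Subgroup.mem_zpowers x), ?_⟩
  · have : Z ⊔ Subgroup.zpowers x = (Subgroup.zpowers (x : G ⧸ Z)).comap (QuotientGroup.mk' Z) := by
      rw [← QuotientGroup.mk'_apply, ← MonoidHom.map_zpowers, Subgroup.comap_map_eq,
        QuotientGroup.ker_mk', sup_comm]
    rw [this]
    have : (Subgroup.zpowers (x : G ⧸ Z)).Normal := ⟨fun n hn g => by
      rw [Subgroup.mem_center_iff.mp ((Subgroup.zpowers_le_of_mem hq) hn) g, mul_inv_cancel_right]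
      exact hn⟩
    infer_instance
  · by_contra hcon
    push Not at hcon
    apply hx
    change (x : Q) ∈ Subgroup.center Q
    rw [Subgroup.mem_center_iff]
    intro q
    obtain ⟨g, rfl⟩ := QuotientGroup.mk_surjective q
    have := (QuotientGroup.eq_one_iff _).mpr (hcon g)
    simp only [QuotientGroup.mk_mul, QuotientGroup.mk_inv] at this
    rw [mul_inv_eq_one, mul_inv_eq_iff_eq_mul] at this
    exact this.symm

/-- In an M-group the `d`-th derived subgroup lies in the kernel of every character of degree at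
most `d`. -/
theorem IsMGroup.derivedSeries_le_charKer (hG : IsMGroup G) (d : ℕ) :
    ∀ χ : G → ℂ, IsCharacter G χ → deg χ ≤ d → derivedSeries G d ≤ charKer χ := by
  classical
  have key : ∀ d : ℕ, (∀ χ : G → ℂ, IsIrrCharacter G χ → deg χ ≤ d →
      derivedSeries G d ≤ charKer χ) →
      ∀ χ : G → ℂ, IsCharacter G χ → deg χ ≤ d → derivedSeries G d ≤ charKer χ := by
    intro d h χ hχ hd x hx
    rw [char_mem_charKer_iff hχ, classFun_apply_eq_sum (char_isClassFunction hχ) x,
      classFun_apply_eq_sum (char_isClassFunction hχ) 1]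
    refine Finset.sum_congr rfl fun ψ _ => ?_
    by_cases h0 : classInner χ ψ = 0
    · rw [h0, zero_mul, zero_mul]
    · rw [apply_eq_of_mem_charKer (h ψ ψ.2 ((deg_le_of_inner_ne_zero hχ ψ.2 h0).trans hd) hx)]
  induction d with
  | zero => exact key 0 fun χ hχ hd => absurd (irr_deg_pos hχ) (by omega)
  | succ d ih =>
    refine key _ fun χ hχ hd => ?_
    obtain ⟨H, lam, rfl⟩ := hG χ hχ
    have hidx : H.index ≤ d + 1 := by
      rwa [deg_indFun H (char_unitsHom lam), deg_eq_of_apply_one (n := 1) (by simp), mul_one] at hd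
    have := Fintype.ofFinite H
    have hπ : IsCharacter G (indFun H (fun _ => 1) - fun _ => 1) :=
      char_sub_irr (char_indFun_one H) irr_one (by
        rw [classInner_indFun_left H _ (isClassFunction_const 1), classInner_one_one]
        exact one_ne_zero)
    have hπd : deg (indFun H (fun _ => 1) - fun _ : G => (1 : ℂ)) ≤ d := by
      rw [deg_eq_of_apply_one (n := H.index - 1)]
      · omega
      · rw [Pi.sub_apply, indFun_one, Nat.cast_sub (Nat.pos_of_ne_zero H.index_ne_zero_of_finite)]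
        simp
    have hD : derivedSeries G d ≤ H := fun x hx => mem_of_indFun_one_apply_eq H (by
      have := apply_eq_of_mem_charKer (ih _ hπ hπd hx)
      simpa using this)
    intro x hx
    rw [char_mem_charKer_iff (irr_isCharacter hχ)]
    have := derivedSeries_normal G (d + 1)
    refine indFun_linear_apply_eq_of_normal H lam (derivedSeries G (d + 1)) (fun k hk => ?_) hx
    have h1 : derivedSeries G (d + 1) ≤ (lam.ker).map H.subtype := by
      rw [derivedSeries_succ, Subgroup.commutator_le]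
      intro a ha b hb
      exact ⟨(⟨a, hD ha⟩ : H) * ⟨b, hD hb⟩ * (⟨a, hD ha⟩ : H)⁻¹ * (⟨b, hD hb⟩ : H)⁻¹,
        commutator_le_ker_linear lam (Subgroup.commutator_mem_commutator (Subgroup.mem_top _)
          (Subgroup.mem_top _)), rfl⟩
    obtain ⟨⟨y, hy⟩, h2, rfl⟩ := h1 hk
    exact ⟨hy, h2⟩

/-- **Taketa's theorem**: M-groups are solvable. -/
theorem IsMGroup.isSolvable (hG : IsMGroup G) : Group.IsSolvable G := by
  refine ⟨⟨deg (regChar G), eq_bot_iff.mpr fun x hx => ?_⟩⟩
  have := apply_eq_of_mem_charKer (hG.derivedSeries_le_charKer _ _ char_regChar le_rfl hx)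
  by_contra h
  rw [regChar_of_ne h, regChar_one] at this
  exact card_ne_zero this.symm

end CL.Char
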