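import Cfsg.Agent.Base
import Cfsg.Agent.Char.Orth

/-!
# Inner products of permutation characters; double transitivity
-/

set_option autoImplicit false
open scoped ComplexConjugate
open Cfsg

namespace CL.Char

variable {G : Type*} [Group G]

theorem card_fixedBy_prod (X Y : Type*) [MulAction G X] [MulAction G Y] (g : G) :
    Nat.card (MulAction.fixedBy (X × Y) g) =
      Nat.card (MulAction.fixedBy X g) * Nat.card (MulAction.fixedBy Y g) := by
  rw [← Nat.card_prod]
  refine Nat.card_congr ⟨fun p => ⟨⟨p.1.1, congrArg Prod.fst p.2⟩, ⟨p.1.2, congrArg Prod.snd p.2⟩⟩,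
    fun p => ⟨(p.1, p.2), Prod.ext p.1.2 p.2.2⟩, fun _ => rfl, fun _ => rfl⟩

variable [Fintype G]

/-- The multiplicity of the principal character in a permutation character is the number of
orbits. -/
theorem classInner_fixedBy_one (X : Type*) [MulAction G X] [Finite X] :
    classInner (fun g : G => (Nat.card (MulAction.fixedBy X g) : ℂ)) (fun _ => 1) =
      Nat.card (MulAction.orbitRel.Quotient G X) := by
  classical
  have : Fintype X := Fintype.ofFinite X
  have : Fintype (MulAction.orbitRel.Quotient G X) := Fintype.ofFinite _
  have h := MulAction.sum_card_fixedBy_eq_card_orbits_mul_card_group G X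
  rw [classInner_one_right]
  simp only [Nat.card_eq_fintype_card]
  rw [← Nat.cast_sum, h]
  have : (Fintype.card G : ℂ) ≠ 0 := Nat.cast_ne_zero.2 Fintype.card_ne_zero
  push_cast
  field_simp

/-- The inner product of two permutation characters is the number of orbits on the product. -/
theorem classInner_fixedBy_fixedBy (X Y : Type*) [MulAction G X] [Finite X] [MulAction G Y]
    [Finite Y] :
    classInner (fun g : G => (Nat.card (MulAction.fixedBy X g) : ℂ))
      (fun g : G => (Nat.card (MulAction.fixedBy Y g) : ℂ)) =
      Nat.card (MulAction.orbitRel.Quotient G (X × Y)) := by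
  rw [← classInner_fixedBy_one]
  simp only [classInner_def, card_fixedBy_prod, map_natCast, map_one, mul_one, Nat.cast_mul]

omit [Fintype G] in
theorem card_orbits_of_pretransitive (X : Type*) [MulAction G X] [Nonempty X]
    [MulAction.IsPretransitive G X] : Nat.card (MulAction.orbitRel.Quotient G X) = 1 := by
  rw [Nat.card_eq_one_iff_unique]
  refine ⟨⟨fun a b => ?_⟩, ⟨Quotient.mk'' (Classical.arbitrary X)⟩⟩
  induction a using Quotient.inductionOn'
  induction b using Quotient.inductionOn'
  exact Quotient.sound' (MulAction.exists_smul_eq G _ _)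

/-- A permutation character of a nonempty set contains the principal character. -/
theorem char_fixedBy_sub_one (X : Type*) [MulAction G X] [Finite X] [Nonempty X] :
    IsCharacter G (fun g : G => (Nat.card (MulAction.fixedBy X g) : ℂ) - 1) := by
  refine char_sub_irr (char_fixedBy X) irr_one ?_
  rw [classInner_fixedBy_one]
  have : Nonempty (MulAction.orbitRel.Quotient G X) := ⟨Quotient.mk'' (Classical.arbitrary X)⟩
  exact Nat.cast_ne_zero.2 Nat.card_pos.ne'

omit [Fintype G] in
/-- A transitive action on at least two points is doubly transitive iff there are exactly two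
orbits on ordered pairs. -/
theorem card_orbits_prod_eq_two_iff (X : Type*) [MulAction G X] [Nontrivial X]
    [MulAction.IsPretransitive G X] :
    Nat.card (MulAction.orbitRel.Quotient G (X × X)) = 2 ↔
      MulAction.IsMultiplyPretransitive G X 2 := by
  obtain ⟨x, y, hxy⟩ := exists_pair_ne X
  have hne : ∀ a b c : X, a ≠ b → (Quotient.mk'' (a, b) : MulAction.orbitRel.Quotient G (X × X)) ≠
      Quotient.mk'' (c, c) := by
    intro a b c hab h
    obtain ⟨g, hg⟩ := Quotient.exact' h
    exact hab ((congrArg Prod.fst hg).symm.trans (congrArg Prod.snd hg))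
  rw [MulAction.is_two_pretransitive_iff, Nat.card_eq_two_iff' (Quotient.mk'' (x, x))]
  constructor
  · rintro ⟨q, -, hq⟩ a b c d hab hcd
    have h1 := hq _ (hne a b x hab)
    have h2 := hq _ (hne c d x hcd)
    obtain ⟨g, hg⟩ := Quotient.exact' (h2.trans h1.symm)
    exact ⟨g, congrArg Prod.fst hg, congrArg Prod.snd hg⟩
  · intro h
    refine ⟨Quotient.mk'' (x, y), hne x y x hxy, fun q hq => ?_⟩
    induction q using Quotient.inductionOn' with
    | h p =>
      obtain ⟨a, b⟩ := p
      have hab : a ≠ b := by
        rintro rfl
        obtain ⟨g, hg⟩ := MulAction.exists_smul_eq G x a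
        exact hq (Quotient.sound' ⟨g, Prod.ext hg hg⟩)
      obtain ⟨g, h1, h2⟩ := h hxy hab
      exact Quotient.sound' ⟨g, Prod.ext h1 h2⟩

/-- The norm of `π - 1` for a transitive action is the rank minus one. -/
theorem classInner_fixedBy_sub_one_self (X : Type*) [MulAction G X] [Finite X] [Nonempty X]
    [MulAction.IsPretransitive G X] :
    classInner (fun g : G => (Nat.card (MulAction.fixedBy X g) : ℂ) - 1)
      (fun g : G => (Nat.card (MulAction.fixedBy X g) : ℂ) - 1) =
      (Nat.card (MulAction.orbitRel.Quotient G (X × X)) : ℂ) - 1 := by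
  have h1 := classInner_fixedBy_one (G := G) X
  rw [card_orbits_of_pretransitive] at h1
  have h2 := congrArg conj h1
  rw [conj_classInner] at h2
  have h3 := classInner_fixedBy_fixedBy (G := G) X X
  have h4 : (fun g : G => (Nat.card (MulAction.fixedBy X g) : ℂ) - 1) =
      (fun g : G => (Nat.card (MulAction.fixedBy X g) : ℂ)) - fun _ => 1 := rfl
  rw [h4, classInner_sub_left, classInner_sub_right, classInner_sub_right, h1, h2, h3,
    classInner_one_one]
  simp

omit [Fintype G] in
/-- `π - 1` is irreducible iff the action is doubly transitive. -/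
theorem irr_fixedBy_sub_one_iff [Finite G] (X : Type*) [MulAction G X] [Finite X] [Nontrivial X]
    [MulAction.IsPretransitive G X] :
    IsIrrCharacter G (fun g : G => (Nat.card (MulAction.fixedBy X g) : ℂ) - 1) ↔
      MulAction.IsMultiplyPretransitive G X 2 := by
  have : Fintype G := Fintype.ofFinite G
  rw [isIrrCharacter_iff, and_iff_right (char_fixedBy_sub_one X), classInner_fixedBy_sub_one_self,
    ← card_orbits_prod_eq_two_iff, sub_eq_iff_eq_add, one_add_one_eq_two]
  exact_mod_cast Iff.rfl

end CL.Char
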