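import Cfsg.Agent.Char.GoingDown
import Cfsg.Agent.Char.CliffordCorr

/-!
# Homogeneous restrictions, primitive characters, relative M-groups (Isaacs 6.22, 6.23)
-/

set_option autoImplicit false

open Cfsg
open scoped ComplexConjugate commutatorElement

namespace CL.Char

variable {G : Type*} [Group G]

/-- the restriction of `χ` to `N` is a multiple of one irreducible character -/
def IsHomog (N : Subgroup G) (χ : G → ℂ) : Prop :=
  ∃ (φ : N → ℂ) (e : ℕ), IsIrrCharacter N φ ∧ (fun n : N => χ n) = (e : ℂ) • φ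

/-- `χ` is not induced from a character of a proper subgroup containing `N` -/
def IsPrimitiveOver [Fintype G] (N : Subgroup G) (χ : G → ℂ) : Prop :=
  ∀ K : Subgroup G, N ≤ K → K ≠ ⊤ → ∀ ψ : K → ℂ, IsCharacter K ψ → indFun K ψ ≠ χ

theorem isHomog_of_irr {N : Subgroup G} {χ : G → ℂ} (h : IsIrrCharacter N (fun n : N => χ n)) :
    IsHomog N χ := ⟨_, 1, h, by simp⟩

/-- a multiple of a character which is a multiple of an irreducible character -/
theorem char_eq_smul_of_smul_eq_smul [Finite G] {α θ : G → ℂ} (hα : IsCharacter G α)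
    (hθ : IsIrrCharacter G θ) {b e : ℂ} (hb : b ≠ 0) (h : b • α = e • θ) :
    ∃ c : ℕ, α = (c : ℂ) • θ ∧ b * c = e := by
  have := Fintype.ofFinite G
  obtain ⟨c, hc⟩ := char_inner_nat hα (irr_isCharacter hθ)
  have h1 : α = (e / b) • θ := by
    ext g
    have := congrFun h g
    simp only [Pi.smul_apply, smul_eq_mul] at this ⊢
    field_simp
    rw [mul_comm]
    exact this
  have h2 : e / b = c := by rw [← hc, h1, classInner_smul_left, irr_inner_self hθ, mul_one]
  exact ⟨c, by rw [← h2]; exact h1, by rw [← h2]; field_simp⟩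

variable [Fintype G]

/-- An irreducible character that is not homogeneous on the normal subgroup `N` is induced from a proper subgroup
containing `N`. -/
theorem exists_indFun_eq_of_not_isHomog {N : Subgroup G} [N.Normal] {χ : G → ℂ}
    (hχ : IsIrrCharacter G χ) (h : ¬ IsHomog N χ) :
    ∃ T : Subgroup G, N ≤ T ∧ T ≠ ⊤ ∧ ∃ ψ : T → ℂ, IsIrrCharacter T ψ ∧ indFun T ψ = χ := by
  classical
  obtain ⟨φ, hφ, hcon⟩ := exists_irr_under N hχ
  have hle := le_inertia N (irr_isClassFunction hφ)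
  obtain ⟨ψ, hψ, h1, -⟩ := exists_indFun_eq_of_over N hle hφ le_rfl hχ hcon
  refine ⟨inertia N φ, hle, fun htop => h ?_, ψ, hψ, h1⟩
  have hinv : InvChar N φ := fun g => (mem_inertia N).1 (htop ▸ Subgroup.mem_top g)
  obtain ⟨e, -, -, he⟩ := hinv.exists_res_eq_smul hφ hχ hcon
  exact ⟨φ, e, hφ, he⟩

theorem IsPrimitiveOver.isHomog {N M : Subgroup G} [M.Normal] {χ : G → ℂ} (hχ : IsIrrCharacter G χ)
    (h : IsPrimitiveOver N χ) (hNM : N ≤ M) : IsHomog M χ := by
  by_contra hh
  obtain ⟨T, h1, h2, ψ, h3, h4⟩ := exists_indFun_eq_of_not_isHomog hχ hh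
  exact h T (hNM.trans h1) h2 ψ (irr_isCharacter h3) h4

/-- A factor of a primitive character is primitive. -/
theorem IsPrimitiveOver.of_mul {N : Subgroup G} {α β : G → ℂ} (hβ : IsCharacter G β)
    (h : IsPrimitiveOver N (α * β)) : IsPrimitiveOver N α := by
  intro K hNK hK ψ hψ h1
  refine h K hNK hK (ψ * fun k : K => β k) (char_mul hψ (char_restrict hβ K)) ?_
  rw [indFun_mul_res K ψ (char_isClassFunction hβ), h1]

open Classical in
/-- Every irreducible character is induced from a character that is primitive over `N`. -/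
theorem exists_isPrimitiveOver (N : Subgroup G) {χ : G → ℂ} (hχ : IsIrrCharacter G χ) :
    ∃ (H : Subgroup G) (_ : N ≤ H) (ψ : H → ℂ), IsIrrCharacter H ψ ∧ indFun H ψ = χ ∧
      IsPrimitiveOver (N.subgroupOf H) ψ := by
  obtain ⟨H, hH⟩ := (Set.toFinite {H : Subgroup G | N ≤ H ∧ ∃ ψ : H → ℂ, IsCharacter H ψ ∧
      indFun H ψ = χ}).exists_minimal ⟨⊤, le_top, fun x => χ x, char_restrict (irr_isCharacter hχ) ⊤, by
    ext g
    rw [indFun_top_apply (classFun_restrict (irr_isClassFunction hχ) ⊤)]⟩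
  obtain ⟨⟨h1, ψ, h2, h3⟩, h4⟩ := hH
  refine ⟨H, h1, ψ, irr_of_indFun_irr H h2 (h3 ▸ hχ), h3, fun K hNK hK ξ hξ h5 => hK ?_⟩
  have h6 : K.map H.subtype ∈ {H : Subgroup G | N ≤ H ∧ ∃ ψ : H → ℂ, IsCharacter H ψ ∧
      indFun H ψ = χ} := by
    refine ⟨fun n hn => ⟨⟨n, h1 hn⟩, hNK hn, rfl⟩, _, char_comp hξ
      (K.equivMapOfInjective H.subtype H.subtype_injective).symm.toMonoidHom, ?_⟩
    rw [← h3, ← h5]
    exact (indFun_indFun_map H K ξ).symm
  have h7 := h4 h6 (Subgroup.map_subtype_le K)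
  rw [eq_top_iff]
  intro x _
  obtain ⟨y, hy, hyx⟩ := h7 x.2
  rwa [← Subtype.ext hyx]

omit [Fintype G] in
theorem isSolvable_quotient_subgroupOf (N H : Subgroup G) [N.Normal] (hs : Group.IsSolvable (G ⧸ N)) :
    Group.IsSolvable (H ⧸ N.subgroupOf H) :=
  Group.isSolvable_of_isSolvable_injective
    (f := QuotientGroup.map (N.subgroupOf H) N H.subtype le_rfl) (by
      rw [← MonoidHom.ker_eq_bot_iff, eq_bot_iff]
      intro q hq
      obtain ⟨x, rfl⟩ := QuotientGroup.mk_surjective q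
      have h1 : (((x : H) : G) : G ⧸ N) = 1 := hq
      exact Subgroup.mem_bot.2 ((QuotientGroup.eq_one_iff x).2
        (Subgroup.mem_subgroupOf.2 ((QuotientGroup.eq_one_iff (x : G)).1 h1))))

/-- If `G / N` is solvable with no chief factor above `N` of square order, then a character that is primitive over
`N` restricts irreducibly to `N`. -/
theorem IsPrimitiveOver.irr_res {N : Subgroup G} [N.Normal] (hs : Group.IsSolvable (G ⧸ N))
    (hchief : ∀ L K : Subgroup G, N ≤ L → IsChief L K → ¬ IsSquare (L.relIndex K))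
    {χ : G → ℂ} (hχ : IsIrrCharacter G χ) (h : IsPrimitiveOver N χ) :
    IsIrrCharacter N (fun n : N => χ n) := by
  classical
  obtain ⟨K, hK⟩ := (Set.toFinite {K : Subgroup G | K.Normal ∧ N ≤ K ∧
      IsIrrCharacter K (fun k : K => χ k)}).exists_minimal
    ⟨⊤, inferInstance, le_top, irr_comp_mulEquiv hχ Subgroup.topEquiv⟩
  obtain ⟨⟨h1, h2, h3⟩, h4⟩ := hK
  rcases h2.lt_or_eq with h5 | h5
  swap
  · subst h5
    exact h3
  exfalso
  obtain ⟨L, hNL, hch⟩ := exists_isChief_below h5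
  have := hch.normal_left
  rcases going_down hch (hch.commutator_le N hs hNL) h3 (invChar_res (irr_isClassFunction hχ)) with
    h6 | ⟨φ, e, -, -, h6⟩ | ⟨F, h6, h7, h8⟩
  · exact hch.lt.not_ge (h4 ⟨this, hNL, h6⟩ hch.le)
  · exact hchief L K hNL hch ⟨e, by rw [← h6, sq]⟩
  · obtain ⟨φ, e, hφ, he⟩ := h.isHomog hχ hNL
    have h9 : ∀ ψ ∈ F, ψ = φ := by
      intro ψ hψ
      refine irr_eq_of_inner_smul_ne_zero hφ (h6 ψ hψ) (e := e) ?_
      rw [← he, show (fun n : L => χ n) = ∑ φ ∈ F, φ from h8, classInner_sum_left,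
        Finset.sum_eq_single ψ, irr_inner_self (h6 ψ hψ)]
      · exact one_ne_zero
      · exact fun ξ hξ hne => irr_inner_of_ne (h6 ξ hξ) (h6 ψ hψ) hne
      · exact fun hh => (hh hψ).elim
    have h10 : F.card ≤ 1 := Finset.card_le_one.2 fun a ha b hb => by rw [h9 a ha, h9 b hb]
    have h11 : L.relIndex K ≠ 0 := Subgroup.index_ne_zero_of_finite
    have h12 : L.relIndex K = 1 := by omega
    exact hch.lt.not_ge (Subgroup.relIndex_eq_one.1 h12)

/-- If `ψ = θ^G` restricts irreducibly to `N` then `θ` restricts irreducibly to `N ⊓ U`. -/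
theorem irr_res_inf_of_indFun {N U : Subgroup G} {θ : U → ℂ} (hθ : IsCharacter U θ)
    (hN : IsIrrCharacter N (fun n : N => indFun U θ n)) :
    IsIrrCharacter ↥(N ⊓ U) (fun m => θ ⟨m, m.2.2⟩) := by
  classical
  have hψ : IsIrrCharacter G (indFun U θ) := irr_of_res_irr (char_indFun U hθ) N hN
  have hθi := irr_of_indFun_irr U hθ hψ
  have h1 : classInner (fun u : U => indFun U θ u) θ ≠ 0 := by
    rw [← classInner_indFun_right U θ (indFun_isClassFunction U θ), irr_inner_self hψ]
    exact one_ne_zero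
  have hα := char_sub_irr (char_restrict (char_indFun U hθ) U) hθi h1
  set θM : ↥(N ⊓ U) → ℂ := fun m => θ ⟨m, m.2.2⟩ with hθM
  have hθMc : IsCharacter ↥(N ⊓ U) θM := char_res_le inf_le_right hθ
  have hαM := char_res_le (inf_le_right : N ⊓ U ≤ U) hα
  obtain ⟨a, ha⟩ := char_inner_nat hθMc hθMc
  obtain ⟨b, hb⟩ := char_inner_nat hθMc hαM
  have hind := char_indFun ((N ⊓ U).subgroupOf N) (char_subgroupOf (inf_le_left : N ⊓ U ≤ N) hθMc)
  have h2 : classInner (indFun ((N ⊓ U).subgroupOf N)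
      (fun x => θM ⟨(x : N), Subgroup.mem_subgroupOf.mp x.2⟩)) (fun n : N => indFun U θ n) =
      ((a + b : ℕ) : ℂ) := by
    rw [classInner_indFun_subgroupOf_left inf_le_left θM (irr_isClassFunction hN), Nat.cast_add,
      ← ha, ← hb, ← classInner_add_right]
    congr 1
    ext m
    simp [hθM]
  have h3 := mul_deg_le_of_inner hind hN h2
  obtain ⟨d, hd0, hd⟩ := irr_apply_one hθi
  have h4 : deg (fun n : N => indFun U θ n) = U.index * d :=
    deg_eq_of_apply_one (by simp [indFun_one, hd])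
  have h5 : deg (indFun ((N ⊓ U).subgroupOf N)
      (fun x => θM ⟨(x : N), Subgroup.mem_subgroupOf.mp x.2⟩)) = U.relIndex N * d :=
    deg_eq_of_apply_one (by
      rw [indFun_one, Nat.cast_mul, ← hd, ← Subgroup.inf_relIndex_left]
      rfl)
  have h6 : U.relIndex N ≤ U.index := by
    rw [← Subgroup.relIndex_top_right]
    exact Subgroup.relIndex_le_of_le_right le_top (by
      rw [Subgroup.relIndex_top_right]; exact Subgroup.index_ne_zero_of_finite)
  have h7 : 0 < U.index * d :=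
    Nat.mul_pos (Nat.pos_of_ne_zero Subgroup.index_ne_zero_of_finite) hd0
  rw [h4, h5] at h3
  have h8 : a + b ≤ 1 := by
    have : (a + b) * (U.index * d) ≤ 1 * (U.index * d) :=
      h3.trans (by rw [one_mul]; exact Nat.mul_le_mul_right d h6)
    exact Nat.le_of_mul_le_mul_right this h7
  have h9 : a ≠ 0 := by
    rintro rfl
    have := classInner_self_eq_zero.1 (by rw [ha, Nat.cast_zero])
    exact irr_apply_one_ne_zero hθi (congrFun this 1)
  exact irr_of_char_norm_one hθMc (by rw [ha, show a = 1 by omega, Nat.cast_one])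

omit [Fintype G] in
/-- If `χ` is homogeneous on `A` and `[A, A] ≤ ker χ` then `A ≤ Z(χ)`. -/
theorem IsHomog.le_charCenter [Finite G] {A : Subgroup G} {χ : G → ℂ} (hχ : IsCharacter G χ)
    (h : IsHomog A χ) (hA : ⁅A, A⁆ ≤ charKer χ) : A ≤ charCenter χ := by
  obtain ⟨φ, e, hφ, he⟩ := h
  have h1 : ∀ a : A, χ a = e * φ a := fun a => congrFun he a
  intro a ha
  rw [char_mem_charCenter_iff hχ]
  by_cases he0 : (e : ℂ) = 0
  · rw [show χ a = e * φ ⟨a, ha⟩ from h1 ⟨a, ha⟩, show χ 1 = e * φ 1 from h1 1, he0, zero_mul, zero_mul]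
  have h2 : φ 1 = 1 := irr_apply_one_eq_one_of_commutator hφ fun x hx => by
    have h3 : (x : G) ∈ charKer χ := hA (by
      rw [← Subgroup.map_subtype_commutator]; exact Subgroup.mem_map_of_mem _ hx)
    have h4 := apply_eq_of_mem_charKer h3
    rw [h1 x, show χ 1 = e * φ 1 from h1 1] at h4
    exact mul_left_cancel₀ he0 h4
  obtain ⟨lam, hlam⟩ := char_exists_unitsHom (irr_isCharacter hφ) h2
  have h3 : ‖φ ⟨a, ha⟩‖ = 1 := norm_eq_one_of_pow_eq_one (orderOf_pos (⟨a, ha⟩ : A)) (by
    rw [hlam, ← Units.val_pow_eq_pow_val, ← map_pow, pow_orderOf_eq_one, map_one, Units.val_one])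
  rw [show χ a = e * φ ⟨a, ha⟩ from h1 ⟨a, ha⟩, show χ 1 = e * φ 1 from h1 1, norm_mul, norm_mul, h2,
    h3, norm_one]

omit [Fintype G] in
/-- A character that restricts irreducibly to a subgroup of its centre is linear. -/
theorem apply_one_eq_one_of_irr_res_of_le_charCenter [Finite G] {M : Subgroup G} {χ : G → ℂ}
    (hχ : IsCharacter G χ) (hM : M ≤ charCenter χ) (h : IsIrrCharacter M (fun m : M => χ m)) :
    χ 1 = 1 := by
  have := Fintype.ofFinite M
  have h1 : ∀ m : M, ‖χ m‖ = ‖χ 1‖ := fun m => (char_mem_charCenter_iff hχ).1 (hM m.2)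
  have h2 := irr_sum_norm_sq h
  obtain ⟨n, hn1⟩ := char_apply_one hχ
  simp only [h1, hn1, Complex.norm_natCast, Finset.sum_const, Finset.card_univ, nsmul_eq_mul,
    ← Nat.card_eq_fintype_card] at h2
  have h3 : (0 : ℝ) < Nat.card M := Nat.cast_pos.2 Nat.card_pos
  have h4 : (n : ℝ) ^ 2 = 1 := by
    field_simp at h2
    exact h2
  have h5 : n ^ 2 = 1 := by exact_mod_cast h4
  rw [hn1, (Nat.pow_eq_one.1 h5).resolve_right two_ne_zero, Nat.cast_one]

omit [Fintype G] in
/-- In a solvable group, a normal subgroup with abelian Sylow subgroups lies in the centre of every character that is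
homogeneous on all normal subgroups. -/
theorem le_charCenter_of_forall_isHomog [Finite G] [Group.IsSolvable G] {M : Subgroup G} [M.Normal]
    (hab : ∀ p : ℕ, p.Prime → ∀ Q : Subgroup G, Q ≤ M → IsPGroup p Q → ∀ a ∈ Q, ∀ b ∈ Q, a * b = b * a)
    {χ : G → ℂ} (hχ : IsCharacter G χ) (h : ∀ A : Subgroup G, A.Normal → IsHomog A χ) :
    M ≤ charCenter χ := by
  have hZn := charCenter_normal (char_isClassFunction hχ)
  have hKn := charKer_normal (char_isClassFunction hχ)
  by_contra hh
  have hlt : M ⊓ charCenter χ < M := lt_of_le_of_ne inf_le_left fun h1 => hh (h1 ▸ inf_le_right)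
  obtain ⟨A, hAM, hch⟩ := exists_isChief_above hlt
  have hAn := hch.normal_right
  obtain ⟨p, k, hp, -, hk⟩ := hch.exists_relIndex_eq_prime_pow hch.commutator_le_of_solvable
  have := Fact.mk hp
  obtain ⟨P⟩ : Nonempty (Sylow p A) := inferInstance
  have h1 : (P : Subgroup A) ⊔ (M ⊓ charCenter χ).subgroupOf A = ⊤ := by
    rw [← Subgroup.index_eq_one]
    have h2 : ((P : Subgroup A) ⊔ (M ⊓ charCenter χ).subgroupOf A).index ∣ p ^ k :=
      hk ▸ Subgroup.index_dvd_of_le le_sup_right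
    have h3 : ((P : Subgroup A) ⊔ (M ⊓ charCenter χ).subgroupOf A).index ∣ (P : Subgroup A).index :=
      Subgroup.index_dvd_of_le le_sup_left
    exact Nat.eq_one_of_dvd_coprimes
      (Nat.Coprime.pow_left k ((Nat.Prime.coprime_iff_not_dvd hp).2 P.not_dvd_index)) h2 h3
  have h2 : ∀ a ∈ A, ∃ x ∈ (P : Subgroup A).map A.subtype, ∃ z ∈ charCenter χ, a = x * z := by
    intro a ha
    have : (⟨a, ha⟩ : A) ∈ (P : Subgroup A) ⊔ (M ⊓ charCenter χ).subgroupOf A := h1 ▸ Subgroup.mem_top _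
    rw [← SetLike.mem_coe, Subgroup.mul_normal] at this
    obtain ⟨x, hx, z, hz, hxz⟩ := this
    exact ⟨x, ⟨x, hx, rfl⟩, z, hz.2, (congrArg Subtype.val hxz).symm⟩
  have h3 := hab p hp _ ((Subgroup.map_subtype_le _).trans hAM) (P.isPGroup'.map A.subtype)
  let π := QuotientGroup.mk' (charKer χ)
  have h4 : ∀ z ∈ charCenter χ, ∀ g, Commute (π z) (π g) := by
    intro z hz g
    rw [← commutatorElement_eq_one_iff_commute, ← map_commutatorElement]
    exact (QuotientGroup.eq_one_iff _).2 (char_commutator_mem_charKer hχ hz g)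
  have h5 : ⁅A, A⁆ ≤ charKer χ := by
    rw [Subgroup.commutator_le]
    intro a ha b hb
    obtain ⟨x, hx, z, hz, rfl⟩ := h2 a ha
    obtain ⟨y, hy, w, hw, rfl⟩ := h2 b hb
    rw [← QuotientGroup.eq_one_iff]
    change π ⁅x * z, y * w⁆ = 1
    rw [map_commutatorElement, commutatorElement_eq_one_iff_commute, map_mul, map_mul]
    have hxy : Commute (π x) (π y) := (show Commute x y from h3 x hx y hy).map π
    exact (hxy.mul_right (h4 w hw x).symm).mul_left (by rw [← map_mul]; exact h4 z hz _)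
  exact hch.lt.not_ge (le_inf hAM ((h A hAn).le_charCenter hχ h5))

end CL.Char
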