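import Cfsg.Agent.Char.Basic

/-!
# Characters of a direct product
-/

set_option autoImplicit false

namespace CL.Char

open Cfsg Module
open scoped ComplexConjugate

variable {G : Type*} [Group G] {H : Type*} [Group H]

/-- The outer product of functions on two groups. -/
def outer (φ : G → ℂ) (ψ : H → ℂ) : G × H → ℂ := fun x => φ x.1 * ψ x.2

omit [Group G] [Group H] in
theorem outer_apply (φ : G → ℂ) (ψ : H → ℂ) (x : G × H) : outer φ ψ x = φ x.1 * ψ x.2 := rfl

theorem classFun_outer {φ : G → ℂ} {ψ : H → ℂ} (hφ : IsClassFunction G φ)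
    (hψ : IsClassFunction H ψ) : IsClassFunction (G × H) (outer φ ψ) :=
  classFun_mul (classFun_comp hφ (MonoidHom.fst G H)) (classFun_comp hψ (MonoidHom.snd G H))

theorem char_outer {φ : G → ℂ} {ψ : H → ℂ} (hφ : IsCharacter G φ) (hψ : IsCharacter H ψ) :
    IsCharacter (G × H) (outer φ ψ) :=
  char_mul (char_comp hφ (MonoidHom.fst G H)) (char_comp hψ (MonoidHom.snd G H))

theorem gen_outer {φ : G → ℂ} {ψ : H → ℂ} (hφ : IsGeneralizedCharacter G φ)
    (hψ : IsGeneralizedCharacter H ψ) : IsGeneralizedCharacter (G × H) (outer φ ψ) :=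
  gen_mul (gen_comp hφ (MonoidHom.fst G H)) (gen_comp hψ (MonoidHom.snd G H))

theorem classInner_outer [Fintype G] [Fintype H] (φ φ' : G → ℂ) (ψ ψ' : H → ℂ) :
    classInner (outer φ ψ) (outer φ' ψ') = classInner φ φ' * classInner ψ ψ' := by
  simp only [classInner_def, outer_apply, Nat.card_prod, Nat.cast_mul, mul_inv,
    Fintype.sum_prod_type, map_mul]
  rw [mul_mul_mul_comm, Finset.sum_mul_sum]
  congr 1
  refine Finset.sum_congr rfl fun g _ => Finset.sum_congr rfl fun h _ => by ring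

theorem irr_outer [Finite G] [Finite H] {φ : G → ℂ} {ψ : H → ℂ} (hφ : IsIrrCharacter G φ)
    (hψ : IsIrrCharacter H ψ) : IsIrrCharacter (G × H) (outer φ ψ) := by
  have := Fintype.ofFinite G
  have := Fintype.ofFinite H
  refine irr_of_char_norm_one (char_outer (irr_isCharacter hφ) (irr_isCharacter hψ)) ?_
  rw [classInner_outer, irr_inner_self hφ, irr_inner_self hψ, mul_one]

/-- A class function on `G × H` orthogonal to all outer products of irreducible characters
vanishes. -/
theorem eq_zero_of_inner_outer [Fintype G] [Fintype H] {θ : G × H → ℂ}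
    (hθ : IsClassFunction (G × H) θ)
    (h : ∀ φ ψ, IsIrrCharacter G φ → IsIrrCharacter H ψ → classInner θ (outer φ ψ) = 0) :
    θ = 0 := by
  have h1 : ∀ ψ, IsIrrCharacter H ψ → ∀ g, classInner (fun y => θ (g, y)) ψ = 0 := by
    intro ψ hψ
    have hc : IsClassFunction G fun g => classInner (fun y => θ (g, y)) ψ := by
      intro g x
      have : (fun y => θ (x * g * x⁻¹, y)) = fun y => θ (g, y) := by
        funext y
        simpa using hθ (g, y) (x, 1)
      simp only [this]
    have := classFun_eq_zero_of_inner hc fun φ hφ => by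
      rw [← h φ ψ hφ hψ]
      simp only [classInner_def, outer_apply, Nat.card_prod, Nat.cast_mul, mul_inv,
        Fintype.sum_prod_type, map_mul, Finset.mul_sum, Finset.sum_mul]
      refine Finset.sum_congr rfl fun g _ => Finset.sum_congr rfl fun h _ => by ring
    exact fun g => congrFun this g
  funext ⟨g, y⟩
  have hc : IsClassFunction H fun y => θ (g, y) := by
    intro y x
    simpa using hθ (g, y) (1, x)
  exact congrFun (classFun_eq_zero_of_inner hc fun ψ hψ => h1 ψ hψ g) y

/-- Every irreducible character of `G × H` is an outer product. -/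
theorem irr_exists_outer [Finite G] [Finite H] {θ : G × H → ℂ} (hθ : IsIrrCharacter (G × H) θ) :
    ∃ (φ : G → ℂ) (ψ : H → ℂ), IsIrrCharacter G φ ∧ IsIrrCharacter H ψ ∧ θ = outer φ ψ := by
  have := Fintype.ofFinite G
  have := Fintype.ofFinite H
  by_contra hcon
  push Not at hcon
  refine irr_ne_zero hθ (eq_zero_of_inner_outer (irr_isClassFunction hθ) fun φ ψ hφ hψ => ?_)
  exact irr_inner_of_ne hθ (irr_outer hφ hψ) (hcon φ ψ hφ hψ)

theorem irr_prod_iff [Finite G] [Finite H] {θ : G × H → ℂ} :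
    IsIrrCharacter (G × H) θ ↔
      ∃ (φ : G → ℂ) (ψ : H → ℂ), IsIrrCharacter G φ ∧ IsIrrCharacter H ψ ∧ θ = outer φ ψ :=
  ⟨irr_exists_outer, fun ⟨_, _, hφ, hψ, h⟩ => h ▸ irr_outer hφ hψ⟩

theorem outer_inj_of_irr [Finite G] [Finite H] {φ φ' : G → ℂ} {ψ ψ' : H → ℂ}
    (hφ : IsIrrCharacter G φ) (hφ' : IsIrrCharacter G φ') (hψ : IsIrrCharacter H ψ)
    (hψ' : IsIrrCharacter H ψ') (h : outer φ ψ = outer φ' ψ') : φ = φ' ∧ ψ = ψ' := by
  have := Fintype.ofFinite G
  have := Fintype.ofFinite H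
  have h1 : classInner φ φ' * classInner ψ ψ' = 1 := by
    rw [← classInner_outer, h, irr_inner_self (irr_outer hφ' hψ')]
  have h2 := h1.trans_ne one_ne_zero
  exact ⟨irr_eq_of_inner_ne_zero hφ hφ' (left_ne_zero_of_mul h2),
    irr_eq_of_inner_ne_zero hψ hψ' (right_ne_zero_of_mul h2)⟩

/-- `Irr (G × H) ≃ Irr G × Irr H`. -/
noncomputable def irrProdEquiv (G H : Type*) [Group G] [Group H] [Finite G] [Finite H] :
    IrrCharacter G × IrrCharacter H ≃ IrrCharacter (G × H) :=
  Equiv.ofBijective (fun p => ⟨outer (p.1 : G → ℂ) (p.2 : H → ℂ), irr_outer p.1.2 p.2.2⟩) ⟨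
    fun p q h => by
      obtain ⟨h1, h2⟩ := outer_inj_of_irr p.1.2 q.1.2 p.2.2 q.2.2 (congrArg Subtype.val h)
      exact Prod.ext (Subtype.ext h1) (Subtype.ext h2),
    fun θ => by
      obtain ⟨φ, ψ, hφ, hψ, h⟩ := irr_exists_outer θ.2
      exact ⟨(⟨φ, hφ⟩, ⟨ψ, hψ⟩), Subtype.ext h.symm⟩⟩

theorem irrProdEquiv_apply [Finite G] [Finite H] (p : IrrCharacter G × IrrCharacter H) :
    (irrProdEquiv G H p : G × H → ℂ) = outer (p.1 : G → ℂ) (p.2 : H → ℂ) := rfl

section Internal

variable {A B : Subgroup G}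

/-- The isomorphism `A × B ≃* G` for commuting complementary subgroups. -/
noncomputable def internalProdEquiv (hc : A.IsComplement' B)
    (hcomm : ∀ a ∈ A, ∀ b ∈ B, a * b = b * a) : A × B ≃* G :=
  MulEquiv.ofBijective
    (MonoidHom.noncommCoprod A.subtype B.subtype fun a b => hcomm a a.2 b b.2) hc

theorem internalProdEquiv_apply (hc : A.IsComplement' B)
    (hcomm : ∀ a ∈ A, ∀ b ∈ B, a * b = b * a) (x : A × B) :
    internalProdEquiv hc hcomm x = (x.1 : G) * (x.2 : G) := rfl

/-- Irreducible characters of an internal direct product are products. -/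
theorem irr_internal_exists [Finite G] (hc : A.IsComplement' B)
    (hcomm : ∀ a ∈ A, ∀ b ∈ B, a * b = b * a) {χ : G → ℂ} (hχ : IsIrrCharacter G χ) :
    ∃ (φ : A → ℂ) (ψ : B → ℂ), IsIrrCharacter A φ ∧ IsIrrCharacter B ψ ∧
      ∀ (a : A) (b : B), χ (a * b) = φ a * ψ b := by
  obtain ⟨φ, ψ, hφ, hψ, h⟩ :=
    irr_exists_outer (irr_comp_mulEquiv hχ (internalProdEquiv hc hcomm))
  exact ⟨φ, ψ, hφ, hψ, fun a b => congrFun h (a, b)⟩

/-- Products of irreducible characters of the factors of an internal direct product. -/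
theorem exists_irr_internal [Finite G] (hc : A.IsComplement' B)
    (hcomm : ∀ a ∈ A, ∀ b ∈ B, a * b = b * a) {φ : A → ℂ} {ψ : B → ℂ}
    (hφ : IsIrrCharacter A φ) (hψ : IsIrrCharacter B ψ) :
    ∃ χ : G → ℂ, IsIrrCharacter G χ ∧ ∀ (a : A) (b : B), χ (a * b) = φ a * ψ b := by
  refine ⟨fun g => outer φ ψ ((internalProdEquiv hc hcomm).symm g),
    irr_comp_mulEquiv (irr_outer hφ hψ) _, fun a b => ?_⟩
  have : (a : G) * b = internalProdEquiv hc hcomm (a, b) := rfl
  simp only [this, MulEquiv.symm_apply_apply]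
  rfl

/-- A function on an internal direct product that is a product of irreducible characters is an
irreducible character. -/
theorem irr_of_internal [Finite G] (hc : A.IsComplement' B)
    (hcomm : ∀ a ∈ A, ∀ b ∈ B, a * b = b * a) {φ : A → ℂ} {ψ : B → ℂ}
    (hφ : IsIrrCharacter A φ) (hψ : IsIrrCharacter B ψ) {χ : G → ℂ}
    (h : ∀ (a : A) (b : B), χ (a * b) = φ a * ψ b) : IsIrrCharacter G χ := by
  obtain ⟨χ', hχ', h'⟩ := exists_irr_internal hc hcomm hφ hψ
  have : χ = χ' := by
    funext g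
    obtain ⟨⟨a, b⟩, rfl⟩ := (internalProdEquiv hc hcomm).surjective g
    rw [internalProdEquiv_apply, h, h']
  exact this ▸ hχ'

end Internal

end CL.Char
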