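import Cfsg.Agent.Char.ProjRep

/-!
# The finite cover of a character triple

For a `G`-invariant irreducible character `ϑ` of a normal subgroup `N` of a finite group `G` there
is a finite central extension `π : Γ → G` (kernel cyclic of order `[G : N]`), split over `N` by an
equivariant `ι : N → Γ`, such that `ϑ` extends to an irreducible character `θ` of `Γ`.
-/

set_option autoImplicit false

namespace CL.Char

open Cfsg Module

universe u v

/-- A central extension `π : Γ → G`, split over `N`, to which `ϑ` extends. -/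
structure CharCover {G : Type u} [Group G] (N : Subgroup G) [hN : N.Normal] (ϑ : N → ℂ)
    (Γ : Type v) [Group Γ] where
  π : Γ →* G
  ι : N →* Γ
  θ : Γ → ℂ
  ω : π.ker →* ℂˣ
  π_surj : Function.Surjective π
  ker_le_center : π.ker ≤ Subgroup.center Γ
  π_ι : ∀ n, π (ι n) = n
  conj_ι : ∀ γ (n : N), γ * ι n * γ⁻¹ = ι ⟨π γ * n * (π γ)⁻¹, hN.conj_mem _ n.2 _⟩
  irr : IsIrrCharacter Γ θ
  θ_ι : ∀ n, θ (ι n) = ϑ n
  card_ker : Nat.card π.ker = N.index
  ω_inj : Function.Injective ω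
  θ_mul : ∀ (z : π.ker) (γ : Γ), θ (z * γ) = ω z * θ γ

theorem exists_charCover {G : Type u} [Group G] [Finite G] (N : Subgroup G) [hN : N.Normal]
    (ϑ : N → ℂ) (hϑ : IsIrrCharacter N ϑ)
    (hinv : ∀ (g : G) (n : N), ϑ ⟨g * n * g⁻¹, hN.conj_mem (n : G) n.2 g⟩ = ϑ n) :
    ∃ (Γ : Type u) (_ : Group Γ) (_ : Finite Γ), Nonempty (CharCover N ϑ Γ) := by
  obtain ⟨Γ, _, ⟨E⟩⟩ := exists_projRep N ϑ hϑ hinv
  obtain ⟨τ, hτ⟩ := E.exists_good_index
  have hm : N.index ≠ 0 := Subgroup.FiniteIndex.index_ne_zero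
  have : NeZero N.index := ⟨hm⟩
  let π : τ.ker →* G := E.π.comp τ.ker.subtype
  let ι : N →* τ.ker := E.ι.codRestrict τ.ker hτ.2
  have hsurj : Function.Surjective π := by
    intro g
    obtain ⟨γ, rfl⟩ := E.π_surj g
    obtain ⟨w, hw⟩ := units_exists_pow_eq (τ γ)⁻¹ hm
    refine ⟨⟨E.s w * γ, ?_⟩, ?_⟩
    · rw [MonoidHom.mem_ker, map_mul, hτ.1, zpow_natCast, hw, inv_mul_cancel]
    · change E.π (E.s w * γ) = _
      rw [map_mul, E.π_s, one_mul]
  let j : rootsOfUnity N.index ℂ →* π.ker :=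
    (((E.s.comp (rootsOfUnity N.index ℂ).subtype).codRestrict τ.ker (fun z => by
      rw [MonoidHom.mem_ker, MonoidHom.comp_apply, hτ.1, zpow_natCast]
      exact z.2)).codRestrict π.ker (fun z => E.π_s _))
  have hj : Function.Bijective j := by
    constructor
    · intro a b h
      have : E.s a = E.s b := congrArg (fun x : π.ker => ((x : τ.ker) : Γ)) h
      exact Subtype.ext (E.s_inj this)
    · rintro ⟨⟨γ, h1⟩, h2⟩
      obtain ⟨z, rfl⟩ := E.exists_s γ h2
      rw [MonoidHom.mem_ker, hτ.1, zpow_natCast] at h1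
      exact ⟨⟨z, h1⟩, rfl⟩
  let je := MulEquiv.ofBijective j hj
  have hje : ∀ z : π.ker, ((z : τ.ker) : Γ) = E.s (je.symm z) := fun z => by
    conv_lhs => rw [← je.apply_symm_apply z]
    rfl
  have hcard : Nat.card π.ker = N.index := by
    rw [← Nat.card_congr je.toEquiv, Complex.card_rootsOfUnity]
  have hfk : Finite π.ker := Nat.finite_of_card_ne_zero (hcard ▸ hm)
  have hfin : Finite τ.ker := by
    have : Finite (τ.ker ⧸ π.ker) :=
      Finite.of_equiv _ (QuotientGroup.quotientKerEquivOfSurjective π hsurj).toEquiv.symm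
    exact Finite.of_equiv _ (Subgroup.groupEquivQuotientProdSubgroup (s := π.ker)).symm
  refine ⟨τ.ker, inferInstance, hfin, ⟨
    { π := π, ι := ι, θ := fun γ => E.R.character γ,
      ω := (rootsOfUnity N.index ℂ).subtype.comp je.symm.toMonoidHom,
      π_surj := hsurj, ker_le_center := ?_, π_ι := E.π_ι,
      conj_ι := fun γ n => Subtype.ext (E.conj_ι γ n),
      irr := E.isIrr_comp τ.ker.subtype ι (fun _ => rfl), θ_ι := E.char_ι, card_ker := hcard,
      ω_inj := Subtype.val_injective.comp je.symm.injective, θ_mul := ?_ }⟩⟩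
  · intro z hz
    rw [Subgroup.mem_center_iff]
    intro γ
    apply Subtype.ext
    have := hje ⟨z, hz⟩
    simp only at this
    rw [Subgroup.coe_mul, Subgroup.coe_mul, this, E.s_comm]
  · intro z γ
    simp only [Subgroup.coe_mul]
    rw [hje z, E.char_s_mul]
    rfl

namespace CharCover

variable {G : Type u} [Group G] {N : Subgroup G} [hN : N.Normal] {ϑ : N → ℂ} {Γ : Type v}
  [Group Γ] (E : CharCover N ϑ Γ)

theorem ι_inj : Function.Injective E.ι := fun a b h => by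
  ext; rw [← E.π_ι a, ← E.π_ι b, h]

theorem ι_range_normal : E.ι.range.Normal := ⟨by
  rintro _ ⟨n, rfl⟩ γ
  exact ⟨_, (E.conj_ι γ n).symm⟩⟩

/-- `N` is isomorphic to its copy in the cover. -/
noncomputable def ιEquiv : N ≃* E.ι.range := MonoidHom.ofInjective E.ι_inj

theorem coe_ιEquiv (n : N) : (E.ιEquiv n : Γ) = E.ι n := rfl

theorem ι_symm (x : E.ι.range) : E.ι (E.ιEquiv.symm x) = x := by
  rw [← E.coe_ιEquiv, MulEquiv.apply_symm_apply]

theorem π_coe (x : E.ι.range) : E.π x = E.ιEquiv.symm x := by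
  rw [← E.ι_symm x, E.π_ι]

theorem θ_coe (x : E.ι.range) : E.θ x = ϑ (E.ιEquiv.symm x) := by
  rw [← E.ι_symm x, E.θ_ι]

theorem comap_eq_sup : N.comap E.π = E.ι.range ⊔ E.π.ker := by
  apply le_antisymm
  · intro γ hγ
    have h1 : γ = E.ι ⟨E.π γ, hγ⟩ * ((E.ι ⟨E.π γ, hγ⟩)⁻¹ * γ) := by group
    rw [h1]
    refine Subgroup.mul_mem_sup ⟨_, rfl⟩ ?_
    simp [MonoidHom.mem_ker, E.π_ι]
  · refine sup_le ?_ ?_
    · rintro _ ⟨n, rfl⟩
      simp [Subgroup.mem_comap, E.π_ι]
    · intro γ hγ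
      rw [Subgroup.mem_comap, hγ]
      exact N.one_mem

theorem range_inf_ker : E.ι.range ⊓ E.π.ker = ⊥ := by
  rw [eq_bot_iff]
  rintro _ ⟨⟨n, rfl⟩, h⟩
  have h1 : (n : G) = 1 := (E.π_ι n).symm.trans h
  rw [show n = 1 from Subtype.ext h1, map_one]
  exact Subgroup.one_mem _

theorem map_range : E.ι.range.map E.π = N := by
  apply le_antisymm
  · rintro _ ⟨_, ⟨n, rfl⟩, rfl⟩
    rw [E.π_ι]; exact n.2
  · intro n hn
    exact ⟨_, ⟨⟨n, hn⟩, rfl⟩, E.π_ι _⟩

theorem isCyclic_ker [Finite Γ] : IsCyclic E.π.ker :=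
  isCyclic_of_injective_ringHom ((Units.coeHom ℂ).comp E.ω) (Units.val_injective.comp E.ω_inj)

end CharCover

end CL.Char
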