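import Cfsg.Agent.Char.ProjCover
import Cfsg.Agent.Char.Gallagher
import Cfsg.Agent.Char.CliffordCorr
import Cfsg.Agent.Char.Ito

/-!
# The ramification index divides the index

If `χ ∈ Irr G` lies over `ϑ ∈ Irr N` (`N` normal) then `χ(1)/ϑ(1)` divides `[G : N]`.
-/

set_option autoImplicit false

namespace CL.Char

open Cfsg

universe u v

namespace CharCover

variable {G : Type u} [Group G] {N : Subgroup G} [hN : N.Normal] {ϑ : N → ℂ} {Γ : Type v}
  [Group Γ] (E : CharCover N ϑ Γ)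

theorem irr_res_range (hϑ : IsIrrCharacter N ϑ) :
    IsIrrCharacter E.ι.range (fun x : E.ι.range => E.θ x) := by
  have h := irr_comp_mulEquiv hϑ E.ιEquiv.symm
  convert h using 2 with x
  exact E.θ_coe x

theorem classInner_res_range [Fintype N] [Fintype E.ι.range] (χ : G → ℂ) :
    classInner (fun x : E.ι.range => χ (E.π x)) (fun x : E.ι.range => E.θ x) =
      classInner (fun n : N => χ n) ϑ := by
  rw [← classInner_comp_mulEquiv E.ιEquiv.symm (fun n : N => χ n) ϑ]
  congr 1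
  · funext x; rw [E.π_coe]
  · funext x; exact E.θ_coe x

/-- Gallagher's theorem in the cover: `χ ∘ π = β θ`. -/
theorem exists_factor [Fintype Γ] [Fintype N] (hϑ : IsIrrCharacter N ϑ) {χ : G → ℂ}
    (hχ : IsIrrCharacter G χ) (h : classInner (fun n : N => χ n) ϑ ≠ 0) :
    ∃ β : Γ → ℂ, IsIrrCharacter Γ β ∧ (∀ x ∈ E.ι.range, β x = β 1) ∧
      (fun γ => χ (E.π γ)) = β * E.θ := by
  classical
  have := E.ι_range_normal
  have : Fintype E.ι.range := Fintype.ofFinite _
  refine gallagher_exists (N := E.ι.range) (irr_isCharacter E.irr) (E.irr_res_range hϑ)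
    (irr_comp_surjective hχ E.π E.π_surj) ?_
  rwa [E.classInner_res_range]

theorem index_sup_ker : (E.ι.range ⊔ E.π.ker).index = N.index := by
  rw [← E.comap_eq_sup, Subgroup.index_comap_of_surjective _ E.π_surj]

end CharCover

variable {G : Type u} [Group G]

/-- The invariant case. -/
theorem exists_apply_one_eq_mul_of_invChar [Finite G] {N : Subgroup G} [hN : N.Normal] [Fintype N]
    {ϑ : N → ℂ} (hϑ : IsIrrCharacter N ϑ) (hinv : InvChar N ϑ) {χ : G → ℂ}
    (hχ : IsIrrCharacter G χ) (h : classInner (fun n : N => χ n) ϑ ≠ 0) :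
    ∃ b : ℕ, b ∣ N.index ∧ χ 1 = b * ϑ 1 := by
  obtain ⟨Γ, _, _, ⟨E⟩⟩ := exists_charCover N ϑ hϑ hinv
  have : Fintype Γ := Fintype.ofFinite _
  obtain ⟨β, hβ, hβN, he⟩ := E.exists_factor hϑ hχ h
  refine ⟨deg β, ?_, ?_⟩
  · rw [← E.index_sup_ker]
    refine (irr_deg_dvd_index_charCenter hβ).trans (Subgroup.index_dvd_of_le (sup_le ?_ ?_))
    · intro x hx
      exact charKer_le_charCenter β ((char_mem_charKer_iff (irr_isCharacter hβ)).2 (hβN x hx))
    · exact E.ker_le_center.trans (irr_center_le_charCenter hβ)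
  · have h1 := congrFun he 1
    rw [map_one, Pi.mul_apply, ← map_one E.ι, E.θ_ι, map_one] at h1
    rw [h1, irr_cast_deg hβ]

/-- `χ(1)/ϑ(1)` divides `[G : N]`. -/
theorem exists_apply_one_eq_mul_of_over [Fintype G] {N : Subgroup G} [hN : N.Normal] [Fintype N]
    {ϑ : N → ℂ} (hϑ : IsIrrCharacter N ϑ) {χ : G → ℂ}
    (hχ : IsIrrCharacter G χ) (h : classInner (fun n : N => χ n) ϑ ≠ 0) :
    ∃ b : ℕ, b ∣ N.index ∧ χ 1 = b * ϑ 1 := by
  classical
  have hNT : N ≤ inertia N ϑ := le_inertia N (irr_isClassFunction hϑ)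
  obtain ⟨ψ, hψ, rfl, hin⟩ := exists_indFun_eq_of_over N hNT hϑ le_rfl hχ h
  have : Fintype (N.subgroupOf (inertia N ϑ)) := Fintype.ofFinite _
  obtain ⟨b, hb, h1⟩ := exists_apply_one_eq_mul_of_invChar (irr_subgroupOf hNT hϑ)
    (fun g n => (mem_inertia N).1 g.2 ⟨(n : inertia N ϑ), Subgroup.mem_subgroupOf.mp n.2⟩) hψ (by
      rw [← hin] at h
      rw [← classInner_subgroupOf hNT] at h
      exact h)
  refine ⟨(inertia N ϑ).index * b, ?_, ?_⟩
  · rw [← Subgroup.relIndex_mul_index hNT, mul_comm]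
    exact Nat.mul_dvd_mul_right hb _
  · rw [indFun_one, h1]
    push_cast
    rw [mul_assoc]
    rfl

end CL.Char
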