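import Cfsg.Agent.Char.ProjRep
import Cfsg.Agent.Char.Basic

/-!
# Extension theorems for invariant irreducible characters

Cyclic quotient, Gallagher's determinant criterion, the canonical coprime extension, and the
Sylow criterion.
-/

set_option autoImplicit false

namespace CL.Char

open Cfsg Module

section det

variable {G : Type*} [Group G] [Finite G]

theorem exists_detChar_eq_of_irr {χ : G → ℂ} (hχ : IsIrrCharacter G χ) :
    ∃ δ : G →* ℂˣ, detChar χ = fun g => (δ g : ℂ) := by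
  obtain ⟨n, ρ, hρ, rfl⟩ := hχ
  exact ⟨repDet ρ, detChar_character_of_isIrreducible ρ⟩

theorem isCharacter_detChar_of_irr {χ : G → ℂ} (hχ : IsIrrCharacter G χ) :
    IsCharacter G (detChar χ) ∧ detChar χ 1 = 1 := by
  obtain ⟨δ, hδ⟩ := exists_detChar_eq_of_irr hχ
  rw [hδ]
  exact ⟨char_unitsHom δ, by simp⟩

theorem detChar_linear (lam : G →* ℂˣ) :
    detChar (fun g => (lam g : ℂ)) = fun g => (lam g : ℂ) := by
  obtain ⟨n, ρ, hρ, he⟩ := irr_unitsHom lam
  have hn : finrank ℂ (Fin n → ℂ) = 1 := by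
    have h1 := congrFun he 1
    rw [ρ.char_one] at h1
    simpa using h1
  rw [← he, detChar_character_of_isIrreducible]
  funext g
  obtain ⟨c, hc, -⟩ := LinearMap.existsUnique_eq_smul_id_of_finrank_eq_one hn (ρ g)
  change _ = LinearMap.trace ℂ _ (ρ g)
  rw [hc, LinearMap.det_smul, map_smul, LinearMap.trace_id, hn]
  simp

theorem detChar_of_apply_one {χ : G → ℂ} (hχ : IsCharacter G χ) (h1 : χ 1 = 1) :
    detChar χ = χ := by
  obtain ⟨lam, rfl⟩ := char_exists_unitsHom hχ h1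
  exact detChar_linear lam

omit [Finite G] in
/-- The determinantal character commutes with restriction (irreducible restriction). -/
theorem detChar_comp_of_irr [Finite G] {H : Type*} [Group H] [Finite H] {χ : G → ℂ}
    (hχ : IsIrrCharacter G χ) (f : H →* G) (hf : IsIrrCharacter H (fun x => χ (f x))) :
    detChar (fun x => χ (f x)) = fun x => detChar χ (f x) := by
  obtain ⟨n, ρ, hρ, rfl⟩ := hχ
  obtain ⟨m, σ, hσ, he⟩ := hf
  rw [← he, detChar_character_of_isIrreducible, detChar_character_of_isIrreducible]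
  obtain ⟨e⟩ := nonempty_equiv_of_isIrreducible_of_character_eq σ
    (ρ.comp f : Representation ℂ H (Fin n → ℂ)) he
  funext x
  have h := e.conj_apply_self x
  change _ = ρ (f x) at h
  change _ = LinearMap.det (ρ (f x))
  rw [← h, LinearEquiv.conj_apply, LinearMap.comp_assoc]
  exact (LinearMap.det_conj (σ x) e.toLinearEquiv).symm

omit [Finite G] in
theorem linear_pow_card (lam : G →* ℂˣ) : (fun g => (lam g : ℂ)) ^ Nat.card G = 1 := by
  funext g
  rw [Pi.pow_apply, ← Units.val_pow_eq_pow_val, ← map_pow, pow_card_eq_one', map_one]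
  rfl

theorem orderOf_linear_dvd_card (lam : G →* ℂˣ) : orderOf (fun g => (lam g : ℂ)) ∣ Nat.card G :=
  orderOf_dvd_of_pow_eq_one (linear_pow_card lam)

theorem orderOf_linear_ne_zero (lam : G →* ℂˣ) : orderOf (fun g => (lam g : ℂ)) ≠ 0 :=
  ne_zero_of_dvd_ne_zero Nat.card_pos.ne' (orderOf_linear_dvd_card lam)

theorem detOrder_dvd_card_of_irr {χ : G → ℂ} (hχ : IsIrrCharacter G χ) :
    detOrder χ ∣ Nat.card G := by
  obtain ⟨δ, hδ⟩ := exists_detChar_eq_of_irr hχ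
  rw [detOrder, hδ]
  exact orderOf_linear_dvd_card δ

omit [Finite G] in
theorem detChar_pow_detOrder (χ : G → ℂ) (g : G) : detChar χ g ^ detOrder χ = 1 :=
  congrFun (pow_orderOf_eq_one (detChar χ)) g

omit [Finite G] in
theorem detOrder_dvd_iff (χ : G → ℂ) (k : ℕ) : detOrder χ ∣ k ↔ ∀ g, detChar χ g ^ k = 1 := by
  rw [detOrder, orderOf_dvd_iff_pow_eq_one, funext_iff]
  rfl

end det

variable {G : Type*} [Group G] [Finite G] {N : Subgroup G} [hN : N.Normal] {ϑ : N → ℂ}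

theorem ProjRep.good_det_pow {Γ : Type*} [Group Γ] (E : ProjRep N ϑ Γ) {k : ℕ}
    (hk : detOrder ϑ ∣ k) : E.Good (k * E.d : ℕ) (repDet E.R ^ k) := by
  refine ⟨fun z => ?_, fun n => ?_⟩
  · rw [MonoidHom.pow_apply, E.repDet_s, ← pow_mul, zpow_natCast, mul_comm]
  · ext
    rw [MonoidHom.pow_apply, Units.val_pow_eq_pow_val, E.repDet_ι]
    exact (detOrder_dvd_iff ϑ k).1 hk n

theorem ProjRep.good_det_div {Γ : Type*} [Group Γ] (E : ProjRep N ϑ Γ) (μ : G →* ℂˣ)
    (hμ : ∀ n : N, (μ n : ℂ) = detChar ϑ n) :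
    E.Good (E.d : ℕ) (repDet E.R * (μ.comp E.π)⁻¹) := by
  refine ⟨fun z => ?_, fun n => ?_⟩
  · simp [E.repDet_s, E.π_s]
  · have : repDet E.R (E.ι n) = μ n := Units.ext (by rw [E.repDet_ι, hμ])
    simp [this, E.π_ι]

/-- An invariant irreducible character extends over a cyclic quotient. -/
theorem exists_irr_extension_of_isCyclic (hcyc : IsCyclic (G ⧸ N)) (hϑ : IsIrrCharacter N ϑ)
    (hinv : ∀ (g : G) (n : N), ϑ ⟨g * n * g⁻¹, hN.conj_mem (n : G) n.2 g⟩ = ϑ n) :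
    ∃ χ : G → ℂ, IsIrrCharacter G χ ∧ ∀ n : N, χ n = ϑ n := by
  obtain ⟨Γ, _, ⟨E⟩⟩ := exists_projRep N ϑ hϑ hinv
  obtain ⟨μ, hμ⟩ := E.exists_good_one_of_isCyclic hcyc
  obtain ⟨η, h1, h2, -⟩ := ProjRep.exists_extension_of_good hμ
  exact ⟨η, h1, h2⟩

/-- An invariant irreducible character extends if, for each prime `p` dividing both the index and
`o(ϑ) ϑ(1)`, it extends to some subgroup of index prime to `p`. -/
theorem exists_irr_extension_of_forall_prime (hϑ : IsIrrCharacter N ϑ)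
    (hinv : ∀ (g : G) (n : N), ϑ ⟨g * n * g⁻¹, hN.conj_mem (n : G) n.2 g⟩ = ϑ n)
    {d : ℕ} (hd : ϑ 1 = d)
    (h : ∀ p : ℕ, p.Prime → p ∣ N.index → p ∣ detOrder ϑ * d →
      ∃ (P : Subgroup G) (hNP : N ≤ P) (η : P → ℂ),
      Nat.Coprime P.index p ∧ IsCharacter P η ∧ ∀ n : N, η ⟨(n : G), hNP n.2⟩ = ϑ n) :
    ∃ χ : G → ℂ, IsIrrCharacter G χ ∧ ∀ n : N, χ n = ϑ n := by
  obtain ⟨Γ, _, ⟨E⟩⟩ := exists_projRep N ϑ hϑ hinv
  have hdE : d = E.d := by
    have := E.apply_one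
    rw [hd] at this
    exact_mod_cast this
  subst hdE
  obtain ⟨τ, hτ⟩ := E.exists_good_index
  obtain ⟨μ, hμ⟩ := E.exists_good_one_of_forall_prime (k := N.index)
    Subgroup.FiniteIndex.index_ne_zero hτ (fun p hp hpk => by
      by_cases h1 : p ∣ detOrder ϑ * E.d
      · obtain ⟨P, hNP, η, h2, h3, h4⟩ := h p hp hpk h1
        obtain ⟨ν, hν⟩ := E.exists_good_of_extension P hNP η h3 h4
        exact ⟨_, ν, hν, h2⟩
      · exact ⟨_, _, E.good_det_pow dvd_rfl, ((Nat.Prime.coprime_iff_not_dvd hp).2 h1).symm⟩)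
  obtain ⟨η, h1, h2, -⟩ := ProjRep.exists_extension_of_good hμ
  exact ⟨η, h1, h2⟩

/-- Gallagher's criterion, hard direction, with control of the determinant. -/
theorem exists_irr_extension_of_det (hϑ : IsIrrCharacter N ϑ)
    (hinv : ∀ (g : G) (n : N), ϑ ⟨g * n * g⁻¹, hN.conj_mem (n : G) n.2 g⟩ = ϑ n)
    {d : ℕ} (hd : ϑ 1 = d) (hcop : Nat.Coprime N.index d) (μ : G →* ℂˣ)
    (hμ : ∀ n : N, (μ n : ℂ) = detChar ϑ n) :
    ∃! χ : G → ℂ, IsIrrCharacter G χ ∧ (∀ n : N, χ n = ϑ n) ∧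
      detChar χ = fun g => (μ g : ℂ) := by
  obtain ⟨Γ, _, ⟨E⟩⟩ := exists_projRep N ϑ hϑ hinv
  have hdE : d = E.d := by
    have := E.apply_one
    rw [hd] at this
    exact_mod_cast this
  subst hdE
  obtain ⟨lam, hlam, hpow⟩ := E.exists_good_one_pow_eq (E.good_det_div μ hμ) hcop
  obtain ⟨η, h1, h2, h3, h4⟩ := ProjRep.exists_extension_of_good hlam
  refine ⟨η, ⟨h1, h2, ?_⟩, ?_⟩
  · funext g
    obtain ⟨γ, rfl⟩ := E.π_surj g
    have h5 := h4 γ
    rw [← Units.val_pow_eq_pow_val, hpow] at h5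
    simp only [MonoidHom.mul_apply, MonoidHom.inv_apply, MonoidHom.comp_apply, Units.val_mul,
      Units.val_inv_eq_inv_val] at h5
    have h6 := (repDet E.R γ).ne_zero
    have h7 := (μ (E.π γ)).ne_zero
    field_simp at h5
    exact h5.symm
  · rintro η' ⟨h1', h2', h3'⟩
    obtain ⟨lam', hlam', h5, h6⟩ :=
      E.exists_good_one_of_extension η' (let ⟨n, ρ, _, h⟩ := h1'; ⟨n, ρ, h⟩) h2'
    have heq : lam' = lam := E.eq_of_good_one_of_pow_eq hlam' hlam hcop (fun γ => by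
      rw [hpow]
      have h7 := h6 γ
      rw [h3'] at h7
      ext
      simp only [MonoidHom.mul_apply, MonoidHom.inv_apply, MonoidHom.comp_apply, Units.val_mul,
        Units.val_inv_eq_inv_val, Units.val_pow_eq_pow_val, h7]
      have h8 := (μ (E.π γ)).ne_zero
      field_simp)
    funext g
    obtain ⟨γ, rfl⟩ := E.π_surj g
    have h7 := (h5 γ).symm.trans (h3 γ)
    rw [heq] at h7
    exact mul_left_cancel₀ (lam γ).ne_zero h7

/-- The canonical extension in the coprime case. -/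
theorem exists_irr_extension_of_coprime (hϑ : IsIrrCharacter N ϑ)
    (hinv : ∀ (g : G) (n : N), ϑ ⟨g * n * g⁻¹, hN.conj_mem (n : G) n.2 g⟩ = ϑ n)
    {d : ℕ} (hd : ϑ 1 = d) (hcop : Nat.Coprime N.index (detOrder ϑ * d)) :
    ∃ χ : G → ℂ, (IsIrrCharacter G χ ∧ (∀ n : N, χ n = ϑ n) ∧ detOrder χ = detOrder ϑ) ∧
      ∀ χ' : G → ℂ, IsIrrCharacter G χ' → (∀ n : N, χ' n = ϑ n) →
        Nat.Coprime N.index (detOrder χ') → χ' = χ := by
  obtain ⟨Γ, _, ⟨E⟩⟩ := exists_projRep N ϑ hϑ hinv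
  have hdE : d = E.d := by
    have := E.apply_one
    rw [hd] at this
    exact_mod_cast this
  subst hdE
  obtain ⟨lam, hlam, hpow⟩ := E.exists_good_one_pow_eq (E.good_det_pow dvd_rfl) hcop
  obtain ⟨η, h1, h2, h3, h4⟩ := ProjRep.exists_extension_of_good hlam
  have hord : detOrder η = detOrder ϑ := by
    apply Nat.dvd_antisymm
    · rw [detOrder_dvd_iff]
      intro g
      obtain ⟨γ, rfl⟩ := E.π_surj g
      have h5 := congrArg (· ^ detOrder ϑ) (h4 γ)
      have h6 := congrArg Units.val (hpow γ)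
      simp only [MonoidHom.pow_apply, Units.val_pow_eq_pow_val] at h6
      simp only [mul_pow] at h5
      rw [← pow_mul, mul_comm E.d, h6] at h5
      have h7 : (repDet E.R γ : ℂ) ^ detOrder ϑ ≠ 0 := pow_ne_zero _ (repDet E.R γ).ne_zero
      exact (mul_eq_left₀ h7).1 h5.symm
    · rw [detOrder_dvd_iff]
      intro n
      have h5 : ϑ = fun n : N => η (N.subtype n) := funext fun n => (h2 n).symm
      have h6 := detChar_comp_of_irr h1 N.subtype (h5 ▸ hϑ)
      rw [← h5] at h6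
      rw [h6]
      exact detChar_pow_detOrder η _
  refine ⟨η, ⟨h1, h2, hord⟩, fun η' h1' h2' h3' => ?_⟩
  obtain ⟨lam', hlam', h5, h6⟩ :=
    E.exists_good_one_of_extension η' (let ⟨n, ρ, _, h⟩ := h1'; ⟨n, ρ, h⟩) h2'
  have heq : lam' = lam := E.eq_of_good_one_of_pow_eq hlam' hlam (Nat.Coprime.mul_right hcop h3')
    (fun γ => by
      ext
      have a1 := congrArg (· ^ (detOrder ϑ * detOrder η')) (h6 γ)
      have a2 := congrArg (· ^ (detOrder ϑ * detOrder η')) (h4 γ)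
      simp only [mul_pow] at a1 a2
      rw [mul_comm (detOrder ϑ), pow_mul (detChar η' _), detChar_pow_detOrder, one_pow, mul_one,
        mul_comm (detOrder η')] at a1
      rw [pow_mul (detChar η _), ← hord, detChar_pow_detOrder, one_pow, mul_one, hord] at a2
      simp only [Units.val_pow_eq_pow_val]
      rw [mul_comm (detOrder ϑ) E.d, mul_assoc, pow_mul, pow_mul (lam γ : ℂ), ← a1, ← a2])
  funext g
  obtain ⟨γ, rfl⟩ := E.π_surj g
  have h7 := (h5 γ).symm.trans (h3 γ)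
  rw [heq] at h7
  exact mul_left_cancel₀ (lam γ).ne_zero h7

/-- Gallagher's extension theorem. -/
theorem exists_irr_extension_iff_det (hϑ : IsIrrCharacter N ϑ)
    (hinv : ∀ (g : G) (n : N), ϑ ⟨g * n * g⁻¹, hN.conj_mem (n : G) n.2 g⟩ = ϑ n)
    {d : ℕ} (hd : ϑ 1 = d) (hcop : Nat.Coprime N.index d) :
    (∃ χ : G → ℂ, IsIrrCharacter G χ ∧ (∀ n : N, χ n = ϑ n)) ↔
      ∃ μ : G → ℂ, IsCharacter G μ ∧ μ 1 = 1 ∧ ∀ n : N, μ n = detChar ϑ n := by
  constructor
  · rintro ⟨χ, h1, h2⟩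
    obtain ⟨h3, h4⟩ := isCharacter_detChar_of_irr h1
    refine ⟨detChar χ, h3, h4, fun n => ?_⟩
    have h5 : ϑ = fun n : N => χ (N.subtype n) := funext fun n => (h2 n).symm
    have h6 := detChar_comp_of_irr h1 N.subtype (h5 ▸ hϑ)
    rw [← h5] at h6
    rw [h6]; rfl
  · rintro ⟨μ, h1, h2, h3⟩
    obtain ⟨lam, rfl⟩ := char_exists_unitsHom h1 h2
    obtain ⟨χ, ⟨h4, h5, -⟩, -⟩ := exists_irr_extension_of_det hϑ hinv hd hcop lam h3
    exact ⟨χ, h4, h5⟩

/-- An invariant irreducible character of a normal Hall subgroup extends. -/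
theorem exists_irr_extension_of_coprime_card (hϑ : IsIrrCharacter N ϑ)
    (hinv : ∀ (g : G) (n : N), ϑ ⟨g * n * g⁻¹, hN.conj_mem (n : G) n.2 g⟩ = ϑ n)
    {d : ℕ} (hd : ϑ 1 = d) (hdN : d ∣ Nat.card N) (hcop : Nat.Coprime N.index (Nat.card N)) :
    ∃ χ : G → ℂ, IsIrrCharacter G χ ∧ (∀ n : N, χ n = ϑ n) ∧ detOrder χ = detOrder ϑ := by
  obtain ⟨χ, h, -⟩ := exists_irr_extension_of_coprime hϑ hinv hd
    (Nat.Coprime.mul_right (hcop.coprime_dvd_right (detOrder_dvd_card_of_irr hϑ))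
      (hcop.coprime_dvd_right hdN))
  exact ⟨χ, h⟩

end CL.Char
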