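import Cfsg.Agent.Base

/-!
# Central extensions of `G` by `ℂˣ` split over a normal subgroup

Pure group theory behind the extension theorems for invariant characters.
-/

set_option autoImplicit false

namespace CL.Char

universe u v

/-- Every nonzero complex number has `n`-th roots (in `ℂˣ`). -/
theorem units_exists_pow_eq (z : ℂˣ) {n : ℕ} (hn : n ≠ 0) : ∃ w : ℂˣ, w ^ n = z := by
  obtain ⟨w, hw⟩ := IsAlgClosed.exists_pow_nat_eq (z : ℂ) (Nat.pos_of_ne_zero hn)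
  have hw0 : w ≠ 0 := by
    rintro rfl
    rw [zero_pow hn] at hw
    exact z.ne_zero hw.symm
  exact ⟨Units.mk0 w hw0, by ext; simpa using hw⟩

/-- A homomorphism into `ℂˣ` extends along an injective homomorphism of commutative groups. -/
theorem units_hom_extend {A B : Type*} [CommGroup A] [CommGroup B] (f : A →* B)
    (hf : Function.Injective f) (g : A →* ℂˣ) : ∃ h : B →* ℂˣ, ∀ a, h (f a) = g a := by
  let : DivisibleBy (Additive ℂˣ) ℕ := divisibleByOfSMulRightSurj _ _ (fun {n} hn x => by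
    obtain ⟨w, hw⟩ := units_exists_pow_eq x.toMul hn
    exact ⟨Additive.ofMul w, by
      change Additive.ofMul (w ^ n) = x
      rw [hw]; rfl⟩)
  let : DivisibleBy (Additive ℂˣ) ℤ := AddGroup.divisibleByIntOfDivisibleByNat _
  obtain ⟨h, hh⟩ := (Module.Baer.of_divisible (Additive ℂˣ)).extension_property_addMonoidHom
    (MonoidHom.toAdditive f) hf (MonoidHom.toAdditive g)
  refine ⟨MonoidHom.toAdditive.symm h, fun a => ?_⟩
  have := congrArg (fun φ => φ (Additive.ofMul a)) hh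
  exact congrArg Additive.toMul this

/-- A central extension `π : Γ → G` with kernel `s : ℂˣ → Γ`, together with an equivariant
splitting `ι` over the normal subgroup `N`. -/
structure ProjExt {G : Type u} [Group G] (N : Subgroup G) [hN : N.Normal] (Γ : Type v)
    [Group Γ] where
  π : Γ →* G
  s : ℂˣ →* Γ
  ι : N →* Γ
  π_surj : Function.Surjective π
  s_inj : Function.Injective s
  π_s : ∀ z, π (s z) = 1
  exists_s : ∀ γ, π γ = 1 → ∃ z, s z = γ
  s_comm : ∀ z γ, s z * γ = γ * s z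
  π_ι : ∀ n, π (ι n) = n
  conj_ι : ∀ γ (n : N), γ * ι n * γ⁻¹ = ι ⟨π γ * n * (π γ)⁻¹, hN.conj_mem _ n.2 _⟩

namespace ProjExt

variable {G : Type u} [Group G] {N : Subgroup G} [hN : N.Normal] {Γ : Type v} [Group Γ]
  (E : ProjExt N Γ)

/-- `μ` is a linear character of `Γ` that is `z ↦ z ^ k` on scalars and trivial on `N`. -/
def Good (k : ℤ) (μ : Γ →* ℂˣ) : Prop :=
  (∀ z, μ (E.s z) = z ^ k) ∧ ∀ n, μ (E.ι n) = 1

variable {E}

theorem Good.mul {k l : ℤ} {μ ν : Γ →* ℂˣ} (hμ : E.Good k μ) (hν : E.Good l ν) :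
    E.Good (k + l) (μ * ν) :=
  ⟨fun z => by simp [hμ.1, hν.1, zpow_add], fun n => by simp [hμ.2, hν.2]⟩

theorem Good.zpow {k : ℤ} {μ : Γ →* ℂˣ} (hμ : E.Good k μ) (a : ℤ) :
    E.Good (k * a) (μ ^ a) :=
  ⟨fun z => by simp [hμ.1, zpow_mul], fun n => by simp [hμ.2]⟩

theorem Good.inv {k : ℤ} {μ : Γ →* ℂˣ} (hμ : E.Good k μ) : E.Good (-k) μ⁻¹ :=
  ⟨fun z => by simp [hμ.1], fun n => by simp [hμ.2]⟩

theorem Good.congr {k l : ℤ} {μ : Γ →* ℂˣ} (hμ : E.Good k μ) (h : k = l) : E.Good l μ := h ▸ hμ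

variable (E)

theorem exists_eq_s_mul {γ δ : Γ} (h : E.π γ = E.π δ) : ∃ z, γ = E.s z * δ := by
  obtain ⟨z, hz⟩ := E.exists_s (γ * δ⁻¹) (by simp [h])
  exact ⟨z, by rw [hz]; group⟩

theorem exists_eq_s_mul_ι {γ : Γ} (h : E.π γ ∈ N) : ∃ z, γ = E.s z * E.ι ⟨E.π γ, h⟩ :=
  E.exists_eq_s_mul (by rw [E.π_ι])

theorem ι_inj : Function.Injective E.ι := fun a b h => by
  ext; rw [← E.π_ι a, ← E.π_ι b, h]

theorem ι_range_normal : E.ι.range.Normal := ⟨by
  rintro _ ⟨n, rfl⟩ γ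
  exact ⟨_, (E.conj_ι γ n).symm⟩⟩

theorem s_mem_center (z : ℂˣ) : E.s z ∈ Subgroup.center Γ :=
  Subgroup.mem_center_iff.2 fun γ => (E.s_comm z γ).symm

theorem eq_one_of_s_eq_ι {z : ℂˣ} {n : N} (h : E.s z = E.ι n) : z = 1 := by
  have h1 : (n : G) = 1 := by rw [← E.π_ι n, ← h, E.π_s]
  have h2 : n = 1 := Subtype.ext h1
  rw [h2, map_one] at h
  exact E.s_inj (h.trans (map_one _).symm)

variable {E} in
/-- A character trivial on scalars and on `N` comes from `G ⧸ N`, so is killed by the index. -/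
theorem Good.pow_index_eq_one {β : Γ →* ℂˣ} (hβ : E.Good 0 β) (γ : Γ) :
    β γ ^ N.index = 1 := by
  have h : E.π (γ ^ N.index) ∈ N := by rw [map_pow]; exact N.pow_index_mem _
  obtain ⟨z, hz⟩ := E.exists_eq_s_mul_ι h
  rw [← map_pow, hz, map_mul, hβ.1, hβ.2]; simp

variable {E} in
/-- A character trivial on scalars and on `N` factors through `π`. -/
theorem Good.exists_factor {β : Γ →* ℂˣ} (hβ : E.Good 0 β) :
    ∃ b : G →* ℂˣ, (∀ γ, b (E.π γ) = β γ) ∧ ∀ n : N, b n = 1 := by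
  have hk : E.π.ker ≤ β.ker := by
    intro γ hγ
    obtain ⟨z, rfl⟩ := E.exists_s γ hγ
    simp [MonoidHom.mem_ker, hβ.1]
  refine ⟨E.π.liftOfSurjective E.π_surj ⟨β, hk⟩, fun γ => ?_, fun n => ?_⟩
  · exact MonoidHom.liftOfRightInverse_comp_apply _ _ _ _ _
  · rw [← E.π_ι n, ← hβ.2 n]
    exact MonoidHom.liftOfRightInverse_comp_apply _ _ _ _ _

/-- A section over `P` gives the "scalar part" homomorphism on the preimage of `P`. -/
theorem exists_hom_of_section (P : Subgroup G) (t : P →* Γ) (ht : ∀ p, E.π (t p) = p) :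
    ∃ lam : P.comap E.π →* ℂˣ, ∀ γ : P.comap E.π,
      (γ : Γ) = E.s (lam γ) * t ⟨E.π γ, γ.2⟩ := by
  have hex : ∀ γ : P.comap E.π, ∃ z, (γ : Γ) = E.s z * t ⟨E.π γ, γ.2⟩ := fun γ =>
    E.exists_eq_s_mul (by rw [ht])
  choose lam hlam using hex
  refine ⟨MonoidHom.mk' lam (fun a b => ?_), hlam⟩
  apply E.s_inj
  have h1 := hlam (a * b)
  have h2 : (⟨E.π ((a * b : P.comap E.π) : Γ), (a * b).2⟩ : P) =
      ⟨E.π a, a.2⟩ * ⟨E.π b, b.2⟩ := by ext; simp
  rw [h2, map_mul, Subgroup.coe_mul] at h1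
  have h3 : (a : Γ) * b = E.s (lam a * lam b) * (t ⟨E.π a, a.2⟩ * t ⟨E.π b, b.2⟩) := by
    conv_lhs => rw [hlam a, hlam b]
    rw [map_mul, mul_assoc, ← mul_assoc (t _) (E.s _), ← E.s_comm]
    simp only [mul_assoc]
  exact mul_right_cancel (h1.symm.trans h3)

/-- Transfer: a section over `P ≥ N` extending `ι` gives a character of `Γ` that is the
`[G : P]`-th power map on scalars and trivial on `N`. -/
theorem exists_good_of_section (P : Subgroup G) [P.FiniteIndex] (hNP : N ≤ P) (t : P →* Γ)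
    (ht : ∀ p, E.π (t p) = p) (htN : ∀ n : N, t ⟨n, hNP n.2⟩ = E.ι n) :
    ∃ μ : Γ →* ℂˣ, E.Good P.index μ := by
  classical
  obtain ⟨lam, hlam⟩ := E.exists_hom_of_section P t ht
  have hidx : (P.comap E.π).index = P.index := P.index_comap_of_surjective E.π_surj
  have : (P.comap E.π).FiniteIndex := ⟨by rw [hidx]; exact Subgroup.FiniteIndex.index_ne_zero⟩
  have hs : ∀ z (h : E.s z ∈ P.comap E.π), lam ⟨E.s z, h⟩ = z := by
    intro z h
    have h1 := hlam ⟨E.s z, h⟩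
    have h2 : (⟨E.π (E.s z), h⟩ : P) = 1 := by ext; simp [E.π_s]
    simp only at h1
    rw [h2, map_one, mul_one] at h1
    exact (E.s_inj h1).symm
  have hι : ∀ (n : N) (h : E.ι n ∈ P.comap E.π), lam ⟨E.ι n, h⟩ = 1 := by
    intro n h
    have h1 := hlam ⟨E.ι n, h⟩
    have h2 : (⟨E.π (E.ι n), h⟩ : P) = ⟨n, hNP n.2⟩ := by ext; simp [E.π_ι]
    simp only at h1
    rw [h2, htN] at h1
    apply E.s_inj
    rw [map_one]
    exact (mul_eq_right.1 h1.symm)
  refine ⟨MonoidHom.transfer lam, fun z => ?_, fun n => ?_⟩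
  · rw [MonoidHom.transfer_eq_pow lam (E.s z) (fun k g₀ _ => by
      rw [← map_pow, mul_assoc, E.s_comm, inv_mul_cancel_left])]
    have : (⟨E.s z ^ (P.comap E.π).index, MonoidHom.transfer_eq_pow_aux (E.s z) (fun k g₀ _ => by
      rw [← map_pow, mul_assoc, E.s_comm, inv_mul_cancel_left])⟩ : P.comap E.π) =
        ⟨E.s (z ^ P.index), by simp [Subgroup.mem_comap, E.π_s]⟩ := by
      ext; simp [hidx]
    rw [this, hs]; simp
  · let := (P.comap E.π).fintypeQuotientOfFiniteIndex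
    rw [MonoidHom.transfer_eq_prod_quotient_orbitRel_zpowers_quot]
    refine Finset.prod_eq_one fun q _ => ?_
    have h1 := E.conj_ι q.out.out⁻¹ (n ^ Function.minimalPeriod (E.ι n • ·) q.out)
    rw [inv_inv, map_pow] at h1
    have := hι _ (h1 ▸ QuotientGroup.out_conj_pow_minimalPeriod_mem (P.comap E.π) (E.ι n) q.out)
    rw [← this]
    congr 1
    exact Subtype.ext h1

theorem exists_good_index [N.FiniteIndex] : ∃ μ : Γ →* ℂˣ, E.Good N.index μ :=
  E.exists_good_of_section N le_rfl E.ι E.π_ι (fun _ => rfl)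

/-- A global section extending `ι` gives a `Good 1` character. -/
theorem exists_good_one_of_section (t : G →* Γ) (ht : ∀ g, E.π (t g) = g)
    (htN : ∀ n : N, t n = E.ι n) :
    ∃ μ : Γ →* ℂˣ, E.Good 1 μ ∧ ∀ γ, γ = E.s (μ γ) * t (E.π γ) := by
  obtain ⟨lam, hlam⟩ := E.exists_hom_of_section ⊤ (t.comp (⊤ : Subgroup G).subtype)
    (fun p => ht p)
  let j : Γ →* (⊤ : Subgroup G).comap E.π := (MonoidHom.id Γ).codRestrict _ (fun _ => trivial)
  have h : ∀ γ, γ = E.s (lam (j γ)) * t (E.π γ) := fun γ => hlam (j γ)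
  refine ⟨lam.comp j, ⟨fun z => ?_, fun n => ?_⟩, h⟩
  · have h1 := h (E.s z)
    rw [E.π_s, map_one, mul_one] at h1
    simpa using (E.s_inj h1).symm
  · have h1 := h (E.ι n)
    rw [E.π_ι, htN] at h1
    apply E.s_inj
    rw [map_one]
    exact (mul_eq_right.1 h1.symm)

variable {E} in
/-- A `Good 1` character gives a global section extending `ι`. -/
theorem Good.exists_section {μ : Γ →* ℂˣ} (hμ : E.Good 1 μ) :
    ∃ t : G →* Γ, (∀ g, E.π (t g) = g) ∧ (∀ n : N, t n = E.ι n) ∧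
      ∀ γ, γ = E.s (μ γ) * t (E.π γ) := by
  let f : Γ →* Γ := MonoidHom.mk' (fun γ => (E.s (μ γ))⁻¹ * γ) (fun a b => by
    rw [map_mul μ, mul_comm (μ a), map_mul E.s, mul_inv_rev, ← map_inv E.s (μ b),
      mul_assoc (E.s (μ a))⁻¹ a, ← mul_assoc a, ← E.s_comm _ a]
    simp only [mul_assoc])
  have hk : E.π.ker ≤ f.ker := by
    intro γ hγ
    obtain ⟨z, rfl⟩ := E.exists_s γ hγ
    simp [MonoidHom.mem_ker, f, hμ.1]
  have hf : ∀ γ, E.π.liftOfSurjective E.π_surj ⟨f, hk⟩ (E.π γ) = (E.s (μ γ))⁻¹ * γ := fun γ =>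
    MonoidHom.liftOfRightInverse_comp_apply _ _ _ _ _
  refine ⟨E.π.liftOfSurjective E.π_surj ⟨f, hk⟩, fun g => ?_, fun n => ?_, fun γ => ?_⟩
  · obtain ⟨γ, rfl⟩ := E.π_surj g
    rw [hf]; simp [E.π_s]
  · rw [← E.π_ι n, hf, hμ.2]; simp
  · rw [hf]; simp

/-- If `G ⧸ N` is cyclic the extension splits. -/
theorem exists_good_one_of_isCyclic (hc : IsCyclic (G ⧸ N)) : ∃ μ : Γ →* ℂˣ, E.Good 1 μ := by
  have := E.ι_range_normal
  let f : Γ ⧸ E.ι.range →* G ⧸ N := QuotientGroup.map _ _ E.π (by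
    rintro _ ⟨n, rfl⟩
    simp [Subgroup.mem_comap, E.π_ι])
  have hf : f.ker ≤ Subgroup.center _ := by
    intro x hx
    obtain ⟨γ, rfl⟩ := QuotientGroup.mk_surjective x
    have h1 : E.π γ ∈ N := by
      simpa [f, MonoidHom.mem_ker] using hx
    obtain ⟨z, hz⟩ := E.exists_eq_s_mul_ι h1
    have h2 : (γ : Γ ⧸ E.ι.range) = (E.s z : Γ) := by
      have h3 : ((E.ι ⟨E.π γ, h1⟩ : Γ) : Γ ⧸ E.ι.range) = 1 :=
        (QuotientGroup.eq_one_iff _).2 (MonoidHom.mem_range.2 ⟨_, rfl⟩)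
      rw [hz, QuotientGroup.mk_mul, h3, mul_one]
    rw [h2, Subgroup.mem_center_iff]
    intro y
    obtain ⟨δ, rfl⟩ := QuotientGroup.mk_surjective y
    rw [← QuotientGroup.mk_mul, ← QuotientGroup.mk_mul, E.s_comm]
  let := commGroupOfCyclicCenterQuotient f hf
  have hinj : Function.Injective ((QuotientGroup.mk' E.ι.range).comp E.s) := by
    rw [injective_iff_map_eq_one]
    intro z hz
    obtain ⟨n, hn⟩ : E.s z ∈ E.ι.range := by simpa using hz
    exact E.eq_one_of_s_eq_ι hn.symm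
  obtain ⟨h, hh⟩ := units_hom_extend _ hinj (MonoidHom.id ℂˣ)
  refine ⟨h.comp (QuotientGroup.mk' E.ι.range), fun z => ?_, fun n => ?_⟩
  · simpa using hh z
  · have : (QuotientGroup.mk' E.ι.range) (E.ι n) = 1 := (QuotientGroup.eq_one_iff _).2 ⟨_, rfl⟩
    rw [MonoidHom.comp_apply, this, map_one]

/-- Bezout. -/
theorem exists_good_one_of_coprime {k l : ℕ} {μ ν : Γ →* ℂˣ} (hμ : E.Good k μ)
    (hν : E.Good l ν) (h : Nat.Coprime k l) : ∃ lam : Γ →* ℂˣ, E.Good 1 lam := by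
  refine ⟨μ ^ Nat.gcdA k l * ν ^ Nat.gcdB k l, ((hμ.zpow _).mul (hν.zpow _)).congr ?_⟩
  rw [← Nat.gcd_eq_gcd_ab, h]; rfl

/-- If `Good k` is realised for some `k ≠ 0` and, for each prime `p ∣ k`, `Good l` is realised for
some `l` prime to `p`, then the extension splits. -/
theorem exists_good_one_of_forall_prime {k : ℕ} (hk : k ≠ 0) {μ : Γ →* ℂˣ} (hμ : E.Good k μ)
    (h : ∀ p : ℕ, p.Prime → p ∣ k → ∃ (l : ℕ) (ν : Γ →* ℂˣ), E.Good l ν ∧ Nat.Coprime l p) :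
    ∃ lam : Γ →* ℂˣ, E.Good 1 lam := by
  induction k using Nat.strong_induction_on generalizing μ with
  | _ k ih =>
    by_cases h1 : k = 1
    · subst h1; exact ⟨μ, by simpa using hμ⟩
    obtain ⟨p, hp, hpk⟩ := Nat.exists_prime_and_dvd h1
    obtain ⟨l, ν, hν, hl⟩ := h p hp hpk
    have hg : E.Good (Nat.gcd k l : ℕ) (μ ^ Nat.gcdA k l * ν ^ Nat.gcdB k l) :=
      ((hμ.zpow _).mul (hν.zpow _)).congr (Nat.gcd_eq_gcd_ab k l).symm
    have hlt : Nat.gcd k l < k := by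
      refine lt_of_le_of_ne (Nat.gcd_le_left _ (Nat.pos_of_ne_zero hk)) fun he => ?_
      have : p ∣ l := hpk.trans (he ▸ Nat.gcd_dvd_right k l)
      exact hp.one_lt.ne' (Nat.eq_one_of_dvd_coprimes hl this dvd_rfl)
    exact ih _ hlt (Nat.gcd_ne_zero_left hk) hg
      (fun q hq hqk => h q hq (hqk.trans (Nat.gcd_dvd_left k l)))

/-- Given `ν` that is `Good k` with `k` prime to the index, there is a `Good 1` character `lam`
with `lam ^ k = ν`. -/
theorem exists_good_one_pow_eq [N.FiniteIndex] {k : ℕ} {ν : Γ →* ℂˣ} (hν : E.Good k ν)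
    (h : Nat.Coprime N.index k) : ∃ lam : Γ →* ℂˣ, E.Good 1 lam ∧ ∀ γ, lam γ ^ k = ν γ := by
  obtain ⟨τ, hτ⟩ := E.exists_good_index
  obtain ⟨l0, hl0⟩ := E.exists_good_one_of_coprime hτ hν h
  have hβ : E.Good 0 (l0 ^ (k : ℤ) * ν⁻¹) := ((hl0.zpow _).mul hν.inv).congr (by ring)
  refine ⟨l0 * (l0 ^ (k : ℤ) * ν⁻¹) ^ (-Nat.gcdB N.index k),
    (hl0.mul (hβ.zpow _)).congr (by ring), fun γ => ?_⟩
  have h1 := hβ.pow_index_eq_one γ
  have h2 : (1 : ℤ) = N.index * Nat.gcdA N.index k + k * Nat.gcdB N.index k := by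
    rw [← Nat.gcd_eq_gcd_ab, h]; rfl
  set b := (l0 ^ (k : ℤ) * ν⁻¹) γ with hb
  have h3 : b ^ ((k : ℤ) * Nat.gcdB N.index k) = b := by
    conv_rhs => rw [← zpow_one b, h2, zpow_add, zpow_mul, zpow_natCast, h1, one_zpow, one_mul]
  have h4 : (l0 * (l0 ^ (k : ℤ) * ν⁻¹) ^ (-Nat.gcdB N.index k)) γ =
      l0 γ * b ^ (-Nat.gcdB N.index k) := by simp [hb]
  rw [h4, mul_pow, ← zpow_natCast (b ^ _), ← zpow_mul, neg_mul, mul_comm (Nat.gcdB _ _), zpow_neg,
    h3, hb]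
  simp

/-- Two `Good 1` characters whose `k`-th powers agree, `k` prime to the index, are equal. -/
theorem eq_of_good_one_of_pow_eq {k : ℕ} {μ ν : Γ →* ℂˣ} (hμ : E.Good 1 μ) (hν : E.Good 1 ν)
    (h : Nat.Coprime N.index k) (hk : ∀ γ, μ γ ^ k = ν γ ^ k) : μ = ν := by
  have hβ : E.Good 0 (μ * ν⁻¹) := (hμ.mul hν.inv).congr (by ring)
  ext1 γ
  have h1 := hβ.pow_index_eq_one γ
  have h2 : ((μ * ν⁻¹) γ) ^ k = 1 := by simp [mul_pow, hk]
  have h3 := (pow_gcd_eq_one.2 ⟨h1, h2⟩)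
  rw [h, pow_one] at h3
  simpa [mul_inv_eq_one] using h3

end ProjExt

end CL.Char
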