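import Cfsg.Agent.Char.ProjGroup

/-!
# The projective representation attached to an invariant irreducible character
-/

set_option autoImplicit false

namespace CL.Char

open Cfsg Module

universe u v

section reps

variable {G : Type*} [Group G] {V W : Type*} [AddCommGroup V] [Module ℂ V] [FiniteDimensional ℂ V]
  [AddCommGroup W] [Module ℂ W] [FiniteDimensional ℂ W]

/-- A representation with the same character as an irreducible one is equivalent to it. -/
theorem nonempty_equiv_of_isIrreducible_of_character_eq [Finite G] (ρ : Representation ℂ G V)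
    (σ : Representation ℂ G W) [ρ.IsIrreducible] (h : ρ.character = σ.character) :
    Nonempty (ρ.Equiv σ) := by
  classical
  let := Fintype.ofFinite G
  have : Invertible (Nat.card G : ℂ) := invertibleOfNonzero (by
    exact_mod_cast Nat.card_pos.ne')
  have h1 := Representation.card_inv_mul_sum_char_mul_char_eq_finrank ρ σ
  have h2 := Representation.card_inv_mul_sum_char_mul_char_eq_finrank ρ ρ
  rw [← h, h2, Representation.IsIrreducible.finrank_intertwiningMap_self] at h1
  have h3 : finrank ℂ (ρ.IntertwiningMap σ) = 1 := by exact_mod_cast h1.symm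
  have : Nontrivial (ρ.IntertwiningMap σ) := Module.nontrivial_of_finrank_eq_succ h3
  obtain ⟨f, hf⟩ := exists_ne (0 : ρ.IntertwiningMap σ)
  have hinj := (Representation.IsIrreducible.injective_or_eq_zero f).resolve_right hf
  have hdim : finrank ℂ V = finrank ℂ W := by
    have := congrFun h 1
    simpa using this
  have hsurj : Function.Surjective f.toLinearMap :=
    (LinearMap.injective_iff_surjective_of_finrank_eq_finrank hdim).1 hinj
  exact ⟨f.ofBijective ⟨hinj, hsurj⟩⟩

/-- Schur's lemma, in elementary form. -/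
theorem proj_schur (ρ : Representation ℂ G V) [ρ.IsIrreducible] (A : V →ₗ[ℂ] V)
    (hA : ∀ g, A * ρ g = ρ g * A) : ∃ c : ℂ, A = c • (1 : V →ₗ[ℂ] V) := by
  obtain ⟨c, hc⟩ :=
    (Representation.IsIrreducible.algebraMap_intertwiningMap_bijective_of_isAlgClosed
      (ρ := ρ)).2 ⟨A, hA⟩
  refine ⟨c, ?_⟩
  have := congrArg Representation.IntertwiningMap.toLinearMap hc
  rw [Algebra.algebraMap_eq_smul_one] at this
  exact this.symm

omit [FiniteDimensional ℂ V] in
theorem proj_nontrivial (ρ : Representation ℂ G V) [h : ρ.IsIrreducible] : Nontrivial V := by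
  by_contra hV
  rw [not_nontrivial_iff_subsingleton] at hV
  have : (⊥ : Subrepresentation ρ) = ⊤ := by
    ext v
    have : v = 0 := Subsingleton.elim _ _
    subst this
    simp
  exact bot_ne_top this

omit [FiniteDimensional ℂ V] in
/-- If the restriction along a homomorphism is irreducible, so is the representation. -/
theorem isIrreducible_of_comp {H : Type*} [Group H] (ρ : Representation ℂ G V) (f : H →* G)
    [h : Representation.IsIrreducible (ρ.comp f : Representation ℂ H V)] : ρ.IsIrreducible := by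
  have hV := proj_nontrivial (ρ.comp f : Representation ℂ H V)
  have hnt : (⊥ : Subrepresentation ρ) ≠ ⊤ := by
    intro he
    have := congrArg Subrepresentation.toSubmodule he
    exact bot_ne_top (α := Submodule ℂ V) this
  have : Nontrivial (Subrepresentation ρ) := ⟨⊥, ⊤, hnt⟩
  refine ⟨fun U => ?_⟩
  let U' : Subrepresentation (ρ.comp f : Representation ℂ H V) :=
    ⟨U.toSubmodule, fun x v hv => U.apply_mem_toSubmodule (f x) hv⟩
  rcases eq_bot_or_eq_top U' with h1 | h1
  · left
    have h2 : U'.toSubmodule = _ := congrArg Subrepresentation.toSubmodule h1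
    exact Subrepresentation.ext h2
  · right
    have h2 : U'.toSubmodule = _ := congrArg Subrepresentation.toSubmodule h1
    exact Subrepresentation.ext h2

/-- The determinantal character computed from any irreducible representation. -/
theorem detChar_character_of_isIrreducible [Finite G] {n : ℕ}
    (ρ : Representation ℂ G (Fin n → ℂ)) [ρ.IsIrreducible] :
    detChar ρ.character = fun g => LinearMap.det (ρ g) := by
  have h : IsCharacter G ρ.character := ⟨n, ρ, rfl⟩
  unfold detChar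
  rw [dif_pos h]
  have hs := Classical.choose_spec (Classical.choose_spec h)
  obtain ⟨e⟩ := nonempty_equiv_of_isIrreducible_of_character_eq ρ _ hs.symm
  funext g
  rw [← e.conj_apply_self g, LinearEquiv.conj_apply, LinearMap.comp_assoc]
  exact LinearMap.det_conj (ρ g) e.toLinearEquiv

/-- The determinant of a representation, as a homomorphism to `ℂˣ`. -/
noncomputable def repDet (ρ : Representation ℂ G V) : G →* ℂˣ :=
  ((LinearMap.det : (V →ₗ[ℂ] V) →* ℂ).comp ρ).toHomUnits

omit [FiniteDimensional ℂ V] in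
theorem coe_repDet (ρ : Representation ℂ G V) (g : G) :
    (repDet ρ g : ℂ) = LinearMap.det (ρ g) := rfl

end reps

/-- The projective representation data of an invariant irreducible character `ϑ` of `N`. -/
structure ProjRep {G : Type u} [Group G] (N : Subgroup G) [hN : N.Normal] (ϑ : N → ℂ)
    (Γ : Type v) [Group Γ] extends ProjExt N Γ where
  d : ℕ
  R : Representation ℂ Γ (Fin d → ℂ)
  irr : Representation.IsIrreducible (R.comp ι : Representation ℂ N (Fin d → ℂ))
  char_ι : ∀ n, R.character (ι n) = ϑ n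
  R_s : ∀ z, R (s z) = (z : ℂ) • (1 : (Fin d → ℂ) →ₗ[ℂ] (Fin d → ℂ))

section construction

variable {G : Type u} [Group G] (N : Subgroup G) [hN : N.Normal] {d : ℕ}
  (ρ : Representation ℂ N (Fin d → ℂ))

/-- Pairs `(g, A)` with `A` intertwining `ρ` and its conjugate by `g`. -/
def projGroup : Subgroup (G × (Module.End ℂ (Fin d → ℂ))ˣ) where
  carrier := {p | ∀ n : N, (p.2 : Module.End ℂ (Fin d → ℂ)) * ρ n =
    ρ ⟨p.1 * n * p.1⁻¹, hN.conj_mem _ n.2 _⟩ * p.2}
  one_mem' := by
    intro n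
    simp
  mul_mem' := by
    intro a b ha hb n
    have h1 := hb n
    have h2 := ha ⟨b.1 * n * b.1⁻¹, hN.conj_mem _ n.2 _⟩
    simp only [Prod.snd_mul, Units.val_mul, Prod.fst_mul]
    rw [mul_assoc, h1, ← mul_assoc, h2, mul_assoc]
    congr 3
    group
  inv_mem' := by
    intro a ha n
    have h1 := ha ⟨a.1⁻¹ * n * a.1⁻¹⁻¹, hN.conj_mem _ n.2 _⟩
    have h2 : (⟨a.1 * (a.1⁻¹ * n * a.1⁻¹⁻¹) * a.1⁻¹, hN.conj_mem _ (hN.conj_mem _ n.2 _) _⟩ : N)
        = n := by ext; simp only; group
    simp only at h1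
    rw [h2] at h1
    simp only [Prod.snd_inv, Prod.fst_inv]
    rw [Units.inv_mul_eq_iff_eq_mul, ← mul_assoc, h1, mul_assoc, Units.mul_inv, mul_one]

/-- Existence of the projective representation data. -/
theorem exists_projRep [Finite N] (ϑ : N → ℂ) (hϑ : IsIrrCharacter N ϑ)
    (hinv : ∀ (g : G) (n : N), ϑ ⟨g * n * g⁻¹, hN.conj_mem (n : G) n.2 g⟩ = ϑ n) :
    ∃ (Γ : Type u) (_ : Group Γ), Nonempty (ProjRep N ϑ Γ) := by
  obtain ⟨d, ρ, hirr, rfl⟩ := hϑ
  have hV := proj_nontrivial ρ
  let Γ := projGroup N ρ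
  let sc : ℂˣ →* (Module.End ℂ (Fin d → ℂ))ˣ :=
    Units.map (algebraMap ℂ (Module.End ℂ (Fin d → ℂ))).toMonoidHom
  have hsc : ∀ z, (sc z : Module.End ℂ (Fin d → ℂ)) = (z : ℂ) • 1 := fun z =>
    Algebra.algebraMap_eq_smul_one _
  let s : ℂˣ →* Γ := ((1 : ℂˣ →* G).prod sc).codRestrict Γ (fun z n => by simp [hsc])
  let ι : N →* Γ := (N.subtype.prod ρ.toHomUnits).codRestrict Γ (fun m n => by
    simp only [MonoidHom.prod_apply, Subgroup.coe_subtype, MonoidHom.coe_toHomUnits]
    rw [← map_mul, ← map_mul]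
    congr 1
    ext; simp)
  let π : Γ →* G := (MonoidHom.fst _ _).comp Γ.subtype
  let R : Representation ℂ Γ (Fin d → ℂ) :=
    (Units.coeHom _).comp ((MonoidHom.snd _ _).comp Γ.subtype)
  refine ⟨Γ, inferInstance, ⟨
    { π := π, s := s, ι := ι, π_surj := ?_, s_inj := ?_, π_s := fun _ => rfl, exists_s := ?_,
      s_comm := ?_, π_ι := fun _ => rfl, conj_ι := ?_, d := d, R := R, irr := hirr,
      char_ι := fun _ => rfl, R_s := hsc }⟩⟩
  · intro g
    let σ : Representation ℂ N (Fin d → ℂ) := ρ.comp (MulAut.conjNormal g).toMonoidHom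
    have hch : ρ.character = σ.character := by
      funext n
      exact (hinv g n).symm
    obtain ⟨e⟩ := nonempty_equiv_of_isIrreducible_of_character_eq ρ σ hch
    refine ⟨⟨(g, LinearMap.GeneralLinearGroup.ofLinearEquiv e.toLinearEquiv), fun n => ?_⟩, rfl⟩
    exact e.isIntertwining' n
  · intro z w h
    have h1 : (sc z : Module.End ℂ (Fin d → ℂ)) = sc w :=
      congrArg (fun γ : Γ => (γ.1.2 : Module.End ℂ (Fin d → ℂ))) h
    rw [hsc, hsc] at h1
    exact Units.ext (smul_left_injective ℂ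
      (one_ne_zero (α := Module.End ℂ (Fin d → ℂ))) h1)
  · rintro ⟨⟨g, A⟩, hA⟩ hg
    change g = 1 at hg
    subst hg
    obtain ⟨c, hc⟩ := proj_schur ρ (A : Module.End ℂ (Fin d → ℂ)) (fun n => by
      simpa using hA n)
    have hc0 : c ≠ 0 := by
      rintro rfl
      rw [zero_smul] at hc
      exact A.ne_zero hc
    refine ⟨Units.mk0 c hc0, Subtype.ext (Prod.ext rfl (Units.ext ?_))⟩
    change (sc _ : Module.End ℂ (Fin d → ℂ)) = A
    rw [hsc, hc]; rfl
  · intro z γ
    refine Subtype.ext (Prod.ext ?_ (Units.ext ?_))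
    · change 1 * γ.1.1 = γ.1.1 * 1
      simp
    · change (sc z : Module.End ℂ (Fin d → ℂ)) * γ.1.2 = γ.1.2 * sc z
      rw [hsc]; simp
  · intro γ n
    refine Subtype.ext (Prod.ext rfl (Units.ext ?_))
    change (γ.1.2 : Module.End ℂ (Fin d → ℂ)) * ρ n * (γ.1.2⁻¹ : (Module.End ℂ (Fin d → ℂ))ˣ) =
      ρ ⟨γ.1.1 * n * γ.1.1⁻¹, _⟩
    rw [γ.2 n, mul_assoc, Units.mul_inv, mul_one]

end construction

namespace ProjRep

variable {G : Type u} [Group G] {N : Subgroup G} [hN : N.Normal] {ϑ : N → ℂ} {Γ : Type v}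
  [Group Γ] (E : ProjRep N ϑ Γ)

theorem apply_one : ϑ 1 = E.d := by
  rw [← E.char_ι, map_one, Representation.char_one]; simp

theorem d_ne_zero : E.d ≠ 0 := by
  have := E.irr
  have := proj_nontrivial (E.R.comp E.ι : Representation ℂ N (Fin E.d → ℂ))
  intro h
  have h1 : finrank ℂ (Fin E.d → ℂ) = 0 := by simp [h]
  exact (Module.finrank_pos (R := ℂ) (M := Fin E.d → ℂ)).ne' h1

theorem character_comp_ι :
    Representation.character (E.R.comp E.ι : Representation ℂ N (Fin E.d → ℂ)) = ϑ :=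
  funext E.char_ι

theorem isIrreducible_R : E.R.IsIrreducible := by
  have := E.irr
  exact isIrreducible_of_comp E.R E.ι

theorem isIrr_R : IsIrrCharacter Γ E.R.character := ⟨_, E.R, E.isIrreducible_R, rfl⟩

theorem char_s_mul (z : ℂˣ) (γ : Γ) : E.R.character (E.s z * γ) = z * E.R.character γ := by
  simp [Representation.character, E.R_s]

theorem repDet_s (z : ℂˣ) : repDet E.R (E.s z) = z ^ E.d := by
  ext; simp [coe_repDet, E.R_s]

theorem repDet_ι [Finite N] (n : N) : (repDet E.R (E.ι n) : ℂ) = detChar ϑ n := by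
  have := E.irr
  have h := detChar_character_of_isIrreducible
    (E.R.comp E.ι : Representation ℂ N (Fin E.d → ℂ))
  rw [E.character_comp_ι] at h
  rw [h]
  rfl

/-- A homomorphism `t : H → Γ` through which `ι` factors gives an irreducible representation. -/
theorem isIrreducible_comp {H : Type*} [Group H] (t : H →* Γ) (j : N →* H)
    (h : ∀ n, t (j n) = E.ι n) :
    Representation.IsIrreducible (E.R.comp t : Representation ℂ H (Fin E.d → ℂ)) := by
  have h1 : ((E.R.comp t).comp j : Representation ℂ N (Fin E.d → ℂ)) = E.R.comp E.ι := by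
    ext1 n; simp [h]
  have : Representation.IsIrreducible
      ((E.R.comp t).comp j : Representation ℂ N (Fin E.d → ℂ)) := h1 ▸ E.irr
  exact isIrreducible_of_comp _ j

theorem isIrr_comp {H : Type*} [Group H] (t : H →* Γ) (j : N →* H)
    (h : ∀ n, t (j n) = E.ι n) : IsIrrCharacter H (fun x => E.R.character (t x)) :=
  ⟨_, E.R.comp t, E.isIrreducible_comp t j h, rfl⟩

theorem detChar_comp {H : Type*} [Group H] [Finite H] (t : H →* Γ) (j : N →* H)
    (h : ∀ n, t (j n) = E.ι n) :
    detChar (fun x => E.R.character (t x)) = fun x => (repDet E.R (t x) : ℂ) := by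
  have := E.isIrreducible_comp t j h
  exact detChar_character_of_isIrreducible (E.R.comp t)

/-- An extension of `ϑ` along `j : N → H`, compatible with `f : H → G`, comes from a lift
`t : H → Γ` of `f`. -/
theorem exists_lift [Finite N] {H : Type*} [Group H] (f : H →* G) (j : N →* H)
    (hj : ∀ n, f (j n) = n)
    (hconj : ∀ (x : H) (n : N), x * j n * x⁻¹ = j ⟨f x * n * (f x)⁻¹, hN.conj_mem _ n.2 _⟩)
    (η : H → ℂ) (hη : IsCharacter H η) (hext : ∀ n, η (j n) = ϑ n) :
    ∃ t : H →* Γ, (∀ x, E.π (t x) = f x) ∧ (∀ n, t (j n) = E.ι n) ∧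
      ∀ x, η x = E.R.character (t x) := by
  obtain ⟨m, σ, rfl⟩ := hη
  have := E.irr
  have hV := proj_nontrivial (E.R.comp E.ι : Representation ℂ N (Fin E.d → ℂ))
  obtain ⟨e⟩ := nonempty_equiv_of_isIrreducible_of_character_eq
    (E.R.comp E.ι : Representation ℂ N (Fin E.d → ℂ))
    (σ.comp j : Representation ℂ N (Fin m → ℂ)) (by
      rw [E.character_comp_ι]; funext n; exact (hext n).symm)
  let σ' : Representation ℂ H (Fin E.d → ℂ) :=
    (e.toLinearEquiv.symm.conjAlgEquiv ℂ).toMonoidHom.comp σ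
  have hσ'j : ∀ n, σ' (j n) = E.R (E.ι n) := fun n => e.symm.conj_apply_self n
  have hσ'ch : ∀ x, σ.character x = σ'.character x := fun x =>
    (LinearMap.trace_conj' (σ x) e.toLinearEquiv.symm).symm
  have huniq : ∀ γ δ : Γ, E.π γ = E.π δ → E.R γ = E.R δ → γ = δ := by
    intro γ δ h1 h2
    obtain ⟨z, rfl⟩ := E.exists_eq_s_mul h1
    rw [map_mul, E.R_s, smul_mul_assoc, one_mul] at h2
    have h3 : E.R δ ≠ 0 := ((Group.isUnit δ).map E.R).ne_zero
    have h4 : (z : ℂ) = 1 := by
      have h5 : (z : ℂ) • E.R δ = (1 : ℂ) • E.R δ := by rw [one_smul]; exact h2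
      exact smul_left_injective ℂ h3 h5
    rw [show z = 1 from Units.ext h4, map_one, one_mul]
  have hex : ∀ x : H, ∃ γ : Γ, E.π γ = f x ∧ E.R γ = σ' x := by
    intro x
    obtain ⟨γ, hγ⟩ := E.π_surj (f x)
    obtain ⟨c, hc⟩ := proj_schur (E.R.comp E.ι : Representation ℂ N (Fin E.d → ℂ))
      (E.R γ⁻¹ * σ' x) (fun n => by
        have h1 : σ' x * σ' (j n) = σ' (j ⟨f x * n * (f x)⁻¹, hN.conj_mem _ n.2 _⟩) * σ' x := by
          rw [← map_mul, ← map_mul, ← hconj]; congr 1; group
        have h2 : E.R γ⁻¹ * E.R (E.ι ⟨f x * n * (f x)⁻¹, hN.conj_mem _ n.2 _⟩) =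
            E.R (E.ι n) * E.R γ⁻¹ := by
          have h3 := E.conj_ι γ n
          simp only [hγ] at h3
          rw [← h3, ← map_mul, ← map_mul]; congr 1; group
        change E.R γ⁻¹ * σ' x * E.R (E.ι n) = E.R (E.ι n) * (E.R γ⁻¹ * σ' x)
        rw [mul_assoc, ← hσ'j n, h1, hσ'j, ← mul_assoc, h2, hσ'j, mul_assoc])
    have hc0 : c ≠ 0 := by
      rintro rfl
      rw [zero_smul] at hc
      exact (((Group.isUnit γ⁻¹).map E.R).mul ((Group.isUnit x).map σ')).ne_zero hc
    refine ⟨E.s (Units.mk0 c hc0) * γ, by simp [E.π_s, hγ], ?_⟩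
    have h1 : σ' x = E.R γ * (E.R γ⁻¹ * σ' x) := by
      rw [← mul_assoc, ← map_mul]; simp
    rw [h1, hc, map_mul, E.R_s]
    simp
  choose t ht1 ht2 using hex
  refine ⟨MonoidHom.mk' t (fun a b => huniq _ _ ?_ ?_), ht1, fun n => huniq _ _ ?_ ?_,
    fun x => ?_⟩
  · simp [ht1]
  · simp [ht2]
  · simp [ht1, hj, E.π_ι]
  · simp [ht2, hσ'j]
  · rw [hσ'ch]
    simp [Representation.character, ht2]

/-- An extension of `ϑ` to a subgroup `P ≥ N` comes from a section over `P`. -/
theorem exists_section_of_extension [Finite N] (P : Subgroup G) (hNP : N ≤ P) (η : P → ℂ)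
    (hη : IsCharacter P η) (hext : ∀ n : N, η ⟨n, hNP n.2⟩ = ϑ n) :
    ∃ t : P →* Γ, (∀ p, E.π (t p) = p) ∧ (∀ n : N, t ⟨n, hNP n.2⟩ = E.ι n) ∧
      ∀ p, η p = E.R.character (t p) :=
  E.exists_lift P.subtype (Subgroup.inclusion hNP) (fun _ => rfl) (fun _ _ => rfl) η hη hext

theorem exists_good_of_extension [Finite N] (P : Subgroup G) [P.FiniteIndex] (hNP : N ≤ P)
    (η : P → ℂ) (hη : IsCharacter P η) (hext : ∀ n : N, η ⟨n, hNP n.2⟩ = ϑ n) :
    ∃ μ : Γ →* ℂˣ, E.Good P.index μ := by
  obtain ⟨t, h1, h2, -⟩ := E.exists_section_of_extension P hNP η hη hext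
  exact E.exists_good_of_section P hNP t h1 h2

/-- An extension of `ϑ` to `G` corresponds to a `Good 1` character `μ`. -/
theorem exists_good_one_of_extension [Finite G] (η : G → ℂ) (hη : IsCharacter G η)
    (hext : ∀ n : N, η n = ϑ n) :
    ∃ μ : Γ →* ℂˣ, E.Good 1 μ ∧ (∀ γ, E.R.character γ = μ γ * η (E.π γ)) ∧
      ∀ γ, (repDet E.R γ : ℂ) = (μ γ : ℂ) ^ E.d * detChar η (E.π γ) := by
  obtain ⟨t, h1, h2, h3⟩ :=
    E.exists_lift (MonoidHom.id G) N.subtype (fun _ => rfl) (fun _ _ => rfl) η hη hext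
  obtain ⟨μ, hμ, h4⟩ := E.exists_good_one_of_section t h1 h2
  refine ⟨μ, hμ, fun γ => ?_, fun γ => ?_⟩
  · conv_lhs => rw [h4 γ]
    rw [E.char_s_mul, h3]
  · have h5 : η = fun x => E.R.character (t x) := funext h3
    rw [h5, E.detChar_comp t N.subtype h2]
    conv_lhs => rw [h4 γ]
    rw [map_mul, E.repDet_s]
    simp

variable {E} in
/-- A `Good 1` character gives an extension of `ϑ` to `G`. -/
theorem exists_extension_of_good [Finite G] {μ : Γ →* ℂˣ} (hμ : E.Good 1 μ) :
    ∃ η : G → ℂ, IsIrrCharacter G η ∧ (∀ n : N, η n = ϑ n) ∧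
      (∀ γ, E.R.character γ = μ γ * η (E.π γ)) ∧
      ∀ γ, (repDet E.R γ : ℂ) = (μ γ : ℂ) ^ E.d * detChar η (E.π γ) := by
  obtain ⟨t, h1, h2, h4⟩ := hμ.exists_section
  refine ⟨fun x => E.R.character (t x), E.isIrr_comp t N.subtype h2, fun n => ?_, fun γ => ?_,
    fun γ => ?_⟩
  · simp only [h2, E.char_ι]
  · conv_lhs => rw [h4 γ]
    rw [E.char_s_mul]
  · rw [E.detChar_comp t N.subtype h2]
    conv_lhs => rw [h4 γ]
    rw [map_mul, E.repDet_s]
    simp

end ProjRep

end CL.Char
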