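import Cfsg.Agent.Char.Gallagher
import Cfsg.Agent.Char.Orth

/-!
# Fully ramified characters, and norms of restrictions
-/

set_option autoImplicit false

open Cfsg
open scoped ComplexConjugate

namespace CL.Char

variable {G : Type*} [Group G] [Fintype G]

/-- `|H| ‖χ_H‖² ≤ |G| ‖χ‖²`, in the form of a sum decomposition. -/
theorem sum_norm_sq_eq_add (H : Subgroup G) [Fintype H] [DecidablePred (· ∈ H)] (χ : G → ℂ) :
    ∑ g, ‖χ g‖ ^ 2 = ∑ h : H, ‖χ h‖ ^ 2 + ∑ g ∈ Finset.univ.filter (· ∉ H), ‖χ g‖ ^ 2 := by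
  rw [← Finset.sum_filter_add_sum_filter_not Finset.univ (· ∈ H)]
  congr 1
  exact Finset.sum_subtype _ (by simp) _

/-- If `χ` vanishes off `H` then `‖χ_H‖² = [G : H] ‖χ‖²`. -/
theorem classInner_res_of_vanish (H : Subgroup G) [Fintype H] {χ ψ : G → ℂ}
    (h : ∀ g, g ∉ H → χ g = 0) :
    classInner (fun x : H => χ x) (fun x : H => ψ x) = (H.index : ℂ) * classInner χ ψ := by
  classical
  have h1 : ∑ g, χ g * conj (ψ g) = ∑ x : H, χ x * conj (ψ x) := by
    rw [← Finset.sum_filter_add_sum_filter_not Finset.univ (· ∈ H),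
      Finset.sum_eq_zero (s := Finset.univ.filter (· ∉ H)) (fun g hg => by
        rw [h g (by simpa using hg), zero_mul]), add_zero]
    exact Finset.sum_subtype _ (by simp) _
  rw [classInner_def, classInner_def, h1, ← H.card_mul_index, Nat.cast_mul]
  have := natCard_cast_ne_zero H
  have hi : (H.index : ℂ) ≠ 0 := Nat.cast_ne_zero.2 Subgroup.index_ne_zero_of_finite
  field_simp

/-- `‖χ_H‖² = [G : H] ‖χ‖²` forces `χ` to vanish off `H`. -/
theorem vanish_of_classInner_res (H : Subgroup G) [Fintype H] {χ : G → ℂ}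
    (h : classInner (fun x : H => χ x) (fun x : H => χ x) = (H.index : ℂ) * classInner χ χ)
    {g : G} (hg : g ∉ H) : χ g = 0 := by
  classical
  rw [classInner_self_eq, classInner_self_eq, sum_norm_sq_eq_add H, ← H.card_mul_index] at h
  have h1 : (0 : ℝ) < Nat.card H := Nat.cast_pos.2 Nat.card_pos
  have h2 : (0 : ℝ) < H.index := Nat.cast_pos.2 (Nat.pos_of_ne_zero Subgroup.index_ne_zero_of_finite)
  have h3 : (Nat.card H : ℝ)⁻¹ * ∑ x : H, ‖χ x‖ ^ 2 = (H.index : ℝ) * (((Nat.card H * H.index : ℕ) : ℝ)⁻¹ *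
      (∑ h : H, ‖χ h‖ ^ 2 + ∑ g ∈ Finset.univ.filter (· ∉ H), ‖χ g‖ ^ 2)) := by exact_mod_cast h
  push_cast at h3
  field_simp at h3
  have h4 : ∑ g ∈ Finset.univ.filter (· ∉ H), ‖χ g‖ ^ 2 = 0 := by linarith
  have h5 := (Finset.sum_eq_zero_iff_of_nonneg (fun g _ => sq_nonneg ‖χ g‖)).1 h4 g (by simpa using hg)
  simpa using h5

/-- an irreducible character vanishing off `H` whose restriction to `H` is irreducible forces `H = ⊤` -/
theorem eq_top_of_irr_res_of_vanish (H : Subgroup G) {χ : G → ℂ} (hχ : IsIrrCharacter G χ)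
    (hH : IsIrrCharacter H (fun x : H => χ x)) (h : ∀ g, g ∉ H → χ g = 0) : H = ⊤ := by
  classical
  have h1 := classInner_res_of_vanish H (ψ := χ) h
  rw [irr_inner_self hχ, irr_inner_self hH, mul_one] at h1
  exact Subgroup.index_eq_one.1 (by exact_mod_cast h1.symm)

variable {N : Subgroup G} [hN : N.Normal]

omit hN in
theorem vanish_of_res_eq_smul_of_sq {χ : G → ℂ} (hχ : IsIrrCharacter G χ) {ϑ : N → ℂ}
    (hϑ : IsIrrCharacter N ϑ) {e : ℕ} (he : (fun n : N => χ n) = (e : ℂ) • ϑ) (he2 : e ^ 2 = N.index)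
    {g : G} (hg : g ∉ N) : χ g = 0 := by
  classical
  refine vanish_of_classInner_res N ?_ hg
  rw [he, classInner_smul_left, classInner_smul_right, irr_inner_self hϑ, irr_inner_self hχ,
    Complex.conj_natCast, ← he2]
  push_cast
  ring

omit hN in
theorem sq_eq_index_of_vanish {χ : G → ℂ} (hχ : IsIrrCharacter G χ) {ϑ : N → ℂ}
    (hϑ : IsIrrCharacter N ϑ) {e : ℕ} (he : (fun n : N => χ n) = (e : ℂ) • ϑ)
    (h : ∀ g, g ∉ N → χ g = 0) : e ^ 2 = N.index := by
  classical
  have h1 := classInner_res_of_vanish N (ψ := χ) h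
  rw [he, classInner_smul_left, classInner_smul_right, irr_inner_self hϑ, irr_inner_self hχ,
    Complex.conj_natCast, mul_one, mul_one, ← sq] at h1
  exact_mod_cast h1

/-- If `θ` is invariant and `θ^G = e χ` then `e² = [G : N]`. -/
theorem InvChar.sq_eq_index_of_indFun_eq_smul {ϑ : N → ℂ} (hinv : InvChar N ϑ)
    (hϑ : IsIrrCharacter N ϑ) {χ : G → ℂ} (hχ : IsIrrCharacter G χ) {e : ℕ}
    (h : indFun N ϑ = (e : ℂ) • χ) : e ^ 2 = N.index := by
  have h1 := hinv.classInner_indFun_self hϑ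
  rw [h, classInner_smul_left, classInner_smul_right, irr_inner_self hχ, Complex.conj_natCast,
    mul_one, ← sq] at h1
  exact_mod_cast h1

/-- In the fully ramified case `θ^G = e χ`. -/
theorem indFun_eq_smul_of_res_eq_smul_of_sq {χ : G → ℂ} (hχ : IsIrrCharacter G χ) {ϑ : N → ℂ}
    (hϑ : IsIrrCharacter N ϑ) {e : ℕ} (he : (fun n : N => χ n) = (e : ℂ) • ϑ)
    (he2 : e ^ 2 = N.index) : indFun N ϑ = (e : ℂ) • χ := by
  have he0 : (e : ℂ) ≠ 0 := by
    rintro h
    rw [h, zero_smul] at he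
    exact irr_apply_one_ne_zero hχ (by simpa using congrFun he 1)
  have hinv := invChar_of_res_eq_smul (irr_isClassFunction hχ) he0 he
  ext g
  by_cases hg : g ∈ N
  · have h1 := congrFun he ⟨g, hg⟩
    have h2 := hinv.indFun_apply ⟨g, hg⟩
    simp only [Pi.smul_apply, smul_eq_mul] at h1 h2 ⊢
    rw [h2, h1, ← he2]
    push_cast
    ring
  · rw [indFun_eq_zero_of_normal N ϑ hg, Pi.smul_apply,
      vanish_of_res_eq_smul_of_sq hχ hϑ he he2 hg, smul_zero]

/-- An invariant irreducible character of a proper normal subgroup does not induce irreducibly. -/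
theorem InvChar.eq_top_of_indFun_irr {ϑ : N → ℂ} (hinv : InvChar N ϑ) (hϑ : IsIrrCharacter N ϑ)
    (h : IsIrrCharacter G (indFun N ϑ)) : N = ⊤ := by
  have h1 := hinv.classInner_indFun_self hϑ
  rw [irr_inner_self h] at h1
  exact Subgroup.index_eq_one.1 (by exact_mod_cast h1.symm)

end CL.Char
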