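import Cfsg.Agent.Base

/-!
# Symmetric and alternating squares of a character

For a character `χ` the functions `g ↦ (χ g ^ 2 ± χ (g * g)) / 2` are characters: they are
afforded by the action `X ↦ A X Aᵀ` on symmetric and on skew-symmetric matrices.
-/

set_option autoImplicit false

namespace CL.Char

open Cfsg Module Matrix

section Trace

variable {n : Type*} [Fintype n] [DecidableEq n]

theorem stdBasis_repr_apply (X : Matrix n n ℂ) (p : n × n) :
    (Matrix.stdBasis ℂ n n).repr X p = X p.1 p.2 := by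
  have h : X = ∑ q : n × n, X q.1 q.2 • Matrix.stdBasis ℂ n n q := by
    conv_lhs => rw [Matrix.matrix_eq_sum_single X]
    rw [Fintype.sum_prod_type]
    refine Finset.sum_congr rfl fun i _ => Finset.sum_congr rfl fun j _ => ?_
    rw [Matrix.stdBasis_eq_single, Matrix.smul_single, smul_eq_mul, mul_one]
  conv_lhs => rw [h]
  exact congrFun ((Matrix.stdBasis ℂ n n).repr_sum_self fun q => X q.1 q.2) p

/-- The trace of an endomorphism of the space of matrices. -/
theorem trace_matrix_end (Φ : Matrix n n ℂ →ₗ[ℂ] Matrix n n ℂ) :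
    LinearMap.trace ℂ _ Φ = ∑ i, ∑ j, Φ (Matrix.single i j 1) i j := by
  rw [LinearMap.trace_eq_matrix_trace ℂ (Matrix.stdBasis ℂ n n), Matrix.trace,
    Fintype.sum_prod_type]
  refine Finset.sum_congr rfl fun i _ => Finset.sum_congr rfl fun j _ => ?_
  rw [Matrix.diag_apply, LinearMap.toMatrix_apply, stdBasis_repr_apply, Matrix.stdBasis_eq_single]

/-- The linear map `X ↦ A * X * B` on matrices. -/
def mulLR (A B : Matrix n n ℂ) : Matrix n n ℂ →ₗ[ℂ] Matrix n n ℂ where
  toFun X := A * X * B
  map_add' X Y := by rw [Matrix.mul_add, Matrix.add_mul]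
  map_smul' c X := by simp

theorem mulLR_apply (A B X : Matrix n n ℂ) : mulLR A B X = A * X * B := rfl

theorem mul_single_mul_apply (A B : Matrix n n ℂ) (i j k l : n) :
    (A * Matrix.single i j (1 : ℂ) * B) k l = A k i * B j l := by
  rw [Matrix.mul_assoc, Matrix.mul_apply, Finset.sum_eq_single i]
  · simp
  · intro b _ hb
    rw [Matrix.single_mul_apply_of_ne _ _ _ _ _ hb, mul_zero]
  · simp

theorem trace_mulLR (A B : Matrix n n ℂ) :
    LinearMap.trace ℂ _ (mulLR A B) = A.trace * B.trace := by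
  rw [trace_matrix_end, Matrix.trace, Matrix.trace, Finset.sum_mul_sum]
  simp [mulLR_apply, mul_single_mul_apply]

theorem trace_mulLR_comp_transpose (A B : Matrix n n ℂ) :
    LinearMap.trace ℂ _ (mulLR A B ∘ₗ (Matrix.transposeLinearEquiv n n ℂ ℂ).toLinearMap) =
      (A * Bᵀ).trace := by
  rw [trace_matrix_end, Matrix.trace]
  simp [mulLR_apply, mul_single_mul_apply, Matrix.mul_apply (M := A) (N := Bᵀ)]

end Trace

section Idem

variable {k : Type*} [Field k] {G : Type*} [Group G] {V : Type*} [AddCommGroup V] [Module k V]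

/-- The range of an equivariant endomorphism as a subrepresentation. -/
def rangeSub (ρ : Representation k G V) (p : V →ₗ[k] V) (hc : ∀ g, p ∘ₗ ρ g = ρ g ∘ₗ p) :
    Subrepresentation ρ where
  toSubmodule := LinearMap.range p
  apply_mem_toSubmodule g := by
    rintro _ ⟨v, rfl⟩
    exact ⟨ρ g v, LinearMap.congr_fun (hc g) v⟩

/-- The character of the range of an equivariant idempotent. -/
theorem character_rangeSub [FiniteDimensional k V] (ρ : Representation k G V) (p : V →ₗ[k] V)
    (hc : ∀ g, p ∘ₗ ρ g = ρ g ∘ₗ p) (hp : p ∘ₗ p = p) (g : G) :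
    (rangeSub ρ p hc).toRepresentation.character g = LinearMap.trace k V (ρ g ∘ₗ p) := by
  have h1 : ∀ x, (ρ g ∘ₗ p) x ∈ LinearMap.range p := fun x =>
    ⟨ρ g x, LinearMap.congr_fun (hc g) x⟩
  rw [← LinearMap.trace_restrict_eq_of_forall_mem (LinearMap.range p) (ρ g ∘ₗ p) h1]
  unfold Representation.character
  congr 1
  ext ⟨_, v, rfl⟩
  change ρ g (p v) = ρ g (p (p v))
  rw [show p (p v) = p v from LinearMap.congr_fun hp v]

end Idem

section Sq

variable {G : Type*} [Group G] {n : ℕ}

/-- The matrix of `ρ g`. -/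
noncomputable def repMat (ρ : Representation ℂ G (Fin n → ℂ)) : G →* Matrix (Fin n) (Fin n) ℂ where
  toFun g := LinearMap.toMatrix' (ρ g)
  map_one' := by rw [map_one, LinearMap.toMatrix'_one]
  map_mul' g h := by rw [map_mul, LinearMap.toMatrix'_mul]

theorem repMat_apply (ρ : Representation ℂ G (Fin n → ℂ)) (g : G) :
    repMat ρ g = LinearMap.toMatrix' (ρ g) := rfl

theorem trace_repMat (ρ : Representation ℂ G (Fin n → ℂ)) (g : G) :
    (repMat ρ g).trace = ρ.character g := by
  rw [repMat_apply, ← Matrix.trace_toLin'_eq, Matrix.toLin'_toMatrix']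
  rfl

theorem repMat_mulVec (ρ : Representation ℂ G (Fin n → ℂ)) (g : G) (v : Fin n → ℂ) :
    repMat ρ g *ᵥ v = ρ g v := by
  rw [repMat_apply, LinearMap.toMatrix'_mulVec]

/-- The representation `X ↦ A X Aᵀ` on square matrices (the tensor square). -/
noncomputable def sqRep (ρ : Representation ℂ G (Fin n → ℂ)) :
    Representation ℂ G (Matrix (Fin n) (Fin n) ℂ) where
  toFun g := mulLR (repMat ρ g) (repMat ρ g)ᵀ
  map_one' := by ext1 X; simp [mulLR_apply]
  map_mul' g h := by ext1 X; simp [mulLR_apply, Matrix.mul_assoc]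

theorem sqRep_apply (ρ : Representation ℂ G (Fin n → ℂ)) (g : G) (X : Matrix (Fin n) (Fin n) ℂ) :
    sqRep ρ g X = repMat ρ g * X * (repMat ρ g)ᵀ := rfl

/-- The projection `X ↦ (X + ε Xᵀ) / 2`. -/
noncomputable def symProj (n : ℕ) (ε : ℂ) :
    Matrix (Fin n) (Fin n) ℂ →ₗ[ℂ] Matrix (Fin n) (Fin n) ℂ :=
  (2 : ℂ)⁻¹ • (LinearMap.id + ε • (Matrix.transposeLinearEquiv (Fin n) (Fin n) ℂ ℂ).toLinearMap)

theorem symProj_apply (ε : ℂ) (X : Matrix (Fin n) (Fin n) ℂ) :
    symProj n ε X = (2 : ℂ)⁻¹ • (X + ε • Xᵀ) := rfl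

theorem symProj_comm (ρ : Representation ℂ G (Fin n → ℂ)) (ε : ℂ) (g : G) :
    symProj n ε ∘ₗ sqRep ρ g = sqRep ρ g ∘ₗ symProj n ε := by
  ext1 X
  simp [symProj_apply, sqRep_apply, Matrix.mul_add, Matrix.add_mul, Matrix.mul_assoc]

theorem transpose_symProj {ε : ℂ} (hε : ε * ε = 1) (X : Matrix (Fin n) (Fin n) ℂ) :
    (symProj n ε X)ᵀ = ε • symProj n ε X := by
  rw [symProj_apply, Matrix.transpose_smul, Matrix.transpose_add, Matrix.transpose_smul,
    Matrix.transpose_transpose, smul_comm ε, smul_add ε, smul_smul ε ε, hε, one_smul, add_comm]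

theorem symProj_idem {ε : ℂ} (hε : ε * ε = 1) : symProj n ε ∘ₗ symProj n ε = symProj n ε := by
  ext1 X
  rw [LinearMap.comp_apply, symProj_apply ε (symProj n ε X), transpose_symProj hε, smul_smul, hε,
    one_smul, ← two_smul ℂ, smul_smul]
  simp

theorem trace_sqRep_comp_symProj (ρ : Representation ℂ G (Fin n → ℂ)) (ε : ℂ) (g : G) :
    LinearMap.trace ℂ _ (sqRep ρ g ∘ₗ symProj n ε) =
      (ρ.character g ^ 2 + ε * ρ.character (g * g)) / 2 := by
  rw [symProj, LinearMap.comp_smul, LinearMap.comp_add, LinearMap.comp_smul, map_smul, map_add,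
    map_smul, LinearMap.comp_id]
  change _ • (LinearMap.trace ℂ _ (mulLR _ _) + ε • LinearMap.trace ℂ _ (mulLR _ _ ∘ₗ _)) = _
  rw [trace_mulLR, trace_mulLR_comp_transpose, Matrix.transpose_transpose, Matrix.trace_transpose,
    ← map_mul, trace_repMat, trace_repMat]
  simp only [smul_eq_mul]
  ring

/-- The representation on `ε`-symmetric matrices. -/
noncomputable def symSub (ρ : Representation ℂ G (Fin n → ℂ)) (ε : ℂ) :
    Subrepresentation (sqRep ρ) :=
  rangeSub (sqRep ρ) (symProj n ε) (symProj_comm ρ ε)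

theorem character_symSub (ρ : Representation ℂ G (Fin n → ℂ)) {ε : ℂ} (hε : ε * ε = 1) (g : G) :
    (symSub ρ ε).toRepresentation.character g =
      (ρ.character g ^ 2 + ε * ρ.character (g * g)) / 2 := by
  rw [symSub, character_rangeSub _ _ _ (symProj_idem hε), trace_sqRep_comp_symProj]

/-- A non-zero invariant matrix of an irreducible representation is invertible. -/
theorem det_ne_zero_of_invariant (ρ : Representation ℂ G (Fin n → ℂ)) [ρ.IsIrreducible]
    {X : Matrix (Fin n) (Fin n) ℂ} (hX : X ≠ 0) (hinv : ∀ g, sqRep ρ g X = X) : X.det ≠ 0 := by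
  let W : Subrepresentation ρ :=
    { toSubmodule := LinearMap.range X.mulVecLin
      apply_mem_toSubmodule := by
        rintro g _ ⟨v, rfl⟩
        refine ⟨(repMat ρ g⁻¹)ᵀ *ᵥ v, ?_⟩
        have h := hinv g
        rw [sqRep_apply] at h
        rw [Matrix.mulVecLin_apply, Matrix.mulVecLin_apply, ← repMat_mulVec, Matrix.mulVec_mulVec,
          Matrix.mulVec_mulVec]
        congr 1
        conv_lhs => rw [← h]
        rw [Matrix.mul_assoc, ← Matrix.transpose_mul, ← map_mul, inv_mul_cancel, map_one,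
          Matrix.transpose_one, Matrix.mul_one] }
  rcases eq_bot_or_eq_top W with h | h
  · exfalso
    apply hX
    have h' : LinearMap.range X.mulVecLin = ⊥ := congrArg Subrepresentation.toSubmodule h
    rw [LinearMap.range_eq_bot] at h'
    apply Matrix.toLin'.injective
    rw [map_zero, Matrix.toLin'_apply']
    exact h'
  · have h' : LinearMap.range X.mulVecLin = ⊤ := congrArg Subrepresentation.toSubmodule h
    rw [LinearMap.range_eq_top] at h'
    have : IsUnit X := Matrix.mulVec_surjective_iff_isUnit.mp h'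
    exact ((Matrix.isUnit_iff_isUnit_det X).mp this).ne_zero

/-- If the alternating square of an irreducible representation has a non-zero invariant, the degree
is even. -/
theorem even_of_alt_invariant (ρ : Representation ℂ G (Fin n → ℂ)) [ρ.IsIrreducible]
    (h : finrank ℂ (symSub ρ (-1)).toRepresentation.invariants ≠ 0) : Even n := by
  have hex : ∃ x : (symSub ρ (-1)).toRepresentation.invariants, x ≠ 0 := by
    by_contra hcon
    push Not at hcon
    have : Subsingleton (symSub ρ (-1)).toRepresentation.invariants :=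
      ⟨fun a b => by rw [hcon a, hcon b]⟩
    exact h Module.finrank_zero_of_subsingleton
  obtain ⟨⟨⟨_, Y, rfl⟩, hinv⟩, hne⟩ := hex
  set X := symProj n (-1) Y with hX
  have hX0 : X ≠ 0 := by
    intro h0
    apply hne
    ext1
    ext1
    exact h0
  have hinv' : ∀ g, sqRep ρ g X = X := fun g => congrArg Subtype.val (hinv g)
  have hdet := det_ne_zero_of_invariant ρ hX0 hinv'
  have hT : Xᵀ = (-1 : ℂ) • X := transpose_symProj (by norm_num) Y
  have h2 := congrArg Matrix.det hT
  rw [Matrix.det_transpose, Matrix.det_smul, Fintype.card_fin] at h2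
  by_contra hodd
  rw [Nat.not_even_iff_odd] at hodd
  rw [hodd.neg_one_pow] at h2
  apply hdet
  linear_combination (2 : ℂ)⁻¹ * h2

end Sq

end CL.Char
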