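import Cfsg.Agent.Char.BrauerMono
import Cfsg.Agent.Char.SymAlt

/-!
# Realisability of characters over subfields of `ℂ`; Brauer's splitting field theorem
-/

set_option autoImplicit false

namespace CL.Char

open Cfsg Module
open scoped ComplexConjugate

variable (F : Type*) [Field F] [Algebra F ℂ] {G : Type*} [Group G]

/-- `χ` is afforded by a representation over the field `F`. -/
def IsCharOver (χ : G → ℂ) : Prop :=
  ∃ (n : ℕ) (ρ : Representation F G (Fin n → F)), ∀ g, algebraMap F ℂ (ρ.character g) = χ g

/-- `χ` is afforded by an irreducible representation over the field `F`. -/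
def IsIrrOver (χ : G → ℂ) : Prop :=
  ∃ (n : ℕ) (ρ : Representation F G (Fin n → F)), ρ.IsIrreducible ∧
    ∀ g, algebraMap F ℂ (ρ.character g) = χ g

variable {F}

theorem isCharOver_character {V : Type*} [AddCommGroup V] [Module F V] [FiniteDimensional F V]
    (ρ : Representation F G V) : IsCharOver F (fun g => algebraMap F ℂ (ρ.character g)) :=
  ⟨_, repCongr ρ (Module.finBasis F V).equivFun, fun g => by
    rw [← Representation.char_iso (repCongrEquiv ρ (Module.finBasis F V).equivFun)]⟩

theorem isIrrOver_character {V : Type*} [AddCommGroup V] [Module F V] [FiniteDimensional F V]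
    (ρ : Representation F G V) [ρ.IsIrreducible] :
    IsIrrOver F (fun g => algebraMap F ℂ (ρ.character g)) :=
  ⟨_, repCongr ρ (Module.finBasis F V).equivFun,
    isIrreducible_of_equiv (repCongrEquiv ρ (Module.finBasis F V).equivFun), fun g => by
    rw [← Representation.char_iso (repCongrEquiv ρ (Module.finBasis F V).equivFun)]⟩

theorem IsIrrOver.isCharOver {χ : G → ℂ} (h : IsIrrOver F χ) : IsCharOver F χ :=
  let ⟨n, ρ, _, h⟩ := h; ⟨n, ρ, h⟩

theorem isCharOver_zero : IsCharOver F (0 : G → ℂ) :=
  ⟨0, 1, fun g => by rw [character_eq_zero_of_subsingleton]; simp⟩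

theorem IsCharOver.add {χ ψ : G → ℂ} (hχ : IsCharOver F χ) (hψ : IsCharOver F ψ) :
    IsCharOver F (χ + ψ) := by
  obtain ⟨n, ρ, h⟩ := hχ
  obtain ⟨m, σ, h'⟩ := hψ
  have := isCharOver_character (ρ.prod σ)
  rw [character_prod] at this
  simp only [Pi.add_apply, map_add, h, h'] at this
  exact this

/-- Extension of scalars of a matrix representation. -/
noncomputable def repExtend {n : ℕ} (ρ : Representation F G (Fin n → F)) :
    Representation ℂ G (Fin n → ℂ) :=
  (Matrix.toLinAlgEquiv' (R := ℂ) (n := Fin n)).toMonoidHom.comp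
    (((algebraMap F ℂ).mapMatrix (m := Fin n)).toMonoidHom.comp
      ((LinearMap.toMatrixAlgEquiv' (R := F) (n := Fin n)).toMonoidHom.comp ρ))

theorem repExtend_apply {n : ℕ} (ρ : Representation F G (Fin n → F)) (g : G) :
    repExtend ρ g = Matrix.toLin' ((LinearMap.toMatrix' (ρ g)).map (algebraMap F ℂ)) := rfl

theorem character_repExtend {n : ℕ} (ρ : Representation F G (Fin n → F)) (g : G) :
    (repExtend ρ).character g = algebraMap F ℂ (ρ.character g) := by
  unfold Representation.character
  rw [repExtend_apply, Matrix.trace_toLin'_eq, ← AddMonoidHom.map_trace,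
    ← Matrix.trace_toLin'_eq, Matrix.toLin'_toMatrix']

theorem IsCharOver.exists_rep {χ : G → ℂ} (h : IsCharOver F χ) :
    ∃ (n : ℕ) (σ : Representation ℂ G (Fin n → ℂ)), σ.character = χ ∧
      ∀ g i j, LinearMap.toMatrix' (σ g) i j ∈ Set.range (algebraMap F ℂ) := by
  obtain ⟨n, ρ, h⟩ := h
  refine ⟨n, repExtend ρ, funext fun g => by rw [character_repExtend, h], fun g i j => ?_⟩
  rw [repExtend_apply, LinearMap.toMatrix'_toLin']
  exact ⟨_, rfl⟩

theorem IsCharOver.isCharacter {χ : G → ℂ} (h : IsCharOver F χ) : IsCharacter G χ :=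
  let ⟨n, σ, h, _⟩ := h.exists_rep; ⟨n, σ, h⟩

theorem neZero_card_of_algebra [Finite G] : NeZero (Nat.card G : F) :=
  ⟨fun h => natCard_cast_ne_zero G (by rw [← map_natCast (algebraMap F ℂ), h, map_zero])⟩

theorem IsCharOver.mem_span [Finite G] {χ : G → ℂ} (h : IsCharOver F χ) :
    χ ∈ Submodule.span ℤ {φ : G → ℂ | IsIrrOver F φ} := by
  obtain ⟨n, ρ, h⟩ := h
  have := neZero_card_of_algebra (F := F) (G := G)
  rw [← funext h]
  refine rep_induction (k := F) (G := G) (fun V _ _ _ ρ =>
    (fun g => algebraMap F ℂ (ρ.character g)) ∈ Submodule.span ℤ {φ : G → ℂ | IsIrrOver F φ})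
    ?_ ?_ ?_ _ ρ
  · intro V _ _ _ _ ρ
    rw [character_eq_zero_of_subsingleton]
    simp only [Pi.zero_apply, map_zero]
    exact Submodule.zero_mem _
  · intro V _ _ _ ρ hρ
    exact Submodule.subset_span (isIrrOver_character ρ)
  · intro V _ _ _ ρ U U' hc h1 h2
    rw [character_eq_add_of_isCompl U U' hc]
    simp only [Pi.add_apply, map_add]
    exact Submodule.add_mem _ h1 h2

theorem IsIrrOver.inner_eq_zero [Fintype G] {φ ψ : G → ℂ} (hφ : IsIrrOver F φ)
    (hψ : IsIrrOver F ψ) (hne : φ ≠ ψ) : classInner φ ψ = 0 := by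
  rw [classInner_char_right _ hψ.isCharOver.isCharacter]
  obtain ⟨n, ρ, hρ, h⟩ := hφ
  obtain ⟨m, σ, hσ, h'⟩ := hψ
  have := neZero_card_of_algebra (F := F) (G := G)
  have := invertibleOfNonzero (NeZero.ne (Nat.card G : F))
  have : IsEmpty (σ.Equiv ρ) := ⟨fun e => hne (by
    rw [← funext h, ← funext h', Representation.char_iso e])⟩
  have h1 := congrArg (algebraMap F ℂ)
    (Representation.card_inv_mul_sum_char_mul_char_eq_finrank σ ρ)
  rw [Module.finrank_zero_of_subsingleton] at h1
  simpa [h, h'] using h1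

/-- An irreducible character that is an integer combination of characters afforded over `F` is
afforded over `F`. -/
theorem isCharOver_of_mem_span [Finite G] {χ : G → ℂ} (hχ : IsIrrCharacter G χ)
    (h : χ ∈ Submodule.span ℤ {φ : G → ℂ | IsCharOver F φ}) : IsCharOver F χ := by
  have := Fintype.ofFinite G
  have h' : χ ∈ Submodule.span ℤ {φ : G → ℂ | IsIrrOver F φ} :=
    (Submodule.span_le.mpr fun φ hφ => IsCharOver.mem_span hφ) h
  obtain ⟨φ, hφ, hne⟩ : ∃ φ, IsIrrOver F φ ∧ classInner φ χ ≠ 0 := by
    by_contra hcon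
    push Not at hcon
    have : ∀ f ∈ Submodule.span ℤ {φ : G → ℂ | IsIrrOver F φ}, classInner f χ = 0 := by
      intro f hf
      induction hf using Submodule.span_induction with
      | mem f hf => exact hcon f hf
      | zero => exact classInner_zero_left _
      | add f g _ _ hf hg => rw [classInner_add_left, hf, hg, add_zero]
      | smul c f _ hf => rw [classInner_zsmul_left, hf, mul_zero]
    have h1 := this χ h'
    rw [irr_inner_self hχ] at h1
    exact one_ne_zero h1
  have hφc := hφ.isCharOver.isCharacter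
  have hdvd : ∀ f ∈ Submodule.span ℤ {φ : G → ℂ | IsIrrOver F φ},
      ∃ c : ℤ, classInner f φ = c * classInner φ φ := by
    intro f hf
    induction hf using Submodule.span_induction with
    | mem f hf =>
      by_cases hfφ : f = φ
      · exact ⟨1, by rw [hfφ]; simp⟩
      · exact ⟨0, by rw [IsIrrOver.inner_eq_zero hf hφ hfφ]; simp⟩
    | zero => exact ⟨0, by simp [classInner_zero_left]⟩
    | add f g _ _ hf hg =>
      obtain ⟨a, ha⟩ := hf
      obtain ⟨b, hb⟩ := hg
      exact ⟨a + b, by rw [classInner_add_left, ha, hb]; push_cast; ring⟩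
    | smul c f _ hf =>
      obtain ⟨a, ha⟩ := hf
      exact ⟨c * a, by rw [classInner_zsmul_left, ha]; push_cast; ring⟩
  obtain ⟨c, hc⟩ := hdvd χ h'
  obtain ⟨m, hm⟩ := char_inner_nat hφc (irr_isCharacter hχ)
  obtain ⟨N, hN⟩ := char_inner_nat hφc hφc
  have hm0 : m ≠ 0 := fun h0 => hne (by rw [hm, h0, Nat.cast_zero])
  rw [char_inner_comm (irr_isCharacter hχ) hφc, hm, hN] at hc
  have h1 : (m : ℤ) = c * N := by exact_mod_cast hc
  have h2 : N ≤ m := Nat.le_of_dvd (Nat.pos_of_ne_zero hm0)
    (Int.natCast_dvd_natCast.mp ⟨c, by rw [h1, mul_comm]⟩)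
  have h3 := sum_norm_sq_inner_le (char_isClassFunction hφc) {⟨χ, hχ⟩}
  rw [Finset.sum_singleton, hm, hN, Complex.norm_natCast, Complex.natCast_re] at h3
  have h4 : m ^ 2 ≤ N := by exact_mod_cast h3
  have h5 : N = 1 := by
    have : 1 ≤ m := Nat.pos_of_ne_zero hm0
    nlinarith
  have h6 : IsIrrCharacter G φ := irr_of_char_norm_one hφc (by rw [hN, h5, Nat.cast_one])
  rw [← irr_eq_of_inner_ne_zero h6 hχ hne]
  exact hφ.isCharOver

section Induced

variable {k : Type*} [Field k]

/-- The regular representation on functions. -/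
def funRegular (k : Type*) [Field k] (G : Type*) [Group G] : Representation k G (G → k) where
  toFun g := LinearMap.funLeft k k fun x => g⁻¹ * x
  map_one' := by ext f x; simp [LinearMap.funLeft_apply]
  map_mul' g h := by ext f x; simp [LinearMap.funLeft_apply, mul_assoc]

theorem funRegular_apply (g : G) (f : G → k) (x : G) : funRegular k G g f x = f (g⁻¹ * x) := rfl

/-- Averaging along right multiplication by `H`, twisted by `lam`. -/
noncomputable def twistAvg (H : Subgroup G) [Fintype H] (lam : H →* k) : (G → k) →ₗ[k] (G → k) :=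
  (Nat.card H : k)⁻¹ • ∑ h : H, lam h • LinearMap.funLeft k k fun x : G => x * h

theorem twistAvg_apply (H : Subgroup G) [Fintype H] (lam : H →* k) (f : G → k) (x : G) :
    twistAvg H lam f x = (Nat.card H : k)⁻¹ * ∑ h : H, lam h * f (x * h) := by
  simp [twistAvg, LinearMap.funLeft_apply]

theorem twistAvg_comm (H : Subgroup G) [Fintype H] (lam : H →* k) (g : G) :
    twistAvg H lam ∘ₗ funRegular k G g = funRegular k G g ∘ₗ twistAvg H lam := by
  ext1 f
  funext x
  simp only [LinearMap.comp_apply, twistAvg_apply, funRegular_apply, mul_assoc]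

theorem twistAvg_idem (H : Subgroup G) [Fintype H] (lam : H →* k) (hH : (Nat.card H : k) ≠ 0) :
    twistAvg H lam ∘ₗ twistAvg H lam = twistAvg H lam := by
  ext1 f
  funext x
  simp only [LinearMap.comp_apply, twistAvg_apply]
  congr 1
  have : ∀ h : H, lam h * ((Nat.card H : k)⁻¹ * ∑ h' : H, lam h' * f (x * h * h')) =
      (Nat.card H : k)⁻¹ * ∑ h' : H, lam h' * f (x * h') := by
    intro h
    rw [mul_left_comm, Finset.mul_sum]
    congr 1
    refine Fintype.sum_equiv (Equiv.mulLeft h) _ _ fun h' => ?_
    simp [mul_assoc]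
  simp only [this]
  rw [Finset.sum_const, Finset.card_univ, nsmul_eq_mul, ← Nat.card_eq_fintype_card, ← mul_assoc,
    mul_inv_cancel₀ hH, one_mul]

open Classical in
theorem trace_funRegular_comp_twistAvg [Fintype G] (H : Subgroup G) [Fintype H] (lam : H →* k)
    (g : G) : LinearMap.trace k _ (funRegular k G g ∘ₗ twistAvg H lam) =
      (Nat.card H : k)⁻¹ * ∑ x : G, if hx : x⁻¹ * g * x ∈ H then lam ⟨_, hx⟩ else 0 := by
  rw [LinearMap.trace_eq_matrix_trace k (Pi.basisFun k G), Matrix.trace, Finset.mul_sum]
  refine Finset.sum_congr rfl fun x _ => ?_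
  rw [Matrix.diag_apply, LinearMap.toMatrix_apply, Pi.basisFun_apply, Pi.basisFun_repr,
    LinearMap.comp_apply, funRegular_apply, twistAvg_apply]
  congr 1
  have key : ∀ h : H, g⁻¹ * x * h = x ↔ (h : G) = x⁻¹ * g * x := by
    intro h
    constructor
    · intro e
      calc (h : G) = x⁻¹ * g * (g⁻¹ * x * h) := by group
        _ = _ := by rw [e]
    · intro e
      rw [e]; group
  simp only [Pi.single_apply, key]
  split_ifs with hx
  · rw [Finset.sum_eq_single ⟨_, hx⟩]
    · simp
    · intro h _ hh
      rw [if_neg (fun e => hh (Subtype.ext e)), mul_zero]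
    · simp
  · refine Finset.sum_eq_zero fun h _ => ?_
    rw [if_neg (fun e : (h : G) = x⁻¹ * g * x => hx (e ▸ h.2)), mul_zero]

end Induced

/-- A character induced from a linear character with values in `F` is afforded over `F`. -/
theorem isCharOver_indFun_linear [Fintype G] (H : Subgroup G) (lam : H →* ℂˣ)
    (h : ∀ x, (lam x : ℂ) ∈ Set.range (algebraMap F ℂ)) :
    IsCharOver F (indFun H fun x => (lam x : ℂ)) := by
  classical
  have := Fintype.ofFinite H
  choose l hl using h
  have hinj := (algebraMap F ℂ).injective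
  let lamF : H →* F :=
    { toFun := l
      map_one' := hinj (by rw [hl]; simp)
      map_mul' := fun a b => hinj (by rw [map_mul, hl, hl, hl]; simp) }
  have hH : (Nat.card H : F) ≠ 0 := (neZero_card_of_algebra (F := F) (G := H)).ne
  have := isCharOver_character
    (rangeSub (funRegular F G) (twistAvg H lamF) (twistAvg_comm H lamF)).toRepresentation
  convert this using 2 with g
  rw [character_rangeSub _ _ _ (twistAvg_idem H lamF hH), trace_funRegular_comp_twistAvg,
    indFun_apply, map_mul, map_inv₀, map_natCast, map_sum]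
  congr 1
  refine Finset.sum_congr rfl fun x _ => ?_
  rw [extendByZero_apply]
  split_ifs
  · exact (hl _).symm
  · simp

/-- **Brauer's splitting field theorem**: if `F` contains the roots of unity of order the exponent
of `G`, every character is afforded over `F`. -/
theorem isCharOver_of_roots [Finite G]
    (hF : ∀ z : ℂ, z ^ Monoid.exponent G = 1 → z ∈ Set.range (algebraMap F ℂ))
    {χ : G → ℂ} (hχ : IsCharacter G χ) : IsCharOver F χ := by
  have := Fintype.ofFinite G
  refine char_induction (P := fun χ => IsCharOver F χ) isCharOver_zero (fun χ hχ => ?_)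
    (fun _ _ _ _ h1 h2 => h1.add h2) hχ
  refine isCharOver_of_mem_span hχ (Submodule.span_mono ?_
    (char_mem_span_elemMono (irr_isCharacter hχ)))
  rintro _ ⟨E, lam, -, rfl⟩
  refine isCharOver_indFun_linear E lam fun x => hF _ ?_
  have : x ^ Monoid.exponent G = 1 := Subtype.ext (by simp [Monoid.pow_exponent_eq_one])
  rw [← Units.val_pow_eq_pow_val, ← map_pow, this, map_one, Units.val_one]

end CL.Char
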