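import Cfsg.Agent.Char.Inner
import Cfsg.Agent.Auto.ASubrepresentation_toRepresentation_f3c9a0
import Cfsg.Agent.Auto.ARepresentation_prod_5ad26f

/-!
# From representations to characters

Transport of representations, closure properties of `IsCharacter`, decomposition of a character
into irreducible characters, Schur's lemma in scalar form, linear characters, eigenvalues.
-/

set_option autoImplicit false

open Cfsg Module
open scoped ComplexConjugate

namespace CL.Char

section General

variable {k : Type*} [Field k] {G : Type*} [Monoid G]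
variable {V : Type*} [AddCommGroup V] [Module k V] {W : Type*} [AddCommGroup W] [Module k W]

/-- transport a representation along a linear equivalence -/
noncomputable def repCongr (ρ : Representation k G V) (e : V ≃ₗ[k] W) : Representation k G W :=
  (e.conjAlgEquiv k).toMonoidHom.comp ρ

theorem repCongr_apply (ρ : Representation k G V) (e : V ≃ₗ[k] W) (g : G) (w : W) :
    repCongr ρ e g w = e (ρ g (e.symm w)) := rfl

/-- a representation is equivalent to its transport -/
noncomputable def repCongrEquiv (ρ : Representation k G V) (e : V ≃ₗ[k] W) :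
    ρ.Equiv (repCongr ρ e) :=
  Representation.Equiv.mk e fun g => by ext v; simp [repCongr_apply]

theorem repEquiv_apply {ρ : Representation k G V} {σ : Representation k G W} (φ : ρ.Equiv σ)
    (g : G) (v : V) : φ (ρ g v) = σ g (φ v) :=
  φ.toIntertwiningMap.isIntertwining _ _ g v

/-- subrepresentations correspond under an equivalence -/
def subrepOrderIso {ρ : Representation k G V} {σ : Representation k G W} (φ : ρ.Equiv σ) :
    Subrepresentation ρ ≃o Subrepresentation σ where
  toFun U := ⟨U.toSubmodule.comap φ.symm.toLinearEquiv.toLinearMap, fun g v hv => by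
    have h : φ.symm (σ g v) = ρ g (φ.symm v) := repEquiv_apply φ.symm g v
    change φ.symm (σ g v) ∈ U.toSubmodule
    rw [h]; exact U.apply_mem_toSubmodule g hv⟩
  invFun U := ⟨U.toSubmodule.comap φ.toLinearEquiv.toLinearMap, fun g v hv => by
    have h : φ (ρ g v) = σ g (φ v) := repEquiv_apply φ g v
    change φ (ρ g v) ∈ U.toSubmodule
    rw [h]; exact U.apply_mem_toSubmodule g hv⟩
  left_inv U := by
    ext v
    change φ.symm (φ v) ∈ U.toSubmodule ↔ _
    rw [φ.symm_apply_apply]
  right_inv U := by
    ext v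
    change φ (φ.symm v) ∈ U.toSubmodule ↔ _
    rw [φ.apply_symm_apply]
  map_rel_iff' {U U'} := by
    constructor
    · intro h v hv
      have : φ v ∈ U.toSubmodule.comap φ.symm.toLinearEquiv.toLinearMap := by
        change φ.symm (φ v) ∈ U.toSubmodule
        rw [φ.symm_apply_apply]; exact hv
      have h2 : φ.symm (φ v) ∈ U'.toSubmodule := h this
      rw [φ.symm_apply_apply] at h2; exact h2
    · intro h v hv
      exact h hv

theorem isIrreducible_of_equiv {ρ : Representation k G V} {σ : Representation k G W}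
    (φ : ρ.Equiv σ) [h : ρ.IsIrreducible] : σ.IsIrreducible :=
  (subrepOrderIso φ).isSimpleOrder_iff.mp h

theorem isIrreducible_iff_of_equiv {ρ : Representation k G V} {σ : Representation k G W}
    (φ : ρ.Equiv σ) : ρ.IsIrreducible ↔ σ.IsIrreducible :=
  (subrepOrderIso φ).isSimpleOrder_iff

theorem subrep_eq_bot_iff {ρ : Representation k G V} (U : Subrepresentation ρ) :
    U = ⊥ ↔ U.toSubmodule = ⊥ :=
  ⟨fun h => by rw [h]; rfl, fun h => Subrepresentation.ext h⟩

theorem subrep_eq_top_iff {ρ : Representation k G V} (U : Subrepresentation ρ) :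
    U = ⊤ ↔ U.toSubmodule = ⊤ :=
  ⟨fun h => by rw [h]; rfl, fun h => Subrepresentation.ext h⟩

/-- irreducibility in terms of invariant submodules -/
theorem isIrreducible_iff (ρ : Representation k G V) :
    ρ.IsIrreducible ↔ Nontrivial V ∧
      ∀ U : Submodule k V, (∀ g, ∀ v ∈ U, ρ g v ∈ U) → U = ⊥ ∨ U = ⊤ := by
  constructor
  · intro h
    refine ⟨?_, fun U hU => ?_⟩
    · by_contra hV
      rw [not_nontrivial_iff_subsingleton] at hV
      exact (bot_ne_top (α := Subrepresentation ρ)) (Subrepresentation.ext (Subsingleton.elim _ _))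
    · rcases h.eq_bot_or_eq_top ⟨U, fun g v hv => hU g v hv⟩ with h | h
      · exact Or.inl ((subrep_eq_bot_iff _).mp h)
      · exact Or.inr ((subrep_eq_top_iff _).mp h)
  · rintro ⟨hV, h⟩
    have : Nontrivial (Subrepresentation ρ) := ⟨⊥, ⊤, fun h => by
      have := congrArg Subrepresentation.toSubmodule h
      exact bot_ne_top (α := Submodule k V) this⟩
    refine ⟨fun U => ?_⟩
    rcases h U.toSubmodule (fun g v hv => U.apply_mem_toSubmodule g hv) with h | h
    · exact Or.inl ((subrep_eq_bot_iff _).mpr h)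
    · exact Or.inr ((subrep_eq_top_iff _).mpr h)

theorem nontrivial_of_isIrreducible (ρ : Representation k G V) [h : ρ.IsIrreducible] :
    Nontrivial V := ((isIrreducible_iff ρ).mp h).1

theorem finrank_pos_of_isIrreducible [FiniteDimensional k V] (ρ : Representation k G V)
    [ρ.IsIrreducible] : 0 < finrank k V :=
  haveI := nontrivial_of_isIrreducible ρ
  finrank_pos

/-- a one-dimensional representation is irreducible -/
theorem isIrreducible_of_finrank_eq_one (ρ : Representation k G V) (h : finrank k V = 1) :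
    ρ.IsIrreducible := by
  rw [isIrreducible_iff]
  refine ⟨Module.nontrivial_of_finrank_eq_succ h, fun U _ => ?_⟩
  have := (isSimpleModule_iff_finrank_eq_one (R := k) (M := V)).mpr h
  exact eq_bot_or_eq_top U

/-- pulling back an irreducible representation along a surjection gives an irreducible one -/
theorem isIrreducible_comp_iff {H : Type*} [Monoid H] (ρ : Representation k G V) (f : H →* G)
    (hf : Function.Surjective f) :
    Representation.IsIrreducible (ρ.comp f : Representation k H V) ↔ ρ.IsIrreducible := by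
  rw [isIrreducible_iff, isIrreducible_iff]
  refine and_congr_right fun _ => forall_congr' fun U => ?_
  refine imp_congr_left ⟨fun h g => ?_, fun h g => h (f g)⟩
  obtain ⟨x, rfl⟩ := hf g
  exact h x

/-- if a restriction is irreducible so is the representation -/
theorem isIrreducible_of_comp_hom {H : Type*} [Monoid H] (ρ : Representation k G V) (f : H →* G)
    (h : Representation.IsIrreducible (ρ.comp f : Representation k H V)) : ρ.IsIrreducible := by
  rw [isIrreducible_iff] at h ⊢
  exact ⟨h.1, fun U hU => h.2 U fun x => hU (f x)⟩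

theorem character_comp {H : Type*} [Monoid H] (ρ : Representation k G V) (f : H →* G) (h : H) :
    Representation.character (ρ.comp f : Representation k H V) h = ρ.character (f h) := rfl

theorem character_prod [FiniteDimensional k V] [FiniteDimensional k W]
    (ρ : Representation k G V) (σ : Representation k G W) :
    (ρ.prod σ).character = ρ.character + σ.character := by
  funext g
  exact LinearMap.trace_prodMap' (ρ g) (σ g)

/-- a representation is the product of two complementary subrepresentations -/
noncomputable def prodEquivOfIsCompl {ρ : Representation k G V} (U U' : Subrepresentation ρ)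
    (h : IsCompl U.toSubmodule U'.toSubmodule) :
    (U.toRepresentation.prod U'.toRepresentation).Equiv ρ :=
  Representation.Equiv.mk (Submodule.prodEquivOfIsCompl _ _ h) fun g => by
    refine LinearMap.ext fun ⟨u, u'⟩ => ?_
    simp [Representation.prod, Subrepresentation.toRepresentation]

theorem character_eq_add_of_isCompl [FiniteDimensional k V] {ρ : Representation k G V}
    (U U' : Subrepresentation ρ) (h : IsCompl U.toSubmodule U'.toSubmodule) :
    ρ.character = U.toRepresentation.character + U'.toRepresentation.character := by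
  rw [← Representation.char_iso (prodEquivOfIsCompl U U' h), character_prod]

theorem isCompl_toSubmodule {ρ : Representation k G V} {U U' : Subrepresentation ρ}
    (h : IsCompl U U') : IsCompl U.toSubmodule U'.toSubmodule :=
  ⟨disjoint_iff.mpr (congrArg Subrepresentation.toSubmodule h.disjoint.eq_bot),
   codisjoint_iff.mpr (congrArg Subrepresentation.toSubmodule h.codisjoint.eq_top)⟩

theorem character_eq_zero_of_subsingleton [Subsingleton V] (ρ : Representation k G V) :
    ρ.character = 0 := by
  funext g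
  rw [Representation.character, Subsingleton.elim (ρ g) 0, map_zero]; rfl

/-- Schur's lemma, scalar form -/
theorem exists_eq_smul_of_comm [FiniteDimensional k V] [IsAlgClosed k] (ρ : Representation k G V)
    [ρ.IsIrreducible] (T : V →ₗ[k] V) (hT : ∀ g v, T (ρ g v) = ρ g (T v)) :
    ∃ c : k, T = c • LinearMap.id := by
  obtain ⟨c, hc⟩ := (Representation.IsIrreducible.algebraMap_intertwiningMap_bijective_of_isAlgClosed
    (ρ := ρ)).2 (T.intertwiningMap_of_isIntertwiningMap ρ ρ hT)
  refine ⟨c, LinearMap.ext fun v => ?_⟩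
  have := congrArg (fun f : ρ.IntertwiningMap ρ => f v) hc
  exact this.symm

/-- the one-dimensional representation given by a homomorphism to the field -/
noncomputable def repOfHom (f : G →* k) : Representation k G k :=
  (Algebra.lsmul k k k).toMonoidHom.comp f

theorem repOfHom_apply (f : G →* k) (g : G) (x : k) : repOfHom f g x = f g * x := rfl

theorem character_repOfHom (f : G →* k) : (repOfHom f).character = f := by
  funext g
  have : repOfHom f g = f g • (LinearMap.id : k →ₗ[k] k) := by ext; simp [repOfHom_apply]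
  rw [Representation.character, this]; simp

theorem isIrreducible_repOfHom (f : G →* k) : (repOfHom f).IsIrreducible :=
  isIrreducible_of_finrank_eq_one _ (finrank_self k)

/-- the character of a one-dimensional representation is multiplicative -/
theorem character_mul_of_finrank_eq_one (ρ : Representation k G V) (h : finrank k V = 1)
    (a b : G) : ρ.character (a * b) = ρ.character a * ρ.character b := by
  have : FiniteDimensional k V := FiniteDimensional.of_finrank_eq_succ h
  obtain ⟨c, hc⟩ := (LinearMap.existsUnique_eq_smul_id_of_finrank_eq_one h (ρ a)).exists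
  simp only [Representation.character, map_mul, hc, ← Module.End.one_eq_id, smul_mul_assoc,
    one_mul, map_smul, LinearMap.trace_one, h, smul_eq_mul, Nat.cast_one, mul_one]

end General

section Induction

universe w

variable {k : Type*} [Field k] {G : Type*} [Group G] [Finite G] [NeZero (Nat.card G : k)]

/-- Induction over completely reducible representations. -/
theorem rep_induction
    (P : ∀ (V : Type w) [AddCommGroup V] [Module k V] [FiniteDimensional k V],
      Representation k G V → Prop)
    (h0 : ∀ (V : Type w) [AddCommGroup V] [Module k V] [FiniteDimensional k V] [Subsingleton V]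
      (ρ : Representation k G V), P V ρ)
    (hirr : ∀ (V : Type w) [AddCommGroup V] [Module k V] [FiniteDimensional k V]
      (ρ : Representation k G V), ρ.IsIrreducible → P V ρ)
    (hadd : ∀ (V : Type w) [AddCommGroup V] [Module k V] [FiniteDimensional k V]
      (ρ : Representation k G V) (U U' : Subrepresentation ρ),
      IsCompl U.toSubmodule U'.toSubmodule → P _ U.toRepresentation → P _ U'.toRepresentation →
        P V ρ)
    (V : Type w) [AddCommGroup V] [Module k V] [FiniteDimensional k V]
    (ρ : Representation k G V) : P V ρ := by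
  induction hn : finrank k V using Nat.strong_induction_on generalizing V with
  | _ n ih =>
    rcases subsingleton_or_nontrivial V with hV | hV
    · exact h0 V ρ
    by_cases hi : ρ.IsIrreducible
    · exact hirr V ρ hi
    rw [isIrreducible_iff] at hi
    push Not at hi
    obtain ⟨U, hU, hb, ht⟩ := hi hV
    let U₁ : Subrepresentation ρ := ⟨U, fun g v hv => hU g v hv⟩
    obtain ⟨U₂, h₂⟩ := exists_isCompl U₁
    have h₂' := isCompl_toSubmodule h₂
    refine hadd V ρ U₁ U₂ h₂' (ih _ ?_ _ _ rfl) (ih _ ?_ _ _ rfl)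
    · rw [← hn]; exact Submodule.finrank_lt ht
    · rw [← hn]
      refine Submodule.finrank_lt fun h => hb ?_
      have := h₂'.disjoint
      rw [h] at this
      exact disjoint_top.mp this

end Induction

section Characters

variable {G : Type*} [Group G]
variable {V : Type*} [AddCommGroup V] [Module ℂ V] [FiniteDimensional ℂ V]

/-- the character of any finite-dimensional complex representation is an `IsCharacter` -/
theorem isCharacter_character (ρ : Representation ℂ G V) : IsCharacter G ρ.character :=
  ⟨finrank ℂ V, repCongr ρ (Module.finBasis ℂ V).equivFun,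
    (Representation.char_iso (repCongrEquiv ρ _)).symm⟩

theorem isIrrCharacter_character (ρ : Representation ℂ G V) [ρ.IsIrreducible] :
    IsIrrCharacter G ρ.character :=
  ⟨finrank ℂ V, repCongr ρ (Module.finBasis ℂ V).equivFun,
    isIrreducible_of_equiv (repCongrEquiv ρ _), (Representation.char_iso (repCongrEquiv ρ _)).symm⟩

theorem irr_isCharacter {χ : G → ℂ} (h : IsIrrCharacter G χ) : IsCharacter G χ := by
  obtain ⟨n, ρ, -, h⟩ := h
  exact ⟨n, ρ, h⟩

theorem char_isClassFunction {χ : G → ℂ} (h : IsCharacter G χ) : IsClassFunction G χ := by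
  obtain ⟨n, ρ, rfl⟩ := h
  exact fun g h => ρ.char_conj g h

theorem irr_isClassFunction {χ : G → ℂ} (h : IsIrrCharacter G χ) : IsClassFunction G χ :=
  char_isClassFunction (irr_isCharacter h)

theorem char_zero : IsCharacter G 0 :=
  ⟨0, Representation.trivial ℂ G _, character_eq_zero_of_subsingleton _⟩

theorem char_add {χ ψ : G → ℂ} (hχ : IsCharacter G χ) (hψ : IsCharacter G ψ) :
    IsCharacter G (χ + ψ) := by
  obtain ⟨n, ρ, rfl⟩ := hχ
  obtain ⟨m, σ, rfl⟩ := hψ
  rw [← character_prod]
  exact isCharacter_character _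

theorem char_mul {χ ψ : G → ℂ} (hχ : IsCharacter G χ) (hψ : IsCharacter G ψ) :
    IsCharacter G (χ * ψ) := by
  obtain ⟨n, ρ, rfl⟩ := hχ
  obtain ⟨m, σ, rfl⟩ := hψ
  rw [← Representation.char_tensor]
  exact isCharacter_character _

theorem char_sum {ι : Type*} (s : Finset ι) {χ : ι → G → ℂ} (h : ∀ i ∈ s, IsCharacter G (χ i)) :
    IsCharacter G (∑ i ∈ s, χ i) :=
  Finset.sum_induction _ (IsCharacter G) (fun _ _ => char_add) char_zero h

theorem char_nsmul (n : ℕ) {χ : G → ℂ} (h : IsCharacter G χ) : IsCharacter G (n • χ) := by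
  induction n with
  | zero => rw [zero_smul]; exact char_zero
  | succ n ih => rw [succ_nsmul]; exact char_add ih h

theorem char_natCast_smul (n : ℕ) {χ : G → ℂ} (h : IsCharacter G χ) :
    IsCharacter G ((n : ℂ) • χ) := by
  rw [Nat.cast_smul_eq_nsmul]; exact char_nsmul n h

theorem char_comp {H : Type*} [Group H] {χ : G → ℂ} (h : IsCharacter G χ) (f : H →* G) :
    IsCharacter H (fun x => χ (f x)) := by
  obtain ⟨n, ρ, rfl⟩ := h
  exact ⟨n, ρ.comp f, rfl⟩

theorem char_restrict {χ : G → ℂ} (h : IsCharacter G χ) (H : Subgroup G) :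
    IsCharacter H (fun x : H => χ x) := char_comp h H.subtype

/-- inflation along a surjection preserves irreducibility -/
theorem irr_comp_surjective {H : Type*} [Group H] {χ : G → ℂ} (h : IsIrrCharacter G χ)
    (f : H →* G) (hf : Function.Surjective f) : IsIrrCharacter H (fun x => χ (f x)) := by
  obtain ⟨n, ρ, hρ, rfl⟩ := h
  exact ⟨n, ρ.comp f, (isIrreducible_comp_iff ρ f hf).mpr hρ, rfl⟩

theorem irr_comp_mulEquiv {H : Type*} [Group H] {χ : G → ℂ} (h : IsIrrCharacter G χ)
    (e : H ≃* G) : IsIrrCharacter H (fun x => χ (e x)) :=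
  irr_comp_surjective h e.toMonoidHom e.surjective

theorem irr_monoidHom (f : G →* ℂ) : IsIrrCharacter G f := by
  have := isIrreducible_repOfHom f
  rw [← character_repOfHom f]
  exact isIrrCharacter_character _

theorem irr_unitsHom (f : G →* ℂˣ) : IsIrrCharacter G (fun g => (f g : ℂ)) :=
  irr_monoidHom ((Units.coeHom ℂ).comp f)

theorem irr_one : IsIrrCharacter G (fun _ => 1) := irr_monoidHom (1 : G →* ℂ)

theorem char_one : IsCharacter G (fun _ => 1) := irr_isCharacter irr_one

theorem char_unitsHom (f : G →* ℂˣ) : IsCharacter G (fun g => (f g : ℂ)) :=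
  irr_isCharacter (irr_unitsHom f)

theorem char_pow {χ : G → ℂ} (h : IsCharacter G χ) (n : ℕ) : IsCharacter G (χ ^ n) := by
  induction n with
  | zero => rw [pow_zero]; exact char_one
  | succ n ih => rw [pow_succ]; exact char_mul ih h

theorem char_prod {ι : Type*} (s : Finset ι) {χ : ι → G → ℂ} (h : ∀ i ∈ s, IsCharacter G (χ i)) :
    IsCharacter G (∏ i ∈ s, χ i) :=
  Finset.prod_induction _ (IsCharacter G) (fun _ _ => char_mul) char_one h

/-- the contragredient character -/
theorem char_inv {χ : G → ℂ} (h : IsCharacter G χ) : IsCharacter G (fun g => χ g⁻¹) := by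
  obtain ⟨n, ρ, rfl⟩ := h
  have : (fun g => ρ.character g⁻¹) = ρ.dual.character := funext fun g => (ρ.char_dual g).symm
  rw [this]
  exact isCharacter_character _

theorem char_apply_one {χ : G → ℂ} (h : IsCharacter G χ) : ∃ n : ℕ, χ 1 = n := by
  obtain ⟨n, ρ, rfl⟩ := h
  exact ⟨_, ρ.char_one⟩

theorem irr_apply_one {χ : G → ℂ} (h : IsIrrCharacter G χ) : ∃ n : ℕ, 0 < n ∧ χ 1 = n := by
  obtain ⟨n, ρ, hρ, rfl⟩ := h
  exact ⟨_, finrank_pos_of_isIrreducible ρ, ρ.char_one⟩

theorem irr_apply_one_ne_zero {χ : G → ℂ} (h : IsIrrCharacter G χ) : χ 1 ≠ 0 := by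
  obtain ⟨n, hn, h⟩ := irr_apply_one h
  rw [h]; exact Nat.cast_ne_zero.mpr hn.ne'

theorem irr_ne_zero {χ : G → ℂ} (h : IsIrrCharacter G χ) : χ ≠ 0 := fun h0 =>
  irr_apply_one_ne_zero h (by rw [h0]; rfl)

theorem char_eq_zero_of_apply_one {χ : G → ℂ} (h : IsCharacter G χ) (h1 : χ 1 = 0) : χ = 0 := by
  obtain ⟨n, ρ, rfl⟩ := h
  rw [ρ.char_one, Nat.cast_eq_zero] at h1
  have := Module.finrank_zero_iff.mp h1
  exact character_eq_zero_of_subsingleton ρ

/-- a character of degree one is a homomorphism to `ℂˣ` -/
theorem char_exists_unitsHom {χ : G → ℂ} (h : IsCharacter G χ) (h1 : χ 1 = 1) :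
    ∃ f : G →* ℂˣ, χ = fun g => (f g : ℂ) := by
  obtain ⟨n, ρ, rfl⟩ := h
  have hn : finrank ℂ (Fin n → ℂ) = 1 := by
    rw [ρ.char_one] at h1; exact_mod_cast h1
  let f : G →* ℂ := ⟨⟨ρ.character, h1⟩, character_mul_of_finrank_eq_one ρ hn⟩
  exact ⟨f.toHomUnits, rfl⟩

theorem irr_of_char_apply_one {χ : G → ℂ} (h : IsCharacter G χ) (h1 : χ 1 = 1) :
    IsIrrCharacter G χ := by
  obtain ⟨f, rfl⟩ := char_exists_unitsHom h h1
  exact irr_unitsHom f

/-- irreducible characters of a commutative group have degree one -/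
theorem irr_apply_one_of_comm (hG : ∀ a b : G, a * b = b * a) {χ : G → ℂ}
    (h : IsIrrCharacter G χ) : χ 1 = 1 := by
  obtain ⟨n, ρ, hρ, rfl⟩ := h
  have : IsMulCommutative G := ⟨⟨hG⟩⟩
  rw [ρ.char_one, Representation.IsIrreducible.finrank_eq_one_of_isMulCommutative ρ, Nat.cast_one]

theorem irr_exists_unitsHom_of_comm (hG : ∀ a b : G, a * b = b * a) {χ : G → ℂ}
    (h : IsIrrCharacter G χ) : ∃ f : G →* ℂˣ, χ = fun g => (f g : ℂ) :=
  char_exists_unitsHom (irr_isCharacter h) (irr_apply_one_of_comm hG h)

variable [Finite G]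

theorem neZero_card : NeZero (Nat.card G : ℂ) := ⟨Nat.cast_ne_zero.mpr Nat.card_pos.ne'⟩

/-- Every character is a sum of irreducible characters (induction principle). -/
theorem char_induction {P : (G → ℂ) → Prop} (h0 : P 0) (hirr : ∀ χ, IsIrrCharacter G χ → P χ)
    (hadd : ∀ χ ψ, IsCharacter G χ → IsCharacter G ψ → P χ → P ψ → P (χ + ψ))
    {χ : G → ℂ} (h : IsCharacter G χ) : P χ := by
  obtain ⟨n, ρ, rfl⟩ := h
  have := neZero_card (G := G)
  refine rep_induction (k := ℂ) (G := G) (fun V _ _ _ ρ => P ρ.character) ?_ ?_ ?_ _ ρ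
  · intro V _ _ _ _ ρ
    rw [character_eq_zero_of_subsingleton]; exact h0
  · intro V _ _ _ ρ hρ
    exact hirr _ (isIrrCharacter_character ρ)
  · intro V _ _ _ ρ U U' hc h1 h2
    rw [character_eq_add_of_isCompl U U' hc]
    exact hadd _ _ (isCharacter_character _) (isCharacter_character _) h1 h2

theorem char_exists_multiset {χ : G → ℂ} (h : IsCharacter G χ) :
    ∃ s : Multiset (G → ℂ), (∀ φ ∈ s, IsIrrCharacter G φ) ∧ χ = s.sum := by
  refine char_induction (P := fun χ => ∃ s : Multiset (G → ℂ),
    (∀ φ ∈ s, IsIrrCharacter G φ) ∧ χ = s.sum) ⟨0, by simp, rfl⟩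
    (fun χ hχ => ⟨{χ}, by simpa using hχ, by simp⟩) ?_ h
  rintro _ _ - - ⟨s, hs, rfl⟩ ⟨t, ht, rfl⟩
  refine ⟨s + t, fun φ hφ => ?_, (Multiset.sum_add s t).symm⟩
  rcases Multiset.mem_add.mp hφ with h | h
  exacts [hs φ h, ht φ h]

/-- A character of a commutative group is a sum of `χ 1` homomorphisms to `ℂˣ`. -/
theorem char_exists_multiset_unitsHom_of_comm (hG : ∀ a b : G, a * b = b * a) {χ : G → ℂ}
    (h : IsCharacter G χ) : ∃ s : Multiset (G →* ℂˣ), (s.card : ℂ) = χ 1 ∧
      ∀ g, χ g = (s.map fun f => (f g : ℂ)).sum := by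
  refine char_induction (P := fun χ => ∃ s : Multiset (G →* ℂˣ), (s.card : ℂ) = χ 1 ∧
      ∀ g, χ g = (s.map fun f => (f g : ℂ)).sum) ⟨0, by simp, by simp⟩ ?_ ?_ h
  · intro χ hχ
    obtain ⟨f, rfl⟩ := irr_exists_unitsHom_of_comm hG hχ
    exact ⟨{f}, by simp, by simp⟩
  · rintro χ ψ - - ⟨s, hs, hs'⟩ ⟨t, ht, ht'⟩
    exact ⟨s + t, by simp [hs, ht], fun g => by simp [hs', ht']⟩

/-- Eigenvalues: `χ (g ^ k)` is the sum of the `k`-th powers of `χ 1` roots of unity. -/
theorem char_exists_eigenvalues {χ : G → ℂ} (h : IsCharacter G χ) (g : G) :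
    ∃ s : Multiset ℂ, (s.card : ℂ) = χ 1 ∧ (∀ ζ ∈ s, ζ ^ orderOf g = 1) ∧
      ∀ k : ℤ, χ (g ^ k) = (s.map fun ζ => ζ ^ k).sum := by
  have hc : ∀ a b : Subgroup.zpowers g, a * b = b * a := fun a b => mul_comm' a b
  obtain ⟨s, hs, hs'⟩ := char_exists_multiset_unitsHom_of_comm hc
    (char_restrict h (Subgroup.zpowers g))
  let g' : Subgroup.zpowers g := ⟨g, Subgroup.mem_zpowers g⟩
  refine ⟨s.map fun f => (f g' : ℂ), by simpa using hs, ?_, fun k => ?_⟩
  · intro ζ hζ
    obtain ⟨f, -, rfl⟩ := Multiset.mem_map.mp hζ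
    have : g' ^ orderOf g = 1 := Subtype.ext (by simp [g'])
    rw [← Units.val_pow_eq_pow_val, ← map_pow, this, map_one, Units.val_one]
  · have := hs' (g' ^ k)
    simp only [SubgroupClass.coe_zpow] at this
    rw [this, Multiset.map_map]
    simp

theorem char_exists_eigenvalues_nat {χ : G → ℂ} (h : IsCharacter G χ) (g : G) :
    ∃ s : Multiset ℂ, (s.card : ℂ) = χ 1 ∧ (∀ ζ ∈ s, ζ ^ orderOf g = 1) ∧ χ g = s.sum ∧
      ∀ k : ℕ, χ (g ^ k) = (s.map fun ζ => ζ ^ k).sum := by
  obtain ⟨s, h1, h2, h3⟩ := char_exists_eigenvalues h g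
  refine ⟨s, h1, h2, by simpa using h3 1, fun k => ?_⟩
  simpa using h3 k

omit [Finite G] in
theorem norm_eq_one_of_pow_eq_one {ζ : ℂ} {n : ℕ} (hn : 0 < n) (h : ζ ^ n = 1) : ‖ζ‖ = 1 :=
  Complex.norm_eq_one_of_pow_eq_one h hn.ne'

theorem char_apply_inv {χ : G → ℂ} (h : IsCharacter G χ) (g : G) : χ g⁻¹ = conj (χ g) := by
  obtain ⟨s, -, h2, h3⟩ := char_exists_eigenvalues h g
  have e1 := h3 1
  have e2 := h3 (-1)
  rw [zpow_one] at e1
  rw [zpow_neg, zpow_one] at e2
  rw [e1, e2, map_multiset_sum, Multiset.map_map]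
  congr 1
  refine Multiset.map_congr rfl fun ζ hζ => ?_
  have := norm_eq_one_of_pow_eq_one (orderOf_pos g) (h2 ζ hζ)
  simp [Complex.inv_def, Complex.normSq_eq_norm_sq, this]

theorem character_inv (ρ : Representation ℂ G V) (g : G) :
    ρ.character g⁻¹ = conj (ρ.character g) := char_apply_inv (isCharacter_character ρ) g

theorem char_conj {χ : G → ℂ} (h : IsCharacter G χ) : IsCharacter G (fun g => conj (χ g)) := by
  simpa only [char_apply_inv h] using char_inv h

theorem unitsHom_norm (f : G →* ℂˣ) (g : G) : ‖(f g : ℂ)‖ = 1 := by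
  refine norm_eq_one_of_pow_eq_one (orderOf_pos g) ?_
  rw [← Units.val_pow_eq_pow_val, ← map_pow, pow_orderOf_eq_one, map_one, Units.val_one]

theorem unitsHom_mul_conj (f : G →* ℂˣ) (g : G) : (f g : ℂ) * conj (f g : ℂ) = 1 := by
  rw [Complex.mul_conj, Complex.normSq_eq_norm_sq, unitsHom_norm]; simp

theorem conj_unitsHom (f : G →* ℂˣ) (g : G) : conj (f g : ℂ) = (f g⁻¹ : ℂ) :=
  (char_apply_inv (char_unitsHom f) g).symm

end Characters

end CL.Char
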